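import Cfsg.Agent.Lib.Offender.FullFF
import Cfsg.Agent.Lib.Offender.Factorization

/-!
# Critical offenders in a group with a Sylow subgroup in a unique maximal subgroup

* `Cfg p V X T M`: `T ∈ Syl_p(X)` lies only in the maximal subgroup `M` of `X`, `X` moves `C_V(T)`, and the
  `p`-subgroups normalized by `X` centralize `V`;
* `Crit p V X A`: an elementary abelian offender, faithful on `V`, all of whose proper subgroups are worse;
* `Cfg.inf_le_centralizer`: `T ∩ N` centralizes `V` for `N ≤ M` normalized by `X`;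
* `Cfg.exists_sub`: a proper subgroup over a conjugate of `A`, outside `M`, yields a smaller configuration.
-/

set_option autoImplicit false

namespace Cfsg.Agent.PMinFF

open Subgroup Subnormal

variable {G : Type*} [Group G]

/-! ### Sylow subgroups inside a subgroup -/

section SylowIn

variable [Finite G] {p : ℕ} [Fact p.Prime]

theorem exists_sylow_above {H T₁ : Subgroup G} (h1 : T₁ ≤ H) (h2 : IsPGroup p T₁) :
    ∃ R, T₁ ≤ R ∧ R ≤ H ∧ IsPGroup p R ∧ ¬ p ∣ R.relIndex H := by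
  obtain ⟨P, hP⟩ := (h2.comap_of_injective H.subtype H.subtype_injective :
    IsPGroup p (T₁.subgroupOf H)).exists_le_sylow
  refine ⟨(P : Subgroup H).map H.subtype, ?_, map_subtype_le _, P.2.map _, ?_⟩
  · intro x hx
    exact ⟨⟨x, h1 hx⟩, hP hx, rfl⟩
  · rw [relIndex, ← comap_subtype, comap_map_eq_self_of_injective H.subtype_injective]
    exact P.not_dvd_index

theorem exists_cj_le {H T₁ Q : Subgroup G} (_h1 : T₁ ≤ H) (h2 : IsPGroup p T₁)
    (h3 : ¬ p ∣ T₁.relIndex H) (hQH : Q ≤ H) (hQ : IsPGroup p Q) : ∃ h ∈ H, cj h Q ≤ T₁ := by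
  set S : Sylow p H := (h2.comap_of_injective H.subtype H.subtype_injective :
    IsPGroup p (T₁.subgroupOf H)).toSylow h3 with hS
  obtain ⟨P, hP⟩ := (hQ.comap_of_injective H.subtype H.subtype_injective :
    IsPGroup p (Q.subgroupOf H)).exists_le_sylow
  obtain ⟨h, hh⟩ := MulAction.exists_smul_eq H P S
  refine ⟨h, h.2, ?_⟩
  rintro _ ⟨q, hq, rfl⟩
  have hm : MulAut.conj h (⟨q, hQH hq⟩ : H) ∈ ((h • P : Sylow p H) : Subgroup H) := by
    rw [Sylow.coe_subgroup_smul]
    exact Subgroup.smul_mem_pointwise_smul _ (MulAut.conj h) _ (hP hq)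
  rw [hh] at hm
  exact hm

theorem lt_inf_normalizer {T₁ R : Subgroup G} (hR : IsPGroup p R) (hlt : T₁ < R) :
    T₁ < R ⊓ normalizer (T₁ : Set G) := by
  refine lt_of_le_of_ne (le_inf hlt.le le_normalizer) fun heq => ?_
  have hlt' : T₁.subgroupOf R < ⊤ := lt_top_iff_ne_top.mpr fun h =>
    hlt.ne (le_antisymm hlt.le (subgroupOf_eq_top.mp h))
  obtain ⟨⟨y, hyR⟩, hy, hyn⟩ := SetLike.exists_of_lt (PGroup.lt_normalizer hR hlt'.ne)
  rw [← subgroupOf_normalizer_eq hlt.le, mem_subgroupOf] at hy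
  exact hyn (mem_subgroupOf.mpr (heq.ge ⟨hyR, hy⟩))

end SylowIn

/-- The fixed points of `B` in `V`. -/
abbrev fx (V B : Subgroup G) : Subgroup G := V ⊓ centralizer (B : Set G)

/-- The configuration. -/
structure Cfg (p : ℕ) (V X T M : Subgroup G) : Prop where
  hV : IsElementaryAbelian p V
  hXV : X ≤ normalizer (V : Set G)
  hTX : T ≤ X
  hT : IsPGroup p T
  hTi : ¬ p ∣ T.relIndex X
  hMX : M < X
  hTM : T ≤ M
  huniq : ∀ H : Subgroup G, H < X → T ≤ H → H ≤ M
  moved : ¬ X ≤ centralizer (fx V T : Set G)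
  pker : ∀ J : Subgroup G, J ≤ X → IsPGroup p J → X ≤ normalizer (J : Set G) →
    J ≤ centralizer (V : Set G)

/-- A critical offender: faithful, and every proper nontrivial subgroup is worse. -/
structure Crit (p : ℕ) (V X A : Subgroup G) : Prop where
  AX : A ≤ X
  hA : IsElementaryAbelian p A
  inj : A ⊓ centralizer (V : Set G) = ⊥
  ne : A ≠ ⊥
  le : Nat.card V ≤ Nat.card A * Nat.card (fx V A)
  strict : ∀ B ≤ A, B ≠ ⊥ → B ≠ A → Nat.card B * Nat.card (fx V B) < Nat.card A * Nat.card (fx V A)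

/-- No elementary abelian subgroup of `X`, faithful on `V`, over-offends. -/
def NoOver (p : ℕ) (V X : Subgroup G) : Prop :=
  ∀ B : Subgroup G, B ≤ X → IsElementaryAbelian p B → B ⊓ centralizer (V : Set G) = ⊥ →
    Nat.card B * Nat.card (fx V B) ≤ Nat.card V

section Crit

variable {p : ℕ} {V X A : Subgroup G}

theorem Crit.not_le_centralizer (h : Crit p V X A) : ¬ A ≤ centralizer (V : Set G) :=
  fun hle => h.ne ((inf_eq_left.mpr hle).symm.trans h.inj)

theorem Crit.isPGroup [Fact p.Prime] (h : Crit p V X A) : IsPGroup p A :=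
  PGroup.isPGroup_of_elementaryAbelian h.hA

theorem cj_centralizer (x : G) (B : Subgroup G) :
    cj x (centralizer (B : Set G)) = centralizer ((cj x B : Subgroup G) : Set G) :=
  Offender.map_centralizer_equiv (MulAut.conj x) B

theorem cj_fx {x : G} (hx : x ∈ normalizer (V : Set G)) (B : Subgroup G) :
    cj x (fx V B) = fx V (cj x B) := by
  rw [fx, cj, Subgroup.map_inf _ _ _ (MulAut.conj x).injective]
  exact congrArg₂ (· ⊓ ·) (cj_eq_of_mem_normalizer hx) (cj_centralizer x B)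

theorem card_fx_cj {x : G} (hx : x ∈ normalizer (V : Set G)) (B : Subgroup G) :
    Nat.card (fx V (cj x B)) = Nat.card (fx V B) := by
  rw [← cj_fx hx, card_cj]

theorem isElementaryAbelian_cj (h : IsElementaryAbelian p A) (x : G) :
    IsElementaryAbelian p (cj x A) := by
  refine ⟨PGroup.isMulCommutative_of_forall ?_, ?_⟩
  · rintro _ ⟨a, ha, rfl⟩ _ ⟨b, hb, rfl⟩
    rw [← map_mul, ← map_mul, Offender.commute_mem h.1 ha hb]
  · rintro _ ⟨a, ha, rfl⟩
    rw [← map_pow, h.2 a ha, map_one]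

theorem Crit.conj (h : Crit p V X A) {x : G} (hx : x ∈ X) (hXV : X ≤ normalizer (V : Set G)) :
    Crit p V X (cj x A) := by
  have hxV := hXV hx
  have hxV' : x⁻¹ ∈ normalizer (V : Set G) := inv_mem hxV
  refine ⟨(cj_mono h.AX).trans (cj_eq_of_mem hx).le, isElementaryAbelian_cj h.hA x, ?_, ?_, ?_, ?_⟩
  · rw [show centralizer (V : Set G) = cj x (centralizer (V : Set G)) by
        rw [cj_centralizer, cj_eq_of_mem_normalizer hxV],
      cj, ← Subgroup.map_inf _ _ _ (MulAut.conj x).injective, h.inj, Subgroup.map_bot]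
  · rw [Ne, Subgroup.map_eq_bot_iff_of_injective _ (MulAut.conj x).injective]
    exact h.ne
  · rw [card_cj, card_fx_cj hxV]
    exact h.le
  · intro B hB hB0 hB1
    rw [card_cj, card_fx_cj hxV]
    have e : cj x (cj x⁻¹ B) = B := cj_cj_inv x B
    have h1 := h.strict (cj x⁻¹ B) (by rw [← cj_inv_cj x A]; exact cj_mono hB)
      (fun e' => hB0 (by rw [← e, e']; exact Subgroup.map_bot _))
      (fun e' => hB1 (by rw [← e, e']))
    rwa [card_cj, card_fx_cj hxV'] at h1

end Crit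

section Cfg

variable [Finite G] {p : ℕ} [Fact p.Prime] {V X T M : Subgroup G} (h : Cfg p V X T M)
include h

omit [Finite G] [Fact p.Prime] in
theorem Cfg.fix_le : X ⊓ centralizer (fx V T : Set G) ≤ M :=
  h.huniq _ (lt_of_le_of_ne inf_le_left fun e => h.moved (inf_eq_left.mp e))
    (le_inf h.hTX (le_centralizer_iff.mp inf_le_right))

/-- `T ∩ N` centralizes `V` for `N ≤ M` normalized by `X`. -/
theorem Cfg.inf_le_centralizer {N : Subgroup G} (hn : X ≤ normalizer (N : Set G)) (hNM : N ≤ M) :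
    T ⊓ N ≤ centralizer (V : Set G) := by
  set J := T ⊓ N with hJ
  by_cases hXJ : X ≤ normalizer (J : Set G)
  · exact h.pker J (inf_le_left.trans h.hTX) (h.hT.to_le inf_le_left) hXJ
  exfalso
  have hNX : N ≤ X := hNM.trans h.hMX.le
  have hTJ : T ≤ normalizer (J : Set G) :=
    LocalStructure.le_normalizer_inf le_normalizer (h.hTX.trans hn)
  have hle : X ⊓ normalizer (J : Set G) ≤ M :=
    h.huniq _ (lt_of_le_of_ne inf_le_left fun e => hXJ (inf_eq_left.mp e)) (le_inf h.hTX hTJ)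
  have hNn : (N.subgroupOf X).Normal := (normal_subgroupOf_iff_le_normalizer hNX).mpr hn
  let S : Sylow p X := (h.hT.comap_of_injective X.subtype X.subtype_injective :
    IsPGroup p (T.subgroupOf X)).toSylow h.hTi
  obtain ⟨Q, hQ⟩ := Offender.exists_sylow_eq_inf S (N.subgroupOf X)
  have htop := Q.normalizer_sup_eq_top (N := N.subgroupOf X)
  rw [hQ] at htop
  refine h.hMX.not_ge fun g hg => ?_
  have hmem := htop.ge (mem_top (⟨g, hg⟩ : X))
  obtain ⟨n, hn', k, hk, hnk⟩ := mem_sup_of_normal_right.mp hmem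
  have hg' : g = (n : G) * k := (congrArg Subtype.val hnk).symm
  rw [hg']
  refine mul_mem (hle ⟨n.2, mem_normalizer_of_cj_le ?_⟩) (hNM hk)
  rintro _ ⟨u, hu, rfl⟩
  have hu' : (⟨u, h.hTX hu.1⟩ : X) ∈ (S : Subgroup X) ⊓ N.subgroupOf X := ⟨hu.1, hu.2⟩
  have := (mem_normalizer_iff.mp hn' _).mp hu'
  exact ⟨this.1, this.2⟩

theorem Cfg.exists_cj_le_T {Q : Subgroup G} (hQ : Q ≤ X) (hp : IsPGroup p Q) :
    ∃ x ∈ X, cj x Q ≤ T :=
  PMinFF.exists_cj_le h.hTX h.hT h.hTi hQ hp

variable {A : Subgroup G} (hA : Crit p V X A)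
include hA

theorem Cfg.normalizer_M_le : X ⊓ normalizer (M : Set G) ≤ M := by
  refine h.huniq _ (lt_of_le_of_ne inf_le_left fun e => ?_) (le_inf h.hTX (h.hTM.trans le_normalizer))
  obtain ⟨x, hx, hxA⟩ := h.exists_cj_le_T hA.AX hA.isPGroup
  exact (hA.conj hx h.hXV).not_le_centralizer
    ((le_inf hxA (hxA.trans h.hTM)).trans (h.inf_le_centralizer (inf_eq_left.mp e) le_rfl))

omit [Finite G] [Fact p.Prime] in
theorem Cfg.not_normalized {J : Subgroup G} (hn : X ≤ normalizer (J : Set G)) (hJT : J ≤ T) {z : G}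
    (hz : z ∈ X) (hzJ : cj z A ≤ J) : False :=
  (hA.conj hz h.hXV).not_le_centralizer
    (hzJ.trans (h.pker J (hJT.trans h.hTX) (h.hT.to_le hJT) hn))

/-- A bad subgroup gives a smaller configuration moved by a conjugate of `A`. -/
theorem Cfg.exists_sub {H : Subgroup G} (hH : H < X) {z : G} (hz : z ∈ X) (hzT : cj z A ≤ T)
    (hzH : cj z A ≤ H) (hbad : ¬ H ≤ M) :
    ∃ (P U T₁ : Subgroup G) (y : G), Cfg p U P T₁ (M ⊓ P) ∧ Nat.card P < Nat.card X ∧ U ≤ V ∧
      P ≤ X ∧ y ∈ X ∧ cj y A ≤ T₁ ∧ ¬ cj y A ≤ centralizer (U : Set G) ∧ T₁ ≤ T := by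
  -- choose a bad subgroup with large intersection with `T`
  obtain ⟨H, ⟨hH, z, hz, hzT, hzH, hbad⟩, hmax⟩ := Set.exists_max_image
    {K : Subgroup G | K < X ∧ ∃ z ∈ X, cj z A ≤ T ∧ cj z A ≤ K ∧ ¬ K ≤ M}
    (fun K => Nat.card ↥(T ⊓ K)) (Set.toFinite _) ⟨H, hH, z, hz, hzT, hzH, hbad⟩
  set T₁ := T ⊓ H with hT₁
  have hT₁p : IsPGroup p T₁ := h.hT.to_le inf_le_left
  have hzT₁ : cj z A ≤ T₁ := le_inf hzT hzH
  have hbig : ∀ K, K < X → cj z A ≤ K → T₁ < T ⊓ K → K ≤ M := fun K hK hzK hlt => by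
    by_contra hKM
    have h1 := hmax K ⟨hK, z, hz, hzT, hzK, hKM⟩
    exact hlt.ne (eq_of_le_of_card_ge hlt.le h1)
  have hTH : T₁ ≠ T := fun he => hbad (h.huniq H hH (he ▸ inf_le_right))
  have hgrow : ∀ (K : Subgroup G), T ⊓ normalizer (T₁ : Set G) ≤ K → K < X → cj z A ≤ K → K ≤ M :=
    fun K hK hKX hzK => hbig K hKX hzK
      ((lt_inf_normalizer h.hT (lt_of_le_of_ne inf_le_left hTH)).trans_le (le_inf inf_le_left hK))
  have hproper : ∀ J : Subgroup G, J ≤ T → (∃ z ∈ X, cj z A ≤ J) → X ⊓ normalizer (J : Set G) < X := by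
    intro J hJT ⟨y, hy, hyJ⟩
    exact lt_of_le_of_ne inf_le_left fun he => h.not_normalized hA (inf_eq_left.mp he) hJT hy hyJ
  have hzX : cj z A ≤ X := (hA.conj hz h.hXV).AX
  have hNT₁ : X ⊓ normalizer (T₁ : Set G) ≤ M :=
    hgrow _ (inf_le_inf_right _ h.hTX) (hproper T₁ inf_le_left ⟨z, hz, hzT₁⟩)
      (le_inf hzX (hzT₁.trans le_normalizer))
  -- `T₁` is a Sylow subgroup of `H ⊓ M`
  have hSylM : ¬ p ∣ T₁.relIndex (H ⊓ M) := by
    obtain ⟨R, hTR, hRH, hR, hRi⟩ := exists_sylow_above (le_inf inf_le_right (inf_le_left.trans h.hTM) :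
      T₁ ≤ H ⊓ M) hT₁p
    rcases hTR.eq_or_lt with he | hlt
    · exact (congrArg (fun K : Subgroup G => ¬ p ∣ K.relIndex _) he).mpr hRi
    exfalso
    obtain ⟨m, hm, hmR⟩ := PMinFF.exists_cj_le h.hTM h.hT (fun hd => h.hTi (hd.trans
      (Offender.relIndex_dvd_of_le_left' h.hTM h.hMX.le))) (hRH.trans inf_le_right) hR
    have hmX := h.hMX.le hm
    have h1 := hmax (cj m H) ⟨lt_of_le_of_ne ((cj_mono hH.le).trans (cj_eq_of_mem hmX).le) fun he =>
        hH.ne (cj_injective m (he.trans (cj_eq_of_mem hmX).symm)), m * z, mul_mem hmX hz,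
      by rw [cj_mul]; exact (cj_mono (hzT₁.trans hTR)).trans hmR,
      by rw [cj_mul]; exact cj_mono hzH,
      fun hle => hbad (fun y hy => by
        have := mul_mem (mul_mem (inv_mem hm) (hle (conj_mem_cj hy))) hm
        simpa [mul_assoc] using this)⟩
    have h2 : cj m R ≤ T ⊓ cj m H := le_inf hmR (cj_mono (hRH.trans inf_le_left))
    have h3 : Nat.card (cj m R) = Nat.card R := card_cj m R
    have h4 : Nat.card T₁ < Nat.card R := lt_of_le_of_ne (card_le_of_le hlt.le) fun he =>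
      hlt.ne (eq_of_le_of_card_ge hlt.le he.ge)
    have h5 := card_le_of_le h2
    omega
  -- hence of `H`
  have hSyl : ¬ p ∣ T₁.relIndex H := by
    obtain ⟨R, hTR, hRH, hR, hRi⟩ := exists_sylow_above (inf_le_right : T₁ ≤ H) hT₁p
    rcases hTR.eq_or_lt with he | hlt
    · exact (congrArg (fun K : Subgroup G => ¬ p ∣ K.relIndex _) he).mpr hRi
    exfalso
    set R' := R ⊓ normalizer (T₁ : Set G) with hR'
    have hlt' := lt_inf_normalizer hR hlt
    have hR'M : R' ≤ H ⊓ M := le_inf (inf_le_left.trans hRH)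
      ((le_inf (inf_le_left.trans (hRH.trans hH.le)) inf_le_right).trans hNT₁)
    obtain ⟨y, hy, hyR⟩ := PMinFF.exists_cj_le (le_inf inf_le_right (inf_le_left.trans h.hTM) : T₁ ≤ H ⊓ M)
      hT₁p hSylM hR'M (hR.to_le inf_le_left)
    have h1 := card_le_of_le hyR
    rw [card_cj] at h1
    exact hlt'.ne (eq_of_le_of_card_ge hlt'.le h1)
  -- a minimal subgroup above `T₁` outside `M`
  obtain ⟨P, ⟨hT₁P, hPH, hPM⟩, hPmin⟩ := (Set.toFinite
    {P : Subgroup G | T₁ ≤ P ∧ P ≤ H ∧ ¬ P ≤ M}).exists_minimal ⟨H, inf_le_right, le_rfl, hbad⟩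
  have hPX : P ≤ X := hPH.trans hH.le
  have hPi : ¬ p ∣ T₁.relIndex P := fun hd =>
    hSyl (hd.trans (Offender.relIndex_dvd_of_le_left' hT₁P hPH))
  set W := fx V T₁ with hW
  set U := cl P W with hU
  have hUV : U ≤ V := cl_le_of fun g hg =>
    (cj_mono inf_le_left).trans (cj_eq_of_mem_normalizer (h.hXV (hPX hg))).le
  have hPU : P ≤ normalizer (U : Set G) := by
    intro g hg
    refine mem_normalizer_of_cj_le ?_
    rw [hU, cl, cj, Subgroup.map_iSup]
    refine iSup_le fun w => ?_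
    change cj g (cj (w : G) W) ≤ _
    rw [← cj_mul]
    exact cj_le_cl (mul_mem hg w.2)
  have hWU : W ≤ U := le_of_eq_of_le (cj_one W).symm (cj_le_cl (one_mem P))
  have hWT : fx V T ≤ W := inf_le_inf_left _ (centralizer_le (SetLike.coe_subset_coe.mpr inf_le_left))
  have hCW : X ⊓ centralizer (U : Set G) ≤ M :=
    (inf_le_inf_left _ (centralizer_le (SetLike.coe_subset_coe.mpr (hWT.trans hWU)))).trans h.fix_le
  -- some conjugate of `A` in `T₁` moves `U`
  obtain ⟨y, hy, hyT₁, hyU⟩ : ∃ y ∈ X, cj y A ≤ T₁ ∧ ¬ cj y A ≤ centralizer (U : Set G) := by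
    by_contra hcon
    push Not at hcon
    set J := ⨆ y : {y : G // y ∈ X ∧ cj y A ≤ T₁}, cj y.1 A with hJ
    have hJT₁ : J ≤ T₁ := iSup_le fun y => y.2.2
    have hzJ : cj z A ≤ J := le_iSup (fun y : {y : G // y ∈ X ∧ cj y A ≤ T₁} => cj y.1 A) ⟨z, hz, hzT₁⟩
    have hJn : ∀ n ∈ X, (∀ y ∈ X, cj y A ≤ T₁ → cj (n * y) A ≤ T₁) → n ∈ normalizer (J : Set G) := by
      intro n hn hpres
      refine mem_normalizer_of_cj_le ?_
      rw [cj, hJ, Subgroup.map_iSup]
      refine iSup_le fun y => ?_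
      have h1 := hpres y.1 y.2.1 y.2.2
      change cj n (cj y.1 A) ≤ J
      rw [← cj_mul]
      exact le_iSup (fun y : {y : G // y ∈ X ∧ cj y A ≤ T₁} => cj y.1 A) ⟨n * y.1, mul_mem hn y.2.1, h1⟩
    have hNJ : X ⊓ normalizer (J : Set G) ≤ M := by
      refine hgrow _ (le_inf (inf_le_left.trans h.hTX) fun n hn => ?_)
        (hproper J (hJT₁.trans inf_le_left) ⟨z, hz, hzJ⟩)
        (le_inf hzX (hzJ.trans le_normalizer))
      refine hJn n (h.hTX hn.1) fun y _ hyT => ?_
      rw [cj_mul, ← cj_eq_of_mem_normalizer hn.2]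
      exact cj_mono hyT
    set K := P ⊓ centralizer (U : Set G) with hK
    have hKn : (K.subgroupOf P).Normal := by
      refine (normal_subgroupOf_iff_le_normalizer inf_le_left).mpr ?_
      exact LocalStructure.le_normalizer_inf le_normalizer
        (LocalStructure.le_normalizer_centralizer hPU)
    let S : Sylow p P := (hT₁p.comap_of_injective P.subtype P.subtype_injective :
      IsPGroup p (T₁.subgroupOf P)).toSylow hPi
    obtain ⟨Q, hQ⟩ := Offender.exists_sylow_eq_inf S (K.subgroupOf P)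
    have htop := Q.normalizer_sup_eq_top (N := K.subgroupOf P)
    rw [hQ] at htop
    refine hPM fun g hg => ?_
    have hmem := htop.ge (mem_top (⟨g, hg⟩ : P))
    obtain ⟨n, hn, k, hk, hnk⟩ := mem_sup_of_normal_right.mp hmem
    have hg' : g = (n : G) * k := (congrArg Subtype.val hnk).symm
    rw [hg']
    refine mul_mem (hNJ ⟨hPX n.2, hJn _ (hPX n.2) fun y hy hyT => ?_⟩) ?_
    · rw [cj_mul]
      rintro _ ⟨u, hu, rfl⟩
      have huK : u ∈ K := ⟨hT₁P (hyT hu), hcon y hy hyT hu⟩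
      have hu' : (⟨u, hT₁P (hyT hu)⟩ : P) ∈ (S : Subgroup P) ⊓ K.subgroupOf P := ⟨hyT hu, huK⟩
      exact ((mem_normalizer_iff.mp hn _).mp hu').1
    · exact hCW ⟨hPX k.2, (mem_inf.mp (mem_subgroupOf.mp hk)).2⟩
  have hcard : Nat.card P < Nat.card X :=
    lt_of_le_of_lt (card_le_of_le hPH) (lt_of_le_of_ne (card_le_of_le hH.le) fun he =>
      hH.ne (eq_of_le_of_card_ge hH.le he.ge))
  have hfxU : fx U T₁ = W := le_antisymm (inf_le_inf_right _ hUV) (le_inf hWU inf_le_right)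
  refine ⟨P, U, T₁, y,
    { hV := PGroup.isElementaryAbelian_mono h.hV hUV
      hXV := hPU
      hTX := hT₁P
      hT := hT₁p
      hTi := hPi
      hMX := lt_of_le_of_ne inf_le_right fun he => hPM (inf_eq_right.mp he)
      hTM := le_inf (inf_le_left.trans h.hTM) hT₁P
      huniq := fun K hK hTK => le_inf (by
        by_contra hKM
        exact hK.not_ge (hPmin ⟨hTK, hK.le.trans hPH, hKM⟩ hK.le)) hK.le
      moved := fun hle => hPM ?_
      pker := fun J hJP hJp hJn => ?_ }, hcard, hUV, hPX, hy, hyT₁, hyU, inf_le_left⟩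
  · rw [hfxU] at hle
    exact (le_inf hPX (hle.trans (centralizer_le (SetLike.coe_subset_coe.mpr hWT)))).trans h.fix_le
  · obtain ⟨u, hu, huJ⟩ := PMinFF.exists_cj_le hT₁P hT₁p hPi hJP hJp
    rw [cj_eq_of_mem_normalizer (hJn hu)] at huJ
    rw [le_centralizer_iff]
    refine cl_le_of fun g hg => ?_
    rw [le_centralizer_iff, ← cj_eq_of_mem_normalizer (hJn hg), ← cj_centralizer]
    exact cj_mono (le_centralizer_iff.mp (inf_le_right.trans (centralizer_le (SetLike.coe_subset_coe.mpr huJ))))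

end Cfg

end Cfsg.Agent.PMinFF
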