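import Cfsg.Agent.Lib.PMinFF.Torus
import Mathlib.FieldTheory.Finite.Basic

/-!
# A root group commuting with a root group of order at least three centralizes its `SL₂`

`Split.fix_of_commute`, `Split.centralizes`; `axisSub N Z`: the elementary abelian group fixing `Z` with
commutators in `N ≤ Z`.
-/

set_option autoImplicit false

namespace Cfsg.Agent.PMinFF

open Subgroup Subnormal
open scoped Matrix

variable {H : Type*} [Group H] {W : Type*} [AddCommGroup W] [DistribMulAction H W] {p : ℕ}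
  {D : Subgroup H}

theorem mul_comm_of_dlt (hd : Datum W p H) {g h : H}
    (e : ∀ v, dlt W g (dlt W h v) = dlt W h (dlt W g v)) : g * h = h * g :=
  hd.ext_dlt fun v => by rw [dlt_mul, dlt_mul, e]; abel

/-- The group fixing `Z` with commutators in `N`. -/
def axisSub (N Z : AddSubgroup W) (hle : N ≤ Z) : Subgroup H where
  carrier := {g | (∀ v ∈ Z, g • v = v) ∧ ∀ v, dlt W g v ∈ N}
  one_mem' := ⟨fun v _ => one_smul H v, fun v => by rw [dlt_one]; exact zero_mem _⟩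
  mul_mem' := fun {g h} hg hh => ⟨fun v hv => by rw [mul_smul, hh.1 v hv, hg.1 v hv], fun v => by
    rw [dlt_mul, dlt_eq_zero_iff.mpr (hg.1 _ (hle (hh.2 v))), add_zero]
    exact add_mem (hg.2 v) (hh.2 v)⟩
  inv_mem' := fun {g} hg => ⟨fun v hv => inv_smul_eq_iff.mpr (hg.1 v hv).symm, fun v => by
    have h := hg.2 (g⁻¹ • v)
    rw [dlt_apply, smul_inv_smul] at h
    rw [dlt_apply, ← neg_sub]
    exact neg_mem h⟩

theorem axisSub_mul {N Z : AddSubgroup W} {hle : N ≤ Z} {g h : H} (hg : g ∈ axisSub N Z hle)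
    (hh : h ∈ axisSub N Z hle) (v : W) : dlt W (g * h) v = dlt W g v + dlt W h v := by
  rw [dlt_mul, dlt_eq_zero_iff.mpr (hg.1 _ (hle (hh.2 v))), add_zero]

theorem isElementaryAbelian_axisSub (hd : Datum W p H) (N Z : AddSubgroup W) (hle : N ≤ Z) :
    Cfsg.IsElementaryAbelian p (axisSub (H := H) N Z hle) := by
  refine PGroup.isElementaryAbelian_of_forall (fun a ha b hb => hd.ext_dlt fun v => ?_) fun a ha =>
    hd.ext_dlt fun v => ?_
  · rw [axisSub_mul ha hb, axisSub_mul hb ha, add_comm]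
  · have e : ∀ n : ℕ, dlt W (a ^ n) v = n • dlt W a v := fun n => by
      induction n with
      | zero => simp
      | succ n ih => rw [pow_succ, axisSub_mul (pow_mem ha n) ha, ih, succ_nsmul]
    rw [e, hd.exp, dlt_one]

theorem card_axisSub_mul_le [Finite H] [Finite W] (hd : Datum W p H) (N Z : AddSubgroup W) (hle : N ≤ Z) :
    Nat.card (axisSub (H := H) N Z hle) * Nat.card Z ≤ Nat.card W :=
  (Nat.mul_le_mul_left _ (AddSubgroup.card_le_of_le
    (fun v hv _ hg => hg.1 v hv : Z ≤ fixA W (axisSub (H := H) N Z hle)))).trans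
    (hd.noOver _ (isElementaryAbelian_axisSub hd N Z hle))

namespace Coord

theorem nsmul_eq_zero (c : Coord W D) (hd : Datum W p H) (x : c.F) : p • x = 0 := by
  obtain ⟨v, hv⟩ := c.surj ![x, 0]
  have h := congrArg c.ψ (hd.exp v)
  rw [map_nsmul, map_zero, hv] at h
  simpa using congrFun h 0

theorem natCast_eq_zero (c : Coord W D) (hd : Datum W p H) : (p : c.F) = 0 := by
  simpa using c.nsmul_eq_zero hd 1

theorem charP (c : Coord W D) [Fact p.Prime] (hd : Datum W p H) : CharP c.F p :=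
  (CharP.charP_iff_prime_eq_zero (Fact.out : p.Prime)).mpr (c.natCast_eq_zero hd)

end Coord

namespace Split

variable {c : Coord W D} (s : Split c)

theorem sy_ext {a a' : c.F} {z z' : W} (hz : z ∈ fixA W c.L) (hz' : z' ∈ fixA W c.L)
    (e : s.sy a + z = s.sy a' + z') : a = a' ∧ z = z' := by
  have h := congrArg c.ψ e
  rw [map_add, map_add, (c.ker z).mpr hz, (c.ker z').mpr hz', add_zero, add_zero, s.psi_sy, s.psi_sy] at h
  have ha : a = a' := by simpa using congrFun h 0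
  exact ⟨ha, add_left_cancel (ha ▸ e)⟩

variable [Finite H] [Finite W] [Fact p.Prime]

omit [Finite H] in
/-- A scalar killed by `θ` stays so after any scaling. -/
theorem θ_scale (hd : Datum W p H) (hD : IsRoot W p D) {t : c.F} (ht : ∀ x, s.θ t x = 0) (k x : c.F) :
    s.θ (k * t) x = 0 := by
  by_cases hp : p = 2
  · subst hp
    have := c.charP hd
    obtain ⟨r, rfl⟩ := FiniteField.isSquare_of_char_two (ringChar.eq c.F 2) k
    by_cases hr : r = 0
    · rw [hr, zero_mul, zero_mul, s.θ_zero_left]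
    · have e := s.θ_tor hD (Units.mk0 r hr) t x
      rw [Units.val_mk0] at e
      rw [e, ht]
  · exact s.θ_eq_zero_of_odd hD hd.exp hp _ _

/-- A root group commuting with `D` fixes both components of `[W, D]` and moves `W` into `fixA D`. -/
theorem fix_of_commute (hd : Datum W p H) (hD : IsRoot W p D) {E : Subgroup H} (hE : IsRoot W p E)
    (hne : E ≠ D) (hc : ∀ a ∈ D, ∀ b ∈ E, a * b = b * a) :
    (∀ a, s.sy a ∈ fixA W E) ∧ (∀ t x, s.θ t x ∈ fixA W E) ∧ ∀ f ∈ E, ∀ v, dlt W f v ∈ fixA W D := by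
  obtain ⟨-, -, -, hzero⟩ := hD.commute_facts hd hE (Ne.symm hne) hc
  have h := s.sy_θ_mem hD (K := fixA W E) fun t v f hf =>
    dlt_eq_zero_iff.mp ((dlt_comm (hc _ (c.u_mem t) f hf).symm v).trans (hzero _ (c.u_mem t) f hf v))
  exact ⟨h.1, h.2, fun f hf v a ha => dlt_eq_zero_iff.mp (hzero a ha f hf v)⟩

include s in
/-- The commuting lemma. -/
theorem centralizes (hd : Datum W p H) (hD : IsRoot W p D) {E : Subgroup H} (hE : IsRoot W p E)
    (hne : E ≠ D) (hc : ∀ a ∈ D, ∀ b ∈ E, a * b = b * a) : ∀ g ∈ c.L, ∀ f ∈ E, g * f = f * g := by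
  obtain ⟨htop, hcard, hmeet, hzero⟩ := hD.commute_facts hd hE (Ne.symm hne) hc
  obtain ⟨hsy, hθ, himg⟩ := s.fix_of_commute hd hD hE hne hc
  set Z₀ := fixA W D ⊓ fixA W E with hZ₀
  have hinv : ∀ μ : c.Fˣ, ∀ v ∈ Z₀, c.tor μ • v ∈ Z₀ := fun μ v hv => by
    have hx := (c.mem_fixA_iff hD v).mp hv.1
    obtain ⟨z, hz, e⟩ := s.exists_eq v
    rw [hx, map_zero, add_zero] at e
    have hzE : z ∈ fixA W E := by
      rw [show z = v - s.sy (c.ψ v 0) from eq_sub_of_add_eq' e.symm]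
      exact sub_mem hv.2 (hsy _)
    rw [e, smul_add, s.tor_sy, hz _ (c.tor_mem_L μ)]
    exact ⟨add_mem (s.sy_mem_fixA hD _) (c.fixA_L_le hz), add_mem (hsy _) hzE⟩
  set μ := s.μ₀ with hμ
  set E' := cj (c.tor μ) E with hE'
  have hnD : c.tor μ ∈ normalizer (D : Set H) := mem_normalizer_of_cj_le (by
    rintro _ ⟨d, hd', rfl⟩
    obtain ⟨t, rfl⟩ := c.exists_u hd'
    show c.tor μ * c.u t * (c.tor μ)⁻¹ ∈ D
    rw [c.tor_conj_u]
    exact c.u_mem _)
  have hcDE' : ∀ a ∈ D, ∀ b ∈ E', a * b = b * a := by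
    rintro a ha _ ⟨f, hf, rfl⟩
    have h1 := hc _ ((mem_normalizer_iff''.mp hnD a).mp ha) f hf
    show a * (c.tor μ * f * (c.tor μ)⁻¹) = c.tor μ * f * (c.tor μ)⁻¹ * a
    calc a * (c.tor μ * f * (c.tor μ)⁻¹) = c.tor μ * ((c.tor μ)⁻¹ * a * c.tor μ * f) * (c.tor μ)⁻¹ := by group
      _ = c.tor μ * (f * ((c.tor μ)⁻¹ * a * c.tor μ)) * (c.tor μ)⁻¹ := by rw [h1]
      _ = _ := by group
  have hcEE' : ∀ a ∈ E, ∀ b ∈ E', a * b = b * a := by
    refine hE.commute_of_image hd (isRoot_cj hE _) ?_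
    rintro _ ⟨f, hf, rfl⟩ v
    show dlt W (c.tor μ * f * (c.tor μ)⁻¹) v ∈ _
    rw [dlt_conj]
    exact (hinv μ _ ⟨himg f hf _, hE.dlt_mem hd hf _⟩).2
  -- the elementary abelian group `D ⊔ E ⊔ E'` is `D ⊔ E`
  have hR : D ⊔ E ⊔ E' = D ⊔ E := by
    have hDE := PGroup.isElementaryAbelian_sup hD.hD hE.hD hc
    have hcom : ∀ a ∈ D ⊔ E, ∀ b ∈ E', a * b = b * a := fun a ha b hb => by
      have hle : D ⊔ E ≤ centralizer ({b} : Set H) :=
        sup_le (fun x hx => mem_centralizer_singleton_iff.mpr (hcDE' x hx b hb))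
          fun x hx => mem_centralizer_singleton_iff.mpr (hcEE' x hx b hb)
      exact mem_centralizer_singleton_iff.mp (hle ha)
    have h1 := hd.noOver _ (PGroup.isElementaryAbelian_sup hDE (isRoot_cj hE (c.tor μ)).hD hcom)
    have h2 : Z₀ ≤ fixA W (D ⊔ E ⊔ E') := fun v hv => by
      rw [fixA_sup, fixA_sup]
      refine ⟨⟨hv.1, hv.2⟩, ?_⟩
      have hm := (hinv μ⁻¹ v hv).2
      rw [c.tor_inv] at hm
      have := (smul_mem_fixA_cj (c.tor μ)).mpr hm
      rwa [smul_inv_smul] at this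
    refine (eq_of_le_of_card_ge le_sup_left (Nat.le_of_mul_le_mul_right ?_ (Nat.card_pos (α := Z₀)))).symm
    calc Nat.card ↥(D ⊔ E ⊔ E') * Nat.card Z₀
        ≤ Nat.card ↥(D ⊔ E ⊔ E') * Nat.card (fixA W (D ⊔ E ⊔ E')) :=
          Nat.mul_le_mul_left _ (AddSubgroup.card_le_of_le h2)
      _ ≤ Nat.card W := h1
      _ = _ := by rw [← hmeet, fixA_sup]
  have hEE : ∀ f ∈ E, ∀ g ∈ E, ∀ v, dlt W f (dlt W g v) = 0 := fun f hf g hg v =>
    dlt_eq_zero_iff.mpr (hE.dlt_mem hd hg v f hf)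
  -- the derived element
  have step : ∀ f ∈ E, ∃ g ∈ E, ∃ t, ∀ v,
      dlt W g v = c.tor μ • dlt W f ((c.tor μ)⁻¹ • v) - dlt W (c.u t) v - dlt W f v := by
    intro f hf
    have hmem : c.tor μ * f * (c.tor μ)⁻¹ ∈ D ⊔ E := hR.le (mem_sup_right (conj_mem_cj hf))
    have hn : D ≤ normalizer (E : Set H) := fun a ha =>
      centralizer_le_normalizer _ fun b hb => (hc a ha b hb).symm
    obtain ⟨a, ha, f₁, hf₁, e⟩ := (Coprime.mem_sup_iff_of_le_normalizer hn).mp hmem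
    obtain ⟨t, rfl⟩ := c.exists_u ha
    refine ⟨f⁻¹ * f₁, mul_mem (inv_mem hf) hf₁, t, fun v => ?_⟩
    have e1 : dlt W (c.u t * f₁) v = dlt W (c.u t) v + dlt W f₁ v := by
      rw [dlt_mul, hzero _ (c.u_mem t) f₁ hf₁, add_zero]
    have e2 : dlt W f₁ v = dlt W f v + dlt W (f⁻¹ * f₁) v := by
      have := dlt_mul f (f⁻¹ * f₁) v
      rwa [mul_inv_cancel_left, hEE f hf _ (mul_mem (inv_mem hf) hf₁), add_zero] at this
    rw [e, dlt_conj, e2] at e1
    rw [e1]
    abel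
  -- the components of an element of `E`
  have comp : ∀ f ∈ E, ∀ v, ∃ z ∈ fixA W c.L, dlt W f v = s.sy (c.ψ (dlt W f v) 0) + z := by
    intro f hf v
    obtain ⟨z, hz, e⟩ := s.exists_eq (dlt W f v)
    rw [(c.mem_fixA_iff hD _).mp (himg f hf v), map_zero, add_zero] at e
    exact ⟨z, hz, e⟩
  have lift : ∀ x, ∃ z ∈ fixA W c.L, s.sx x + z ∈ fixA W E := by
    intro x
    obtain ⟨a, ha, w, hw, e⟩ := AddSubgroup.mem_sup.mp (htop.ge (AddSubgroup.mem_top (s.sx x)))
    obtain ⟨z, hz, e'⟩ := s.exists_eq w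
    have hx : c.ψ w 1 = x := by
      have h := congrFun (congrArg c.ψ e) 1
      rw [map_add, s.psi_sx, Pi.add_apply, (c.mem_fixA_iff hD a).mp ha, zero_add] at h
      simpa using h
    refine ⟨z, hz, ?_⟩
    rw [show s.sx x + z = w - s.sy (c.ψ w 0) by rw [← hx]; nth_rw 2 [e']; abel]
    exact sub_mem hw (hsy _)
  have hsy0 : ∀ f ∈ E, ∀ a, dlt W f (s.sy a) = 0 := fun f hf a => dlt_eq_zero_iff.mpr (hsy a f hf)
  -- the derived element has no part in `fixA L`
  have stepZ : ∀ f ∈ E, ∀ g t, g ∈ E →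
      (∀ v, dlt W g v = c.tor μ • dlt W f ((c.tor μ)⁻¹ • v) - dlt W (c.u t) v - dlt W f v) →
      ∀ z ∈ fixA W c.L, dlt W g z = s.sy (((μ : c.F) - 1) * c.ψ (dlt W f z) 0) := by
    intro f hf g t _ hg z hz
    rw [hg, show (c.tor μ)⁻¹ • z = z from hz _ (inv_mem (c.tor_mem_L μ)),
      dlt_eq_zero_iff.mpr (c.u_smul_L hz t), sub_zero]
    obtain ⟨z', hz', e⟩ := comp f hf z
    nth_rw 1 [e]
    nth_rw 2 [e]
    rw [smul_add, s.tor_sy, hz' _ (c.tor_mem_L μ), sub_mul, one_mul, map_sub]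
    abel
  have stepX : ∀ f ∈ E, ∀ g t, g ∈ E →
      (∀ v, dlt W g v = c.tor μ • dlt W f ((c.tor μ)⁻¹ • v) - dlt W (c.u t) v - dlt W f v) →
      ∀ x a z a' z', z ∈ fixA W c.L → z' ∈ fixA W c.L → dlt W f (s.sx x) = s.sy a + z →
        dlt W f (s.sx ((μ : c.F) * x)) = s.sy a' + z' →
        (∀ w ∈ fixA W c.L, s.sx x + w ∈ fixA W E →
          ((μ : c.F) * a' - t * x - a) = -(((μ : c.F) - 1) * c.ψ (dlt W f w) 0)) ∧
        z' - s.θ t x - z = 0 := by
    intro f hf g t hgE hg x a z a' z' hz hz' e e'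
    have h1 : dlt W g (s.sx x) =
        s.sy ((μ : c.F) * a' - t * x - a) + (z' - s.θ t x - z) := by
      rw [hg, ← c.tor_inv, s.tor_sx, inv_inv, e', smul_add, s.tor_sy, hz' _ (c.tor_mem_L μ), s.dlt_u hD,
        s.psi_sx, e]
      simp only [Matrix.cons_val_one, Matrix.cons_val_zero, map_sub]
      abel
    have h2 : ∀ w ∈ fixA W c.L, s.sx x + w ∈ fixA W E →
        s.sy ((μ : c.F) * a' - t * x - a) + (z' - s.θ t x - z) =
          s.sy (-(((μ : c.F) - 1) * c.ψ (dlt W f w) 0)) + 0 := by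
      intro w hw hwE
      rw [add_zero, map_neg, ← stepZ f hf g t hgE hg w hw, ← h1, eq_neg_iff_add_eq_zero, ← map_add]
      exact dlt_eq_zero_iff.mpr (hwE g hgE)
    have hzm : z' - s.θ t x - z ∈ fixA W c.L := sub_mem (sub_mem hz' (s.θ_mem t x)) hz
    refine ⟨fun w hw hwE => (s.sy_ext hzm (zero_mem _) (h2 w hw hwE)).1, ?_⟩
    obtain ⟨w, hw, hwE⟩ := lift x
    exact (s.sy_ext hzm (zero_mem _) (h2 w hw hwE)).2
  -- every element of `E` maps `fixA L` to itself
  have hB : ∀ f ∈ E, ∀ z ∈ fixA W c.L, c.ψ (dlt W f z) 0 = 0 := by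
    intro f hf
    obtain ⟨g, hgE, t, hg⟩ := step f hf
    obtain ⟨g', hgE', t', hg'⟩ := step g hgE
    have hgx : ∀ x, dlt W g (s.sx x) = s.sy (c.ψ (dlt W g (s.sx x)) 0) + 0 := by
      intro x
      obtain ⟨z, hz, e⟩ := comp f hf (s.sx x)
      obtain ⟨z', hz', e'⟩ := comp f hf (s.sx ((μ : c.F) * x))
      obtain ⟨-, h0⟩ := stepX f hf g t hgE hg x _ _ _ _ hz hz' e e'
      obtain ⟨w, hw, hwE⟩ := lift x
      have e3 : dlt W g (s.sx x) = -dlt W g w := by
        rw [eq_neg_iff_add_eq_zero, ← map_add]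
        exact dlt_eq_zero_iff.mpr (hwE g hgE)
      rw [e3, stepZ f hf g t hgE hg w hw, map_neg, s.psi_sy]
      simp
    have hrel : ∀ x, (μ : c.F) * c.ψ (dlt W g (s.sx ((μ : c.F) * x))) 0 - (μ : c.F) * c.ψ (dlt W g (s.sx x)) 0 =
        t' * x ∧ s.θ t' x = 0 := by
      intro x
      obtain ⟨h1, h2⟩ := stepX g hgE g' t' hgE' hg' x _ _ _ _ (zero_mem _) (zero_mem _) (hgx x) (hgx _)
      obtain ⟨w, hw, hwE⟩ := lift x
      have h3 := h1 w hw hwE
      have h4 : c.ψ (dlt W g (s.sx x)) 0 + c.ψ (dlt W g w) 0 = 0 := by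
        rw [← Pi.add_apply, ← map_add, ← map_add, dlt_eq_zero_iff.mpr (hwE g hgE), map_zero]
        rfl
      refine ⟨?_, by simpa using h2⟩
      linear_combination h3 + ((μ : c.F) - 1) * (-1) * h4
    obtain ⟨k, hk⟩ : ∃ k, k = ((μ : c.F) * ((μ : c.F) - 1))⁻¹ := ⟨_, rfl⟩
    set τ := k * t' with hτdef
    have hτ : ∀ x, c.ψ (dlt W g (s.sx x)) 0 = τ * x := by
      intro x
      have h1 := (hrel (((μ : c.F) - 1)⁻¹ * x)).1
      have e : (μ : c.F) * (((μ : c.F) - 1)⁻¹ * x) = x + ((μ : c.F) - 1)⁻¹ * x := by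
        linear_combination x * mul_inv_cancel₀ s.sub_ne
      rw [e, map_add, map_add, map_add, Pi.add_apply, mul_add, add_sub_cancel_right] at h1
      refine mul_left_cancel₀ (Units.ne_zero μ) (h1.trans ?_)
      rw [hτdef, hk, mul_inv]
      linear_combination -t' * ((μ : c.F) - 1)⁻¹ * x * mul_inv_cancel₀ (Units.ne_zero μ)
    have hθτ : ∀ x, s.θ τ x = 0 := fun x => s.θ_scale hd hD (fun y => (hrel y).2) k x
    set g₀ := g * c.u (-τ) with hg₀
    have hδ : ∀ v, dlt W g₀ v = dlt W g v + dlt W (c.u (-τ)) v := fun v => by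
      rw [hg₀, dlt_mul, dlt_comm (hc _ (c.u_mem _) g hgE).symm, hzero _ (c.u_mem _) g hgE, add_zero]
    set B : W →+ c.F := (Pi.evalAddMonoidHom (fun _ : Fin 2 => c.F) 0).comp (c.ψ.comp (dlt W g₀)) with hBdef
    have hBz : ∀ z ∈ fixA W c.L, B z = ((μ : c.F) - 1) * c.ψ (dlt W f z) 0 := fun z hz => by
      show c.ψ (dlt W g₀ z) 0 = _
      rw [hδ, stepZ f hf g t hgE hg z hz, dlt_eq_zero_iff.mpr (c.u_smul_L hz _), add_zero, s.psi_sy]
      rfl
    have hg0y : ∀ a, dlt W g₀ (s.sy a) = 0 := fun a => by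
      rw [hδ, hsy0 g hgE, zero_add, dlt_eq_zero_iff]
      exact s.sy_mem_fixA hD a _ (c.u_mem _)
    have hg0x : ∀ x, dlt W g₀ (s.sx x) = 0 := fun x => by
      rw [hδ, hgx, add_zero, hτ, s.dlt_u hD, s.psi_sx]
      simp [s.θ_neg_left hD, hθτ, neg_mul, map_neg]
    have hform : ∀ v, dlt W g₀ v = s.sy (B v) := fun v => by
      obtain ⟨z, hz, e⟩ := s.exists_eq v
      have hB0 : B v = B z := by
        show c.ψ (dlt W g₀ v) 0 = c.ψ (dlt W g₀ z) 0
        conv_lhs => rw [e]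
        simp only [map_add, hg0y, hg0x, zero_add]
      rw [hB0, hBz z hz]
      conv_lhs => rw [e]
      simp only [map_add, hg0y, hg0x, zero_add]
      rw [hδ, stepZ f hf g t hgE hg z hz, dlt_eq_zero_iff.mpr (c.u_smul_L hz _), add_zero]
    have hBy : ∀ a, B (s.sy a) = 0 := fun a => by
      show c.ψ (dlt W g₀ (s.sy a)) 0 = 0
      rw [hg0y, map_zero]; rfl
    have hBx : ∀ a, B (s.sx a) = 0 := fun a => by
      show c.ψ (dlt W g₀ (s.sx a)) 0 = 0
      rw [hg0x, map_zero]; rfl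
    by_contra hcon
    push Not at hcon
    obtain ⟨z₀, hz₀, hne0⟩ := hcon
    have hB0 : B z₀ ≠ 0 := by rw [hBz z₀ hz₀]; exact mul_ne_zero s.sub_ne hne0
    set N := s.sy.range ⊔ s.sx.range
    have hle : N ≤ B.ker := sup_le (by rintro _ ⟨a, rfl⟩; exact hBy a) (by rintro _ ⟨a, rfl⟩; exact hBx a)
    have hBtor : ∀ (ν : c.Fˣ) (v : W), B (c.tor ν • v) = B v := fun ν v => by
      obtain ⟨z, hz, e⟩ := s.exists_eq v
      rw [e, smul_add, smul_add, s.tor_sy, s.tor_sx, hz _ (c.tor_mem_L ν)]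
      simp only [map_add, hBy, hBx, zero_add]
    have hBwy : ∀ v, B (c.wy • v) = B v := fun v => by
      obtain ⟨z, hz, e⟩ := s.exists_eq v
      rw [e, smul_add, smul_add, s.wy_sy, s.wy_sx, hz _ c.wy_mem_L]
      simp only [map_add, hBy, hBx, zero_add]
    set A := axisSub (H := H) N B.ker hle
    have elemY : ∀ a : c.F, ∃ x ∈ A, ∀ v, dlt W x v = s.sy (a * B v) := by
      intro a
      by_cases ha : a = 0
      · exact ⟨1, one_mem _, fun v => by rw [dlt_one, ha, zero_mul, map_zero]⟩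
      set h := c.tor (Units.mk0 a ha)
      have e : ∀ v, dlt W (h * g₀ * h⁻¹) v = s.sy (a * B v) := fun v => by
        rw [dlt_conj, hform, s.tor_sy, ← c.tor_inv, hBtor]
        rfl
      refine ⟨_, ⟨fun v hv => dlt_eq_zero_iff.mp ?_, fun v => ?_⟩, e⟩
      · rw [e, show B v = 0 from hv, mul_zero, map_zero]
      · rw [e]; exact AddSubgroup.mem_sup_left ⟨_, rfl⟩
    have elemX : ∀ a : c.F, ∃ x ∈ A, ∀ v, dlt W x v = s.sx (a * B v) := by
      intro a
      obtain ⟨x, -, e⟩ := elemY a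
      have e' : ∀ v, dlt W (c.wy * x * c.wy⁻¹) v = s.sx (a * B v) := fun v => by
        rw [dlt_conj, e, s.wy_sy, ← hBwy (c.wy⁻¹ • v), smul_inv_smul]
      refine ⟨_, ⟨fun v hv => dlt_eq_zero_iff.mp ?_, fun v => ?_⟩, e'⟩
      · rw [e', show B v = 0 from hv, mul_zero, map_zero]
      · rw [e']; exact AddSubgroup.mem_sup_right ⟨_, rfl⟩
    choose Y hY hYe using elemY
    choose X hX hXe using elemX
    have hinj : Function.Injective fun q : c.F × c.F => (⟨Y q.1 * X q.2, mul_mem (hY _) (hX _)⟩ : A) := by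
      intro q r hqr
      have h1 := congrArg (fun x : A => c.ψ (dlt W (x : H) z₀)) hqr
      simp only [axisSub_mul (hY _) (hX _), hYe, hXe, map_add, s.psi_sy, s.psi_sx] at h1
      have h2 := congrFun h1 0
      have h3 := congrFun h1 1
      simp only [Pi.add_apply, Matrix.cons_val_zero, Matrix.cons_val_one, add_zero, zero_add] at h2 h3
      exact Prod.ext (mul_right_cancel₀ hB0 h2) (mul_right_cancel₀ hB0 h3)
    have h1 : Nat.card (c.F × c.F) ≤ Nat.card A := Nat.card_le_card_of_injective _ hinj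
    have h2 := card_axisSub_mul_le hd N B.ker hle
    have h3 : Nat.card W ≤ Fintype.card c.F * Nat.card B.ker := by
      rw [B.ker.card_eq_card_quotient_mul_card_addSubgroup,
        Nat.card_congr (QuotientAddGroup.quotientKerEquivRange B).toEquiv, ← Nat.card_eq_fintype_card]
      exact Nat.mul_le_mul_right _ (AddSubgroup.card_le_card_addGroup _)
    rw [Nat.card_prod, Nat.card_eq_fintype_card] at h1
    have h4 : Fintype.card c.F * Fintype.card c.F * Nat.card B.ker ≤ Fintype.card c.F * Nat.card B.ker :=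
      le_trans (Nat.mul_le_mul_right _ h1) (h2.trans h3)
    have h5 := Nat.le_of_mul_le_mul_right h4 Nat.card_pos
    have h6 := Fintype.one_lt_card (α := c.F)
    nlinarith
  -- every element of `E` fixes the complement
  have hX : ∀ f ∈ E, ∀ x, dlt W f (s.sx x) = 0 := by
    have hQ : ∀ f ∈ E, ∀ x, c.ψ (dlt W f (s.sx x)) 0 = 0 := fun f hf x => by
      obtain ⟨w, hw, hwE⟩ := lift x
      have h := congrFun (congrArg c.ψ (dlt_eq_zero_iff.mpr (hwE f hf))) 0
      rw [map_add, map_add, Pi.add_apply, hB f hf w hw, add_zero] at h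
      simpa using h
    intro f hf x
    obtain ⟨g, hgE, t, hg⟩ := step f hf
    have key : ∀ y, dlt W f (s.sx ((μ : c.F) * y)) - dlt W f (s.sx y) - s.θ t y = 0 ∧ t * y = 0 := by
      intro y
      obtain ⟨z, hz, e⟩ := comp f hf (s.sx y)
      obtain ⟨z', hz', e'⟩ := comp f hf (s.sx ((μ : c.F) * y))
      obtain ⟨h1, h2⟩ := stepX f hf g t hgE hg y _ _ _ _ hz hz' e e'
      obtain ⟨w, hw, hwE⟩ := lift y
      have h3 := h1 w hw hwE
      rw [hQ f hf, hQ f hf, hB f hf w hw] at h3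
      refine ⟨?_, by simpa using h3⟩
      rw [e, e', hQ f hf, hQ f hf, map_zero, zero_add, zero_add, ← h2]
      abel
    have ht : t = 0 := by simpa using (key 1).2
    have h := (key (((μ : c.F) - 1)⁻¹ * x)).1
    rw [ht, s.θ_zero_left, sub_zero, ← map_sub, ← map_sub, ← sub_one_mul, mul_inv_cancel_left₀ s.sub_ne] at h
    exact h
  intro g hg f hf
  have hfw : ∀ v, dlt W f v ∈ fixA W c.L := fun v => by
    obtain ⟨z, hz, e⟩ := s.exists_eq v
    rw [e, map_add, map_add, hsy0 f hf, hX f hf, zero_add, zero_add]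
    obtain ⟨z', hz', e'⟩ := comp f hf z
    rw [e', hB f hf z hz, map_zero, zero_add]
    exact hz'
  have hLc : c.L ≤ centralizer ({f} : Set H) := by
    refine c.L_le (fun t => mem_centralizer_singleton_iff.mpr (mul_comm_of_dlt hd fun v => ?_))
      fun t => mem_centralizer_singleton_iff.mpr (mul_comm_of_dlt hd fun v => ?_)
    · rw [dlt_eq_zero_iff.mpr (hfw v _ (c.u_mem_L t)), s.dlt_u hD, map_add, hsy0 f hf,
        dlt_eq_zero_iff.mpr (hθ _ _ f hf), add_zero]
    · rw [dlt_eq_zero_iff.mpr (hfw v _ (c.l_mem_L t)), s.dlt_l hD, map_add, hX f hf,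
        dlt_eq_zero_iff.mpr (hθ _ _ f hf), add_zero]
  exact mem_centralizer_singleton_iff.mp (hLc hg)

end Split

end Cfsg.Agent.PMinFF
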