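import Cfsg.Agent.Lib.PMinFF.Glue
import Cfsg.Agent.Lib.PMinFF.Commute

/-!
# The decomposition for root groups of order at least three

`Frame W p T M D c`: a root group `D ≤ T` of order at least `3` whose `SL₂` `c.L` is outside `M` and normalized
by `T ∩ N(D)`. The conjugates of `c.L` under `T` are the components (`Frame.exists_decomp`);
`Frame.split`: an element of `T` centralizing `D` is in `D` times the centralizer of `c.L`.
-/

set_option autoImplicit false
set_option linter.unusedSectionVars false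

namespace Cfsg.Agent.PMinFF

open Subgroup Subnormal
open scoped Matrix

variable {H : Type*} [Group H] {W : Type*} [AddCommGroup W] [DistribMulAction H W] {p : ℕ}

theorem smul_img_cj {E : Subgroup H} {v : W} (g : H) (hv : v ∈ img W E) : g • v ∈ img W (cj g E) := by
  have hle : img W E ≤ (img W (cj g E)).comap (DistribSMul.toAddMonoidHom W g) := by
    refine (AddSubgroup.closure_le _).mpr ?_
    rintro _ ⟨d, hd, w, rfl⟩
    show g • dlt W d w ∈ img W (cj g E)
    rw [show g • dlt W d w = dlt W (g * d * g⁻¹) (g • w) by rw [dlt_conj, inv_smul_smul]]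
    exact AddSubgroup.subset_closure ⟨_, conj_mem_cj hd, _, rfl⟩
  exact hle hv

theorem inv_smul_img {E : Subgroup H} {v : W} (g : H) (hv : v ∈ img W (cj g E)) : g⁻¹ • v ∈ img W E := by
  have h := smul_img_cj g⁻¹ hv
  rwa [cj_inv_cj] at h

theorem inv_smul_fixA {E : Subgroup H} {v : W} (g : H) (hv : v ∈ fixA W (cj g E)) : g⁻¹ • v ∈ fixA W E :=
  (smul_mem_fixA_cj g).mp (by rwa [smul_inv_smul])

theorem cj_le_centralizer {A B : Subgroup H} (h : A ≤ centralizer (B : Set H)) (g : H) :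
    cj g A ≤ centralizer ((cj g B : Subgroup H) : Set H) := by
  rintro _ ⟨a, ha, rfl⟩ _ ⟨b, hb, rfl⟩
  rw [← map_mul, ← map_mul, h ha b hb]

variable {T M D : Subgroup H}

/-- Every vector is a fixed point of `c.L` plus a commutator. -/
theorem Split.exists_img {c : Coord W D} (s : Split c) (v : W) :
    ∃ u ∈ img W c.L, v - u ∈ fixA W c.L := by
  obtain ⟨w, hw⟩ := c.surj ![((s.μ₀ : c.F) - 1)⁻¹ * c.ψ v 0, (((s.μ₀⁻¹ : c.Fˣ) : c.F) - 1)⁻¹ * c.ψ v 1]
  refine ⟨dlt W (c.tor s.μ₀) w, AddSubgroup.subset_closure ⟨_, c.tor_mem_L _, w, rfl⟩, ?_⟩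
  have h := s.rest_mem v
  rw [s.range_eq, hw]
  simp only [Matrix.cons_val_zero, Matrix.cons_val_one]
  rw [mul_inv_cancel_left₀ s.sub_ne, mul_inv_cancel_left₀ s.sub_ne', sub_add_eq_sub_sub]
  exact h

/-- The data. -/
structure Frame (p : ℕ) (T M D : Subgroup H) (c : Coord W D) : Prop where
  sys : Sys W p T M
  root : IsRoot W p D
  le : D ≤ T
  big : 2 < Nat.card D
  out : ¬ c.L ≤ M
  norm : T ⊓ normalizer (D : Set H) ≤ normalizer (c.L : Set H)

namespace Frame

variable [Finite H] [Finite W] [Fact p.Prime] {c : Coord W D} (f : Frame p T M D c)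
include f

theorem exists_split : Nonempty (Split c) := c.nonempty_split f.big

theorem le_centralizer_root {F : Subgroup H} (hF : IsRoot W p F) (hne : F ≠ D)
    (hc : ∀ a ∈ D, ∀ b ∈ F, a * b = b * a) : c.L ≤ centralizer (F : Set H) := fun g hg x hx =>
  ((f.exists_split.some).centralizes f.sys.toDatum f.root hF hne hc g hg x hx).symm

theorem cj_le_T {t : H} (ht : t ∈ T) : cj t D ≤ T := (cj_mono f.le).trans (cj_eq_of_mem ht).le

theorem cj_eq_of_root {s t : H} (hs : s ∈ T) (ht : t ∈ T) (e : cj s D = cj t D) :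
    cj s c.L = cj t c.L := by
  have h : t⁻¹ * s ∈ normalizer (D : Set H) :=
    mem_normalizer_of_cj_eq (by rw [cj_mul, e, cj_inv_cj])
  have h1 := cj_eq_of_mem_normalizer (f.norm ⟨T.mul_mem (T.inv_mem ht) hs, h⟩)
  calc cj s c.L = cj t (cj (t⁻¹ * s) c.L) := by rw [← cj_mul, mul_inv_cancel_left]
    _ = cj t c.L := by rw [h1]

theorem cj_L_le_centralizer {F : Subgroup H} (hF : IsRoot W p F) {t : H} (ht : t ∈ T)
    (hne : F ≠ cj t D) (hFT : F ≤ T) : cj t c.L ≤ centralizer (F : Set H) := by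
  have h1 : cj t⁻¹ F ≤ T := (cj_mono hFT).trans (cj_eq_of_mem (inv_mem ht)).le
  have h := cj_le_centralizer (f.le_centralizer_root (isRoot_cj hF t⁻¹)
    (fun e => hne (by rw [← e, cj_cj_inv]))
    (f.root.commute_of_pGroup f.sys.toDatum (isRoot_cj hF t⁻¹) f.sys.hT f.le h1)) t
  rwa [cj_cj_inv] at h

theorem cj_le_L_le_centralizer_opp {s t : H} (hs : s ∈ T) (ht : t ∈ T) (hne : cj s D ≠ cj t D) :
    cj (s * c.wy) D ≠ cj t D ∧ cj t c.L ≤ centralizer ((cj (s * c.wy) D : Subgroup H) : Set H) := by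
  have hsL := f.cj_L_le_centralizer (isRoot_cj f.root t) hs (Ne.symm hne) (f.cj_le_T ht)
  have hR : cj (s * c.wy) D ≤ cj s c.L := by rw [cj_mul]; exact cj_mono c.opp_le
  have hne' : cj (s * c.wy) D ≠ cj t D := by
    intro e
    apply hne
    have hx : s * c.wy * s⁻¹ ∈ centralizer ((cj t D : Subgroup H) : Set H) := hsL (conj_mem_cj c.wy_mem_L)
    have hn := cj_eq_of_mem_normalizer (centralizer_le_normalizer _ (inv_mem hx))
    rw [← e, ← cj_mul] at hn
    rw [← e, ← hn]
    congr 1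
    group
  refine ⟨hne', ?_⟩
  have hR' : IsRoot W p (cj t⁻¹ (cj (s * c.wy) D)) := isRoot_cj (isRoot_cj f.root _) _
  have h := cj_le_centralizer (f.le_centralizer_root hR' (fun e => hne' (by
      conv_rhs => rw [← e, cj_cj_inv]))
    fun a ha b hb => by
      obtain ⟨x, hx, rfl⟩ := hb
      have h1 := hsL (hR hx) _ (conj_mem_cj (g := t) ha)
      show a * (t⁻¹ * x * t⁻¹⁻¹) = t⁻¹ * x * t⁻¹⁻¹ * a
      calc a * (t⁻¹ * x * t⁻¹⁻¹) = t⁻¹ * (t * a * t⁻¹ * x) * t := by group
        _ = t⁻¹ * (x * (t * a * t⁻¹)) * t := by rw [h1]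
        _ = _ := by group) t
  rwa [cj_cj_inv] at h

theorem cj_L_eq (s : H) : cj s c.L = cj s D ⊔ cj (s * c.wy) D := by
  rw [cj_mul, c.L_eq, Coord.opp, cj, Subgroup.map_sup]

theorem cj_L_commute {s t : H} (hs : s ∈ T) (ht : t ∈ T) (hne : cj s D ≠ cj t D) :
    cj t c.L ≤ centralizer ((cj s c.L : Subgroup H) : Set H) := by
  refine le_centralizer_iff.mp ?_
  rw [f.cj_L_eq s]
  refine sup_le (le_centralizer_iff.mp ?_) (le_centralizer_iff.mp (f.cj_le_L_le_centralizer_opp hs ht hne).2)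
  exact f.cj_L_le_centralizer (isRoot_cj f.root s) ht hne (f.cj_le_T hs)

/-- A root group centralized by `c.L` fixes `[W, L]`. -/
theorem img_le_fixA {F : Subgroup H} (hF : IsRoot W p F) (hne : F ≠ D)
    (hc : c.L ≤ centralizer (F : Set H)) : img W c.L ≤ fixA W F := by
  obtain ⟨-, -, -, hzero⟩ := f.root.commute_facts f.sys.toDatum hF (Ne.symm hne)
    fun a ha b hb => (hc (c.le ha) b hb).symm
  let S : Subgroup H :=
    { carrier := {g | ∀ v, ∀ x ∈ F, dlt W x (dlt W g v) = 0}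
      one_mem' := fun v x _ => by rw [dlt_one, map_zero]
      mul_mem' := fun {g h} hg hh v x hx => by
        rw [dlt_mul, map_add, map_add, hg v x hx, hh v x hx, hg _ x hx, add_zero, add_zero]
      inv_mem' := fun {g} hg v x hx => by
        have e : dlt W g⁻¹ v = -dlt W g (g⁻¹ • v) := by rw [dlt_apply, dlt_apply, smul_inv_smul, neg_sub]
        rw [e, map_neg, hg _ x hx, neg_zero] }
  have hu : ∀ t, c.u t ∈ S := fun t v x hx => by
    rw [dlt_comm (hc (c.u_mem_L t) x hx), hzero _ (c.u_mem t) x hx]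
  have hl : ∀ t, c.l t ∈ S := fun t v x hx => by
    have e : c.l t = c.wy * c.u (-t) * c.wy⁻¹ := by rw [c.wy_conj_u, neg_neg]
    have hxw : x * c.wy = c.wy * x := hc c.wy_mem_L x hx
    have h1 := hu (-t) (c.wy⁻¹ • v) x hx
    rw [dlt_eq_zero_iff] at h1 ⊢
    rw [e, dlt_conj, ← mul_smul, hxw, mul_smul, h1]
  refine (AddSubgroup.closure_le _).mpr ?_
  rintro _ ⟨g, hg, v, rfl⟩ x hx
  exact dlt_eq_zero_iff.mp (c.L_le hu hl hg v x hx)

theorem mixed {s t : H} (hs : s ∈ T) (ht : t ∈ T) (hne : cj s D ≠ cj t D) {v : W}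
    (hv : v ∈ img W (cj s c.L)) {g : H} (hg : g ∈ cj t c.L) : g • v = v := by
  have key : ∀ R : Subgroup H, IsRoot W p R → R ≠ cj s D →
      cj s c.L ≤ centralizer (R : Set H) → R ≤ MulAction.stabilizer H v := by
    intro R hR hne hc x hx
    have hc' := cj_le_centralizer hc s⁻¹
    rw [cj_inv_cj] at hc'
    have h1 := f.img_le_fixA (isRoot_cj hR s⁻¹) (fun e => hne (by rw [← e, cj_cj_inv])) hc' (inv_smul_img s hv)
    have h2 := (smul_mem_fixA_cj s).mpr h1
    rw [cj_cj_inv, smul_inv_smul] at h2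
    exact h2 x hx
  have hle : cj t c.L ≤ MulAction.stabilizer H v := by
    rw [f.cj_L_eq t]
    refine sup_le (key _ (isRoot_cj f.root t) hne.symm ?_) ?_
    · exact f.cj_L_le_centralizer (isRoot_cj f.root t) hs hne.symm (f.cj_le_T ht)
    · obtain ⟨h1, h2⟩ := f.cj_le_L_le_centralizer_opp ht hs hne.symm
      exact key _ (isRoot_cj f.root _) h1 h2
  exact hle hg

/-! ### The splitting of `T ∩ C(D)` -/

theorem exists_trivial {a : H} (haT : a ∈ T) (haD : a ∈ centralizer (D : Set H)) :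
    ∃ r, ∀ v, c.ψ ((c.u r * a) • v) = c.ψ v := by
  obtain ⟨s⟩ := f.exists_split
  have hd := f.sys.toDatum
  have hn : a ∈ normalizer (D : Set H) := centralizer_le_normalizer _ haD
  have hnL : a ∈ normalizer (c.L : Set H) := f.norm ⟨haT, hn⟩
  have hZ : ∀ v ∈ fixA W D, a • v ∈ fixA W D := fun v hv => by
    have h := (smul_mem_fixA_cj a).mpr hv
    rwa [cj_eq_of_mem_normalizer hn] at h
  have hL0 : ∀ v ∈ fixA W c.L, c.ψ (a • v) = 0 := fun v hv => by
    have h := (smul_mem_fixA_cj a).mpr hv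
    rw [cj_eq_of_mem_normalizer hnL] at h
    exact (c.ker _).mpr h
  let A : c.F →+ c.F := (Pi.evalAddMonoidHom (fun _ : Fin 2 => c.F) 0).comp
    (c.ψ.comp ((DistribSMul.toAddMonoidHom W a).comp s.sy))
  let Q : c.F →+ c.F := (Pi.evalAddMonoidHom (fun _ : Fin 2 => c.F) 0).comp
    (c.ψ.comp ((DistribSMul.toAddMonoidHom W a).comp s.sx))
  let B : c.F →+ c.F := (Pi.evalAddMonoidHom (fun _ : Fin 2 => c.F) 1).comp
    (c.ψ.comp ((DistribSMul.toAddMonoidHom W a).comp s.sx))
  have hA1 : ∀ y, c.ψ (a • s.sy y) 1 = 0 := fun y =>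
    (c.mem_fixA_iff f.root _).mp (hZ _ (s.sy_mem_fixA f.root y))
  have hgen : ∀ v, c.ψ (a • v) = ![A (c.ψ v 0) + Q (c.ψ v 1), B (c.ψ v 1)] := fun v => by
    obtain ⟨z, hz, e⟩ := s.exists_eq v
    conv_lhs => rw [e, smul_add, smul_add, map_add, map_add, hL0 z hz, add_zero]
    funext i
    fin_cases i
    · rfl
    · show c.ψ (a • s.sy (c.ψ v 0)) 1 + B (c.ψ v 1) = _
      rw [hA1, zero_add]; rfl
  have hAB : ∀ t x, A (t * x) = t * B x := fun t x => by
    have h := congrArg c.ψ (congrArg (fun g : H => g • s.sx x) (haD _ (c.u_mem t)))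
    simp only [mul_smul] at h
    rw [c.psi_u, hgen (c.u t • s.sx x), hgen, c.psi_u, s.psi_sx] at h
    have h0 := congrFun h 0
    simp only [Matrix.cons_val_zero, Matrix.cons_val_one, map_zero, zero_add] at h0
    linear_combination -h0
  set ξ := B 1 with hξ
  have hA : ∀ y, A y = ξ * y := fun y => by
    have h := hAB y 1
    rw [mul_one] at h
    rw [h, mul_comm]
  have hB : ∀ x, B x = ξ * x := fun x => by
    have h := hAB 1 x
    rw [one_mul, one_mul, hA] at h
    exact h.symm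
  obtain ⟨G, hG⟩ : ∃ G, ∀ v, c.ψ ((a * c.l 1 * a⁻¹) • v) = (G : Matrix (Fin 2) (Fin 2) c.F) *ᵥ c.ψ v :=
    ⟨c.ρ ⟨_, (mem_normalizer_iff.mp hnL _).mp (c.l_mem_L 1)⟩,
      fun v => c.equiv ⟨_, (mem_normalizer_iff.mp hnL _).mp (c.l_mem_L 1)⟩ v⟩
  have hQ : ∀ y, Q y = ((G : Matrix (Fin 2) (Fin 2) c.F) 0 0 - 1) * ξ * y := fun y => by
    have h := hG (a • s.sy y)
    rw [← mul_smul, inv_mul_cancel_right, mul_smul, hgen (c.l 1 • s.sy y), hgen (s.sy y), c.psi_l,
      s.psi_sy] at h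
    have h0 := congrFun h 0
    simp [Matrix.mulVec, dotProduct, Fin.sum_univ_two, hA, hB] at h0
    linear_combination h0
  set r := -((G : Matrix (Fin 2) (Fin 2) c.F) 0 0 - 1) with hr
  set a' := c.u r * a with ha'
  have hsc : ∀ v i, c.ψ (a' • v) i = ξ * c.ψ v i := fun v i => by
    rw [ha', mul_smul, c.psi_u, hgen]
    fin_cases i
    · simp [hA, hB, hQ, hr]; ring
    · simp [hB]
  -- `a'` has `p`-power order
  obtain ⟨k, hk⟩ := f.sys.hT ⟨a', mul_mem (f.le (c.u_mem r)) haT⟩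
  have hk' : a' ^ p ^ k = 1 := congrArg Subtype.val hk
  have hpow : ∀ (n : ℕ) v, c.ψ (a' ^ n • v) 1 = ξ ^ n * c.ψ v 1 := fun n => by
    induction n with
    | zero => intro v; simp
    | succ n ih => intro v; rw [pow_succ, mul_smul, ih, hsc, pow_succ, mul_assoc]
  have hξ1 : ξ ^ p ^ k = 1 := by
    have h := hpow (p ^ k) (s.sx 1)
    rw [hk', one_smul, s.psi_sx] at h
    simpa using h.symm
  have := c.charP hd
  have hξ : ξ = 1 := by
    have h := sub_pow_char_pow ξ 1 (p := p) (n := k)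
    rw [one_pow, hξ1, sub_self] at h
    exact sub_eq_zero.mp (pow_eq_zero_iff (pow_ne_zero k (Fact.out : p.Prime).ne_zero) |>.mp h)
  exact ⟨r, fun v => funext fun i => by rw [hsc, hξ, one_mul]⟩

theorem mem_centralizer_of_trivial {a : H} (hn : a ∈ normalizer (c.L : Set H))
    (h : ∀ v, c.ψ (a • v) = c.ψ v) : a ∈ centralizer (c.L : Set H) := fun l hl => by
  have hm : a * l * a⁻¹ ∈ c.L := (mem_normalizer_iff.mp hn l).mp hl
  have e : c.ρ ⟨_, hm⟩ = c.ρ ⟨l, hl⟩ := by
    refine Subtype.ext (Matrix.ext_iff_mulVec.mpr fun x => ?_)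
    obtain ⟨v, hv⟩ := c.surj x
    have h1 := h (a⁻¹ • v)
    rw [smul_inv_smul, hv] at h1
    conv_lhs => rw [← hv, ← c.equiv ⟨_, hm⟩ v]
    show c.ψ ((a * l * a⁻¹) • v) = _
    rw [mul_smul, mul_smul, h]
    rw [show c.ψ (l • a⁻¹ • v) = _ from c.equiv ⟨l, hl⟩ _, ← h1]
  have h2 : a * l * a⁻¹ = l := congrArg Subtype.val (c.ρ.injective e)
  exact (mul_inv_eq_iff_eq_mul.mp h2).symm

theorem eq_one_of_mem_centralizer {d : H} (hd : d ∈ D) (hc : d ∈ centralizer (c.L : Set H)) : d = 1 := by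
  obtain ⟨t, rfl⟩ := c.exists_u hd
  have h1 := hc _ c.wy_mem_L
  have h2 : c.l (-t) = c.u t := by rw [← c.wy_conj_u, h1, mul_inv_cancel_right]
  obtain ⟨v, hv⟩ := c.surj ![0, 1]
  have h3 := congrFun (c.psi_l (-t) v) 0
  rw [h2, c.psi_u, hv] at h3
  simp at h3
  rw [h3, c.u_zero]

/-- An element of `T` centralizing `D` is in `D` times the centralizer of `c.L`. -/
theorem split {a : H} (haT : a ∈ T) (haD : a ∈ centralizer (D : Set H)) :
    ∃ d ∈ D, d * a ∈ centralizer (c.L : Set H) ∧ ∀ v, c.ψ ((d * a) • v) = c.ψ v := by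
  obtain ⟨r, hr⟩ := f.exists_trivial haT haD
  refine ⟨c.u r, c.u_mem r, f.mem_centralizer_of_trivial (mul_mem (le_normalizer (c.u_mem_L r)) ?_) hr, hr⟩
  exact f.norm ⟨haT, centralizer_le_normalizer _ haD⟩

/-- An offender containing `D` loses `D` and stays an offender. -/
theorem offender_step {A : Subgroup H} (hAT : A ≤ T) (hA : Cfsg.IsElementaryAbelian p A) (hDA : D ≤ A)
    (hle : Nat.card W ≤ Nat.card A * Nat.card (fixA W A)) :
    ∃ A' ≤ A, A ≤ D ⊔ A' ∧ Nat.card A' < Nat.card A ∧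
      Nat.card W ≤ Nat.card A' * Nat.card (fixA W A') := by
  obtain ⟨s⟩ := f.exists_split
  set A' := A ⊓ centralizer (c.L : Set H) with hA'
  have hdA : ∀ a ∈ A, a ∈ centralizer (D : Set H) := fun a ha x hx =>
    Offender.commute_mem hA.1 (hDA hx) ha
  have hsup : A ≤ D ⊔ A' := fun a ha => by
    obtain ⟨d, hd, hc, -⟩ := f.split (hAT ha) (hdA a ha)
    have := mul_mem (mem_sup_left (inv_mem hd) : d⁻¹ ∈ D ⊔ A')
      (mem_sup_right (⟨mul_mem (hDA hd) ha, hc⟩ : d * a ∈ A'))
    rwa [inv_mul_cancel_left] at this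
  have hinf : D ⊓ A' = ⊥ := (eq_bot_iff_forall _).mpr fun x hx => f.eq_one_of_mem_centralizer hx.1 hx.2.2
  have hcard : Nat.card A = Nat.card D * Nat.card A' := by
    have h := Offender.card_sup_mul_card_inf (H := D) (N := A') fun x hx =>
      centralizer_le_normalizer _ fun y hy => (Offender.commute_mem hA.1 (hy : y ∈ A').1 (hDA hx))
    rwa [hinf, card_bot, mul_one, le_antisymm (sup_le hDA inf_le_left) hsup] at h
  have htop : fixA W D ⊔ fixA W A' = ⊤ := by
    rw [eq_top_iff]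
    intro v _
    have hx : s.sx (c.ψ v 1) ∈ fixA W A' := fun a ha => by
      obtain ⟨d, hd, hc, htriv⟩ := f.split (hAT ha.1) (hdA a ha.1)
      have hd1 : d = 1 := f.eq_one_of_mem_centralizer hd (by
        have := mul_mem hc (inv_mem ha.2)
        rwa [mul_inv_cancel_right] at this)
      rw [hd1, one_mul] at htriv
      obtain ⟨w, hw⟩ := c.surj ![0, (((s.μ₀⁻¹ : c.Fˣ) : c.F) - 1)⁻¹ * c.ψ v 1]
      have e : ∀ u : W, c.ψ u = c.ψ w → dlt W (c.tor s.μ₀) u = s.sx (c.ψ v 1) := fun u hu => by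
        rw [s.range_eq, hu, hw]
        simp only [Matrix.cons_val_zero, Matrix.cons_val_one, mul_zero, map_zero, zero_add]
        rw [mul_inv_cancel_left₀ s.sub_ne']
      rw [← e w rfl]
      have hc' : c.tor s.μ₀ * a = a * c.tor s.μ₀ := ha.2 _ (c.tor_mem_L _)
      calc a • dlt W (c.tor s.μ₀) w = dlt W (c.tor s.μ₀) (a • w) := by
            rw [dlt_apply, dlt_apply, smul_sub, ← mul_smul, ← mul_smul, hc']
        _ = _ := by rw [e _ (htriv w), e w rfl]
    have h1 : v - s.sx (c.ψ v 1) ∈ fixA W D := (c.mem_fixA_iff f.root _).mpr (by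
      rw [map_sub, Pi.sub_apply, s.psi_sx]; simp)
    rw [← sub_add_cancel v (s.sx (c.ψ v 1))]
    exact add_mem (AddSubgroup.mem_sup_left h1) (AddSubgroup.mem_sup_right hx)
  refine ⟨A', inf_le_left, hsup, ?_, ?_⟩
  · rw [hcard]
    exact lt_mul_of_one_lt_left Nat.card_pos (by have := f.big; omega)
  · have hfix : fixA W A ≤ fixA W D ⊓ fixA W A' :=
      le_inf (fixA_anti hDA) (fixA_anti inf_le_left)
    have h := card_sup_mul_inf_add (fixA W D) (fixA W A')
    rw [htop, AddSubgroup.card_top] at h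
    refine Nat.le_of_mul_le_mul_left ?_ (Nat.card_pos (α := W))
    calc Nat.card W * Nat.card W ≤ Nat.card W * (Nat.card A * Nat.card ↥(fixA W D ⊓ fixA W A')) :=
          Nat.mul_le_mul_left _ (hle.trans (Nat.mul_le_mul_left _ (AddSubgroup.card_le_of_le hfix)))
      _ = Nat.card D * Nat.card A' * (Nat.card (fixA W D) * Nat.card (fixA W A')) := by
          rw [← h, hcard]; ring
      _ = Nat.card D * Nat.card (fixA W D) * (Nat.card A' * Nat.card (fixA W A')) := by ring
      _ = _ := by rw [f.root.card_eq]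

/-- The component's root groups generate it. -/
theorem L_le_conj {D' : Subgroup H} (hD' : IsRoot W p D') (hle : D' ≤ c.L) :
    c.L ≤ ⨆ e : ↥c.L, cj (e : H) D' := by
  obtain ⟨n, hn⟩ := IsPGroup.iff_card.mp (PGroup.isPGroup_of_elementaryAbelian f.root.hD)
  obtain ⟨P₀, hP₀⟩ := NaturalSL2.exists_sylow_upperUni (F := c.F) (p := p) (c.cardF.trans hn)
  obtain ⟨Q, hQ⟩ := (((PGroup.isPGroup_of_elementaryAbelian hD'.hD).comap_of_injective c.L.subtype
    c.L.subtype_injective).map c.ρ.toMonoidHom).exists_le_sylow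
  obtain ⟨s, hs⟩ := MulAction.exists_smul_eq (Matrix.SpecialLinearGroup (Fin 2) c.F) Q P₀
  set g : ↥c.L := c.ρ.symm s with hg
  have hle' : cj (g : H) D' ≤ D := by
    rintro _ ⟨x, hx, rfl⟩
    have hm : (g : H) * x * (g : H)⁻¹ = ((g * ⟨x, hle hx⟩ * g⁻¹ : ↥c.L) : H) := rfl
    show (g : H) * x * (g : H)⁻¹ ∈ D
    rw [hm, c.memD, ← hP₀, map_mul, map_mul, map_inv, hg, MulEquiv.apply_symm_apply]
    rw [← hs, Sylow.coe_subgroup_smul]
    exact Subgroup.smul_mem_pointwise_smul _ (MulAut.conj s) _ (hQ ⟨⟨x, hle hx⟩, hx, rfl⟩)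
  have heq : cj (g : H) D' = D := by
    by_contra hne
    have h := (isRoot_cj hD' (g : H)).inf_eq_bot f.sys.toDatum f.root hne
    rw [inf_eq_left.mpr hle'] at h
    exact (isRoot_cj hD' (g : H)).ne h
  refine c.L_eq.le.trans (sup_le (heq.ge.trans (le_iSup (fun e : ↥c.L => cj (e : H) D') g)) ?_)
  refine le_trans (le_of_eq ?_)
    (le_iSup (fun e : ↥c.L => cj (e : H) D') ⟨_, mul_mem c.wy_mem_L g.2⟩)
  show cj c.wy D = cj (c.wy * (g : H)) D'
  rw [cj_mul, heq]

theorem slShape_cj (t : H) {n : ℕ} (hn : Nat.card D = p ^ n) : SLShape W p (cj t c.L) := by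
  obtain ⟨s⟩ := f.exists_split
  have hn1 : 1 ≤ n := by
    rcases Nat.eq_zero_or_pos n with h | h
    · have := f.big; rw [hn, h, pow_zero] at this; omega
    · exact h
  unfold SLShape cj
  set eE := c.L.equivMapOfInjective (MulAut.conj t).toMonoidHom (MulAut.conj t).injective with heE
  refine ⟨n, c.F, inferInstance, inferInstance, hn1, c.cardF.trans hn, eE.symm.trans c.ρ,
    c.ψ.comp (DistribSMul.toAddMonoidHom W t⁻¹), fun v => ?_, fun x => ?_, fun g v => ?_⟩
  · show c.ψ (t⁻¹ • v) = 0 ↔ _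
    rw [c.ker]
    exact ⟨fun h => (by simpa using (smul_mem_fixA_cj t).mpr h : v ∈ fixA W (cj t c.L)), inv_smul_fixA _⟩
  · obtain ⟨v, hv⟩ := c.surj x
    obtain ⟨u, hu, hfix⟩ := s.exists_img v
    refine ⟨t • u, smul_img_cj _ hu, ?_⟩
    show c.ψ (t⁻¹ • t • u) = x
    rw [inv_smul_smul, ← hv]
    rw [← c.ker, map_sub, sub_eq_zero] at hfix
    exact hfix.symm
  · obtain ⟨l, rfl⟩ := eE.surjective g
    have e1 : (eE.symm.trans c.ρ) (eE l) = c.ρ l := congrArg c.ρ (eE.symm_apply_apply l)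
    rw [e1]
    show c.ψ (t⁻¹ • (t * (l : H) * t⁻¹) • v) = _
    rw [mul_smul, mul_smul, inv_smul_smul]
    exact c.equiv l _

/-- The components: the `T`-conjugates of `c.L`, with the conjugates of `D` as the root groups in `T`. -/
theorem exists_decomp_components : ∃ d : Decomp W p T, d.Extra ∧ ∃ t : Fin d.r → H,
    (∀ i, t i ∈ T) ∧ (∀ i, d.E i = cj (t i) c.L) ∧
      ∀ F : Subgroup H, IsRoot W p F → F ≤ T → ∃ i, F = cj (t i) D := by
  classical
  obtain ⟨s⟩ := f.exists_split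
  have hd := f.sys.toDatum
  obtain ⟨n, hn⟩ := IsPGroup.iff_card.mp (PGroup.isPGroup_of_elementaryAbelian f.root.hD)
  let O := {S : Subgroup H // ∃ t ∈ T, cj t D = S}
  obtain ⟨r, ⟨e⟩⟩ := Finite.exists_equiv_fin O
  let t : Fin r → H := fun i => (e.symm i).2.choose
  have htT : ∀ i, t i ∈ T := fun i => (e.symm i).2.choose_spec.1
  have htS : ∀ i, cj (t i) D = (e.symm i).1 := fun i => (e.symm i).2.choose_spec.2
  have hinj : ∀ i j, cj (t i) D = cj (t j) D → i = j := fun i j h => by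
    rw [htS, htS] at h
    exact e.symm.injective (Subtype.ext h)
  have hidx : ∀ x ∈ T, ∃ i, cj (t i) D = cj x D := fun x hx =>
    ⟨e ⟨cj x D, x, hx, rfl⟩, by rw [htS, e.symm_apply_apply]⟩
  let E : Fin r → Subgroup H := fun i => cj (t i) c.L
  have hcomm : ∀ i j, i ≠ j → E j ≤ centralizer (E i : Set H) := fun i j hij =>
    f.cj_L_commute (htT i) (htT j) fun h => hij (hinj i j h)
  have hperm : ∀ x ∈ T, ∀ i, ∃ j, cj x (E i) = E j := fun x hx i => by
    obtain ⟨j, hj⟩ := hidx (x * t i) (mul_mem hx (htT i))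
    exact ⟨j, by rw [← cj_mul]; exact (f.cj_eq_of_root (htT j) (mul_mem hx (htT i)) hj).symm⟩
  set N := ⨆ i, E i with hN
  obtain ⟨i₀, hi₀⟩ := hidx 1 (one_mem T)
  have hLi₀ : E i₀ = c.L := by
    show cj (t i₀) c.L = c.L
    rw [f.cj_eq_of_root (htT i₀) (one_mem T) hi₀, cj_one]
  have hLN : c.L ≤ N := hLi₀ ▸ le_iSup E i₀
  have hsupT : N ⊔ T = ⊤ := by
    by_contra h
    exact f.out ((hLN.trans le_sup_left).trans (f.sys.huniq _ h le_sup_right))
  have hNn : N.Normal := by
    rw [← normalizer_eq_top_iff, eq_top_iff, ← hsupT]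
    refine sup_le le_normalizer fun x hx => mem_normalizer_of_cj_le ?_
    rw [hN, cj, Subgroup.map_iSup]
    refine iSup_le fun i => ?_
    obtain ⟨j, hj⟩ := hperm x hx i
    exact hj.le.trans (le_iSup E j)
  have hTC : T ⊓ centralizer (N : Set H) = ⊥ := by
    refine f.sys.pker _ ?_ (f.sys.hT.to_le inf_le_left)
    rw [← normalizer_eq_top_iff, eq_top_iff, ← hsupT]
    refine sup_le ?_ (LocalStructure.le_normalizer_inf le_normalizer
      (le_trans (by rw [normalizer_eq_top_iff.mpr hNn]; exact le_top)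
        (LocalStructure.le_normalizer_centralizer le_rfl)))
    exact (le_centralizer_iff.mp inf_le_right).trans (centralizer_le_normalizer _)
  have hroots : ∀ F : Subgroup H, IsRoot W p F → F ≤ T → ∃ i, F = cj (t i) D := fun F hF hFT => by
    by_contra h
    push Not at h
    refine hF.ne (le_bot_iff.mp (le_trans (le_inf hFT (le_centralizer_iff.mp (iSup_le fun i => ?_))) hTC.le))
    exact f.cj_L_le_centralizer hF (htT i) (h i) hFT
  have hmixed : ∀ i j, i ≠ j → ∀ v ∈ img W (E i), ∀ g ∈ E j, g • v = v := fun i j hij v hv g hg =>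
    f.mixed (htT i) (htT j) (fun h => hij (hinj i j h)) hv hg
  have hsum : ∀ i v, ∃ u ∈ img W (E i), v - u ∈ fixA W (E i) := fun i v => by
    obtain ⟨u, hu, hfix⟩ := s.exists_img ((t i)⁻¹ • v)
    refine ⟨t i • u, smul_img_cj _ hu, ?_⟩
    have h := (smul_mem_fixA_cj (t i)).mpr hfix
    rwa [smul_sub, smul_inv_smul] at h
  let d : Decomp W p T :=
    { r := r
      E := E
      pos := i₀.pos
      comm := fun i j hij a ha b hb => (hcomm i j hij hb a ha)
      disj := fun i => (eq_bot_iff_forall _).mpr fun x hx => hd.faithful x fun v => by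
        obtain ⟨u, hu, hfix⟩ := hsum i v
        have h1 : x • u = u := by
          have hle : (⨆ j ∈ {j | j ≠ i}, E j) ≤ MulAction.stabilizer H u :=
            iSup₂_le fun j hj g hg => hmixed i j (Ne.symm hj) u hu g hg
          exact hle hx.2
        conv_lhs => rw [← add_sub_cancel u v, smul_add, h1, hfix x hx.1]
        exact add_sub_cancel u v
      sup_T := hsupT
      trans := fun i j => ⟨t j * (t i)⁻¹, mul_mem (htT j) (inv_mem (htT i)), by
        show cj _ (cj _ _) = _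
        rw [← cj_mul, inv_mul_cancel_right]⟩
      decomp := eq_top_iff.mpr fun v _ => by
        choose u hu hfix using fun i => hsum i v
        have h1 : v - ∑ i, u i ∈ fixA W N := by
          have hle : ∀ i, E i ≤ MulAction.stabilizer H (v - ∑ j, u j) := fun i g hg => by
            show g • (v - ∑ j, u j) = v - ∑ j, u j
            rw [← Finset.add_sum_erase _ _ (Finset.mem_univ i), sub_add_eq_sub_sub, smul_sub,
              hfix i g hg, Finset.smul_sum, Finset.sum_congr rfl fun j (hj : j ∈ Finset.univ.erase i) =>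
                hmixed j i (Finset.mem_erase.mp hj).1 _ (hu j) g hg]
          exact fun g hg => (iSup_le hle : N ≤ _) hg
        rw [← sub_add_cancel v (∑ i, u i)]
        exact add_mem (AddSubgroup.mem_sup_left h1) (AddSubgroup.mem_sup_right
          (sum_mem fun i _ => AddSubgroup.mem_iSup_of_mem i (hu i)))
      mixed := hmixed
      shape := fun i => Or.inl (f.slShape_cj (t i) hn)
      offender := fun A hAT hA hle => by
        suffices ∀ m, ∀ A : Subgroup H, Nat.card A = m → A ≤ T → Cfsg.IsElementaryAbelian p A →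
            Nat.card W ≤ Nat.card A * Nat.card (fixA W A) → A ≤ N from this _ A rfl hAT hA hle
        intro m
        induction m using Nat.strong_induction_on with
        | _ m ih =>
        intro A hm hAT hA hle
        by_cases hA0 : A = ⊥
        · rw [hA0]; exact bot_le
        obtain ⟨B, hBA, hB⟩ := hd.exists_root_le hA hA0 hle
        obtain ⟨i, rfl⟩ := hroots B hB (hBA.trans hAT)
        have hA₁ : cj (t i)⁻¹ A ≤ T := (cj_mono hAT).trans (cj_eq_of_mem (inv_mem (htT i))).le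
        have hfixc : Nat.card (fixA W (cj (t i)⁻¹ A)) = Nat.card (fixA W A) :=
          Nat.card_congr ((MulAction.toPerm (t i)).subtypeEquiv fun v => by
            show v ∈ fixA W (cj (t i)⁻¹ A) ↔ t i • v ∈ fixA W A
            rw [← smul_mem_fixA_cj (t i), cj_cj_inv])
        obtain ⟨A', hA', hsup, hlt, hle'⟩ := f.offender_step hA₁
          (PGroup.isElementaryAbelian_map hA _) (by rw [← cj_inv_cj (t i) D]; exact cj_mono hBA)
          (by rwa [card_cj, hfixc])
        have hA'N := ih _ (by rwa [card_cj, hm] at hlt) A' rfl (hA'.trans hA₁)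
          (PGroup.isElementaryAbelian_mono (PGroup.isElementaryAbelian_map hA _) hA') hle'
        rw [← cj_cj_inv (t i) A]
        refine (cj_mono (hsup.trans (sup_le ?_ hA'N))).trans
          (cj_eq_of_mem_normalizer (normalizer_eq_top_iff.mpr hNn ▸ mem_top _)).le
        exact c.le.trans hLN }
  refine ⟨d, ⟨hperm, fun F hF hFT => ?_, fun i F hF hFE => ?_⟩, t, htT, fun _ => rfl, hroots⟩
  · obtain ⟨i, rfl⟩ := hroots F hF hFT
    exact ⟨i, cj_mono c.le⟩
  · have hFL : cj (t i)⁻¹ F ≤ c.L := (cj_mono hFE).trans (cj_inv_cj _ _).le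
    refine (cj_mono (f.L_le_conj (isRoot_cj hF (t i)⁻¹) hFL)).trans ?_
    rw [cj, Subgroup.map_iSup]
    refine iSup_le fun l => ?_
    refine le_trans (le_of_eq ?_) (le_iSup (fun e : ↥(d.E i) => cj (e : H) F)
      ⟨t i * (l : H) * (t i)⁻¹, conj_mem_cj l.2⟩)
    show cj (t i) (cj (l : H) (cj (t i)⁻¹ F)) = _
    rw [← cj_mul, ← cj_mul]

/-- The decomposition. -/
theorem exists_decomp : ∃ d : Decomp W p T, d.Extra :=
  let ⟨d, hd, _⟩ := f.exists_decomp_components
  ⟨d, hd⟩

end Frame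

/-- A root group of order at least `3` gives a frame, given the normalizer lemma. -/
theorem Big.exists_frame [Finite H] [Finite W] [Fact p.Prime] (hs : Sys W p T M)
    (hnorm : ∀ D : Subgroup H, IsRoot W p D → 2 < Nat.card D → D ≤ T → ∀ c : Coord W D, ¬ c.L ≤ M →
      T ⊓ normalizer (D : Set H) ≤ normalizer (c.L : Set H))
    {D₀ : Subgroup H} (hD₀ : IsRoot W p D₀) (hq : 2 < Nat.card D₀) :
    ∃ (D : Subgroup H) (c : Coord W D), Frame p T M D c := by
  obtain ⟨y, hy, c, hc⟩ := hs.out D₀ hD₀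
  have hq' : 2 < Nat.card (cj y D₀) := by rwa [card_cj]
  exact ⟨_, c, hs, isRoot_cj hD₀ y, hy, hq', hc, hnorm _ (isRoot_cj hD₀ y) hq' hy c hc⟩

/-- The decomposition for a system with a root group of order at least `3`, given the normalizer lemma. -/
theorem Big.exists_decomp [Finite H] [Finite W] [Fact p.Prime] (hs : Sys W p T M)
    (hnorm : ∀ D : Subgroup H, IsRoot W p D → 2 < Nat.card D → D ≤ T → ∀ c : Coord W D, ¬ c.L ≤ M →
      T ⊓ normalizer (D : Set H) ≤ normalizer (c.L : Set H))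
    {D₀ : Subgroup H} (hD₀ : IsRoot W p D₀) (hq : 2 < Nat.card D₀) : ∃ d : Decomp W p T, d.Extra := by
  obtain ⟨D, c, f⟩ := Big.exists_frame hs hnorm hD₀ hq
  exact f.exists_decomp

end Cfsg.Agent.PMinFF
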