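import Cfsg.Agent.Lib.PMinFF.TypeTwo

/-!
# The normalizer lemma

In a system an element of `T` normalizing a root group `D ≤ T` of order at least three normalizes the `SL₂` of
`D` outside `M` (`Big.le_normalizer_L`).
-/

set_option autoImplicit false

namespace Cfsg.Agent.PMinFF

open Subgroup Subnormal
open scoped Matrix

variable {H : Type*} [Group H] {W : Type*} [AddCommGroup W] [DistribMulAction H W] {p : ℕ}
  {D : Subgroup H}

namespace Split

variable {c : Coord W D} (s : Split c) [Finite H] [Finite W] [Fact p.Prime] (hD : IsRoot W p D)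
  (hd : Datum W p H)
include hD hd

/-- An element preserving the axes normalizes `L`. -/
theorem normalizes_of_diag {g : H} (hg : g ∈ normalizer (D : Set H)) {α : c.F}
    (hsy : g • s.sy 1 = s.sy α) (hsx : ∀ x, c.ψ (g • s.sx x) 0 = 0)
    (hC : ∀ v ∈ fixA W c.L, g • v ∈ fixA W c.L) : g ∈ normalizer (c.L : Set H) := by
  have hopp : cj g c.opp = c.opp := by
    refine s.eq_opp_of_image hD hd (isRoot_cj (isRoot_cj hD _) _) ?_ ⟨α, fun h => ?_⟩
    · rintro _ ⟨x, hx, rfl⟩ v
      obtain ⟨t, rfl⟩ := c.mem_opp_iff.mp hx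
      show c.ψ (dlt W (g * c.l t * g⁻¹) v) 0 = 0
      rw [dlt_conj, s.dlt_l hD, smul_add, map_add, Pi.add_apply, hsx,
        (c.ker _).mpr (hC _ (s.θ_mem _ _))]
      simp
    · rw [← hsy, smul_mem_fixA_cj, c.mem_fixA_opp_iff hD, s.psi_sy] at h
      exact one_ne_zero h
  refine mem_normalizer_of_cj_le (le_of_eq ?_)
  have h : cj g (D ⊔ c.opp) = D ⊔ c.opp :=
    (Subgroup.map_sup D c.opp _).trans (by
      rw [show D.map (MulAut.conj g).toMonoidHom = D from cj_eq_of_mem_normalizer hg]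
      exact congrArg (D ⊔ ·) hopp)
  rwa [← c.L_eq] at h

omit [Fact p.Prime] [Finite H] hd in
theorem psi_u_sy {g : H} (hg : g ∈ normalizer (D : Set H)) (r a : c.F) :
    c.ψ ((c.u r * g) • s.sy a) 0 = c.ψ (g • s.sy a) 0 := by
  have h1 := smul_mem_fixA_of_normalizer W hg (s.sy_mem_fixA hD a)
  rw [mul_smul, h1 _ (c.u_mem r)]

include s in
/-- Normalizing `D` and fixing the vector of the wall implies normalizing `L`. -/
theorem normalizes {M : Subgroup H} {z : W} (w : Wall c M z) {g : H} (hg : g ∈ normalizer (D : Set H))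
    (hgz : g • z = z) : g ∈ normalizer (c.L : Set H) := by
  classical
  rcases s.dich hD hd hg with hI | ⟨hp, hA, hB⟩
  swap
  · exact (s.false_of_typeTwo' hD hd hp (s.card_eq_four hD hd hg hp hA hB) w hg hgz hA hB).elim
  obtain ⟨φ, ξ, hφ, hξ, hφb, hξb⟩ := s.exists_twist hD hg
  let A : c.F →+ c.F := AddMonoidHom.mk' (fun a => c.ψ (g • s.sy a) 0) fun a b => by
    rw [map_add, smul_add, map_add, Pi.add_apply]
  have key : ∀ t x, φ t * ξ x = A (t * x) := fun t x => by
    rw [s.twist_rel0 hD hφ hξ, hI, add_zero]; rfl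
  have hφ1 : φ 1 ≠ 0 := fun e => one_ne_zero (hφb.1 (e.trans (map_zero φ).symm))
  have hξ1 : ξ 1 ≠ 0 := fun e => one_ne_zero (hξb.1 (e.trans (map_zero ξ).symm))
  have hA1 : A 1 = φ 1 * ξ 1 := by have := key 1 1; rw [one_mul] at this; exact this.symm
  have hne : A 1 ≠ 0 := hA1 ▸ mul_ne_zero hφ1 hξ1
  let τ : c.F →+* c.F :=
    { toFun := fun x => A x / A 1
      map_one' := div_self hne
      map_zero' := by simp
      map_add' := fun a b => by rw [map_add, add_div]
      map_mul' := fun a b => by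
        have h1 := key a b
        have h2 := key a 1
        have h3 := key 1 b
        rw [mul_one] at h2
        rw [one_mul] at h3
        rw [div_mul_div_comm, div_eq_div_iff hne (mul_ne_zero hne hne), ← h1, ← h2, ← h3, hA1]
        ring }
  have hAτ : ∀ a, A a = A 1 * τ a := fun a => (mul_div_cancel₀ _ hne).symm
  have hφτ : ∀ t, φ t = φ 1 * τ t := fun t => by
    show _ = φ 1 * (A t / A 1)
    have h2 := key t 1
    rw [mul_one] at h2
    rw [hA1, ← h2]
    field_simp
  have hξτ : ∀ x, ξ x = ξ 1 * τ x := fun x => by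
    show _ = ξ 1 * (A x / A 1)
    have h3 := key 1 x
    rw [one_mul] at h3
    rw [hA1, ← h3]
    field_simp
  set ν : c.Fˣ := Units.map τ.toMonoidHom s.μ₀
  have hνv : (ν : c.F) = τ s.μ₀ := rfl
  have hν : ν ≠ 1 := fun e => s.ne (Units.ext (τ.injective (by rw [← hνv, e, Units.val_one, map_one])))
  obtain ⟨r, hr⟩ := s.exists_conj hD hd hg hφ hξ hφb (μ := s.μ₀) hν
    (fun t => by rw [hφτ, hφτ t, map_mul, map_mul, hνv]; ring)
    (fun x => by
      rw [hξτ, hξτ x, map_mul, show τ ((s.μ₀⁻¹ : c.Fˣ) : c.F) = ((ν⁻¹ : c.Fˣ) : c.F) by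
        simp only [ν, ← map_inv]; rfl]
      ring)
  suffices h : c.u r * g ∈ normalizer (c.L : Set H) by
    have h1 := mul_mem (inv_mem (le_normalizer (c.u_mem_L r) : c.u r ∈ normalizer (c.L : Set H))) h
    rwa [inv_mul_cancel_left] at h1
  set g' := c.u r * g with hg'def
  have hun : ∀ r, c.u r ∈ normalizer (D : Set H) := fun r => le_normalizer (c.u_mem r)
  have hg' : g' ∈ normalizer (D : Set H) := mul_mem (hun r) hg
  have hξ' : ∀ v, c.ψ (g' • v) 1 = ξ (c.ψ v 1) := fun v => by
    rw [hg'def, mul_smul, c.psi_u]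
    simpa using hξ v
  obtain ⟨hC, hsy, hsx, hQ⟩ := s.maps_of_conj hD hg' s.ne hν hr
  have hsy' : ∀ a, g' • s.sy a = s.sy (A 1 * τ a) := fun a => by
    rw [hsy a, hg'def, s.psi_u_sy hD hg, ← hAτ]; rfl
  let Q : c.F →+ c.F := AddMonoidHom.mk' (fun a => c.ψ (g' • s.sx a) 0) fun a b => by
    rw [map_add, smul_add, map_add, Pi.add_apply]
  have hsx' : ∀ x, g' • s.sx x = s.sy (Q x) + s.sx (ξ 1 * τ x) := fun x => by
    rw [← hξτ, hsx x, hξ', s.psi_sx]
    rfl
  -- the relation for every unit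
  have hQall : ∀ μ : c.Fˣ, ∀ x, Q (((μ⁻¹ : c.Fˣ) : c.F) * x) = τ μ * Q x := by
    let S : Submonoid c.Fˣ :=
      { carrier := {μ | ∀ x, Q (((μ⁻¹ : c.Fˣ) : c.F) * x) = τ μ * Q x}
        one_mem' := fun x => by simp
        mul_mem' := fun {a b} ha hb x => by
          rw [mul_inv, Units.val_mul, mul_assoc, ha, hb, Units.val_mul, map_mul, mul_assoc] }
    intro μ
    obtain ⟨n, hn⟩ := (isOfFinOrder_of_finite s.μ₀).mem_powers_iff_mem_zpowers.mpr (s.gen μ)
    exact hn ▸ S.pow_mem (show s.μ₀ ∈ S from hQ) n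
  have hQinv : ∀ x, x ≠ 0 → Q x * τ x = Q 1 := fun x hx => by
    have h1 := hQall (Units.mk0 x hx)⁻¹ 1
    rw [inv_inv, Units.val_mk0, mul_one] at h1
    rw [h1, mul_right_comm, ← map_mul, Units.val_inv_eq_inv_val, Units.val_mk0, inv_mul_cancel₀ hx,
      map_one, one_mul]
  by_cases hQ1 : Q 1 = 0
  · refine s.normalizes_of_diag hD hd hg' (by rw [hsy', map_one τ, mul_one]) (fun x => ?_) hC
    show Q x = 0
    by_cases hx : x = 0
    · rw [hx, map_zero]
    · have := hQinv x hx
      rw [hQ1] at this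
      exact (mul_eq_zero.mp this).resolve_right ((map_ne_zero τ).mpr hx)
  have hroot : ∀ y : c.F, y ≠ 0 → y ≠ -1 → y * y + y + 1 = 0 := by
    intro y hy hy1
    have hy1' : y + 1 ≠ 0 := fun e => hy1 (eq_neg_of_add_eq_zero_left e)
    have e1 := hQinv y hy
    have e2 := hQinv (y + 1) hy1'
    rw [map_add, map_add τ, map_one τ] at e2
    have e3 : Q 1 * (τ y * τ y + τ y + 1) = 0 := by
      linear_combination τ y * e2 - (τ y + 1) * e1
    have e4 := (mul_eq_zero.mp e3).resolve_left hQ1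
    apply τ.injective
    rw [map_zero, map_add, map_add, map_mul, map_one, e4]
  have hle : Fintype.card c.F ≤ 4 := by
    by_contra hcon
    obtain ⟨y₀, hy0, hy1⟩ : ∃ y : c.F, y ≠ 0 ∧ y ≠ -1 := by
      by_contra hy
      push Not at hy
      refine hcon (le_trans (Finset.card_le_card (s := Finset.univ) (t := ({0, -1} : Finset c.F)) fun x _ => ?_)
        (Finset.card_le_two.trans (by norm_num)))
      by_cases hx : x = 0 <;> simp [hx, hy x]
    refine hcon (le_trans (Finset.card_le_card (s := Finset.univ)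
      (t := ({0, -1, y₀, -1 - y₀} : Finset c.F)) fun y _ => ?_) Finset.card_le_four)
    simp only [Finset.mem_insert, Finset.mem_singleton]
    by_cases hy : y = 0
    · exact Or.inl hy
    by_cases hy' : y = -1
    · exact Or.inr (Or.inl hy')
    have e : (y - y₀) * (y + y₀ + 1) = 0 := by linear_combination hroot y hy hy' - hroot y₀ hy0 hy1
    rcases mul_eq_zero.mp e with e | e
    · exact Or.inr (Or.inr (Or.inl (sub_eq_zero.mp e)))
    · exact Or.inr (Or.inr (Or.inr (by linear_combination e)))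
  rw [c.cardF] at hle
  have h3 : 2 < Nat.card D := by
    by_contra hcon
    have hone : Fintype.card c.Fˣ ≤ 1 := by
      rw [Fintype.card_units, c.cardF]; omega
    exact s.ne (Fintype.card_le_one_iff.mp hone _ _)
  obtain ⟨j, hj⟩ := (IsPGroup.iff_card.mp (PGroup.isPGroup_of_elementaryAbelian hD.hD) :
    ∃ j, Nat.card D = p ^ j)
  have hpd : ∀ {l : ℕ}, l.Prime → ∀ {k}, Nat.card D = l ^ k → k ≠ 0 → p = l := fun {l} hl {k} hk hk0 =>
    ((Nat.prime_dvd_prime_iff_eq hl Fact.out).mp
      (hl.dvd_of_dvd_pow (n := j) (hj ▸ hk ▸ dvd_pow_self l hk0))).symm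
  have hx3 : ∀ x : c.F, x ≠ 0 → x ^ (Nat.card D - 1) = 1 := fun x hx => by
    rw [← c.cardF]; exact FiniteField.pow_card_sub_one_eq_one x hx
  rcases (by omega : Nat.card D = 3 ∨ Nat.card D = 4) with h | h
  · -- three elements
    have hp : p = 3 := hpd Nat.prime_three (k := 1) (by simpa using h) one_ne_zero
    have hQlin : ∀ x, Q x = Q 1 * τ x := by
      intro x
      by_cases hx : x = 0
      · simp [hx]
      · have h1 := hQinv x hx
        have h2 : τ x * τ x = 1 := by
          rw [← map_mul, ← map_one τ]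
          congr 1
          simpa [h, pow_two] using hx3 x hx
        linear_combination τ x * h1 - Q x * h2
    obtain ⟨r₂, hr₂⟩ : ∃ r₂, r₂ = -(Q 1 / ξ 1) := ⟨_, rfl⟩
    suffices h : c.u r₂ * g' ∈ normalizer (c.L : Set H) by
      have h1 := mul_mem (inv_mem (le_normalizer (c.u_mem_L r₂) : c.u r₂ ∈ normalizer (c.L : Set H))) h
      rwa [inv_mul_cancel_left] at h1
    refine s.normalizes_of_diag hD hd (mul_mem (hun r₂) hg') (α := A 1) ?_ (fun x => ?_) fun v hv => ?_
    · rw [mul_smul, hsy', map_one τ, mul_one, s.sy_mem_fixA hD _ _ (c.u_mem r₂)]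
    · rw [mul_smul, c.psi_u, hsx', map_add, s.psi_sy, s.psi_sx, hQlin, hr₂]
      simp only [Pi.add_apply, Matrix.cons_val_zero, Matrix.cons_val_one, add_zero, zero_add]
      field_simp
      ring
    · rw [mul_smul, c.u_smul_L (hC v hv)]
      exact hC v hv
  · -- four elements
    exfalso
    have hp : p = 2 := hpd Nat.prime_two (k := 2) (by simpa using h) two_ne_zero
    refine hQ1 (s.twist_eq_zero hd hD w hp h τ (α := A 1) (ξ := ξ 1) (k := Q 1) hne hξ1 hsy' (fun x => ?_) hC)
    rw [hsx']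
    congr 2
    by_cases hx : x = 0
    · simp [hx]
    · have h1 := hQinv x hx
      have h2 : τ x * τ x * τ x = 1 := by
        rw [← map_mul, ← map_mul, ← map_one τ]
        congr 1
        simpa [h, pow_succ] using hx3 x hx
      linear_combination τ x * τ x * h1 - Q x * h2

end Split

variable [Finite H] [Finite W] [Fact p.Prime] {T M : Subgroup H}

/-- The vector fixed by `T` and the subgroup `M` form a wall for a root group outside `M`. -/
theorem Sys.exists_wall (hs : Sys W p T M) (hD : IsRoot W p D) (hq : 2 < Nat.card D) (hDT : D ≤ T)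
    (c : Coord W D) (hL : ¬ c.L ≤ M) : ∃ z ∈ fixA W T, Wall c M z := by
  obtain ⟨s⟩ := c.nonempty_split hq
  have hd := hs.toDatum
  have hgen : ∀ K : Subgroup H, T ≤ K → c.L ≤ K → K = ⊤ := fun K hT hK => by
    by_contra hne
    exact hL (hK.trans (hs.huniq K hne hT))
  obtain ⟨z, hzT, g, hgz⟩ := hs.moved
  have hzD : z ∈ fixA W D := fixA_anti hDT hzT
  have hnf : z ∉ fixA W c.L := fun h => hgz
    ((hgen (MulAction.stabilizer H z) (fun x hx => hzT x hx) (fun x hx => h x hx)).ge (mem_top g))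
  have hy : c.ψ z 0 ≠ 0 := fun e => hnf ((c.ker z).mp (funext fun i => by
    fin_cases i
    · exact e
    · exact (c.mem_fixA_iff hD z).mp hzD))
  refine ⟨z, hzT, hDT.trans hs.hTM, fun μ => ?_, hL, fun x hx => ?_, hzD, hy⟩
  · -- the torus normalises the join of the root groups in `T`
    set J := ⨆ F : {F : Subgroup H // IsRoot W p F ∧ F ≤ T}, (F : Subgroup H) with hJ
    have hJT : J ≤ T := iSup_le fun F => F.2.2
    have hDJ : D ≤ J := le_iSup (fun F : {F : Subgroup H // IsRoot W p F ∧ F ≤ T} => (F : Subgroup H))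
      ⟨D, hD, hDT⟩
    have hle : normalizer (J : Set H) ≤ M := by
      refine hs.huniq _ (fun e => ?_) fun t ht => mem_normalizer_of_cj_le ?_
      · have h1 := hs.pker J (normalizer_eq_top_iff.mp e) (hs.hT.to_le hJT)
        exact hD.ne (le_bot_iff.mp (hDJ.trans h1.le))
      · rw [hJ, cj, Subgroup.map_iSup]
        refine iSup_le fun F => ?_
        exact le_iSup_of_le (ι := {F : Subgroup H // IsRoot W p F ∧ F ≤ T})
          ⟨cj t F, isRoot_cj F.2.1 t, (cj_mono F.2.2).trans (cj_eq_of_mem ht).le⟩ le_rfl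
    refine hle (mem_normalizer_of_cj_le ?_)
    rw [hJ, cj, Subgroup.map_iSup]
    refine iSup_le fun F => le_iSup_of_le F ?_
    by_cases hF : (F : Subgroup H) = D
    · rw [hF]
      exact (cj_eq_of_mem_normalizer (Split.tor_mem_normalizer hD μ)).le
    · rintro _ ⟨f, hf, rfl⟩
      have := s.centralizes hd hD F.2.1 hF (hD.commute_of_pGroup hd F.2.1 hs.hT hDT F.2.2) _
        (c.tor_mem_L μ) f hf
      show c.tor μ * f * (c.tor μ)⁻¹ ∈ (F : Subgroup H)
      rw [this, mul_inv_cancel_right]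
      exact hf
  · refine hs.huniq (MulAction.stabilizer H z) (fun e => hgz (e.ge (mem_top g))) (fun t ht => hzT t ht) ?_
    exact hx

/-- The normalizer lemma. -/
theorem Big.le_normalizer_L (hs : Sys W p T M) {D : Subgroup H} (hD : IsRoot W p D) (hq : 2 < Nat.card D)
    (hDT : D ≤ T) (c : Coord W D) (hL : ¬ c.L ≤ M) :
    T ⊓ normalizer (D : Set H) ≤ normalizer (c.L : Set H) := by
  obtain ⟨s⟩ := c.nonempty_split hq
  obtain ⟨z, hzT, w⟩ := hs.exists_wall hD hq hDT c hL
  exact fun g hg => s.normalizes hD hs.toDatum w hg.2 (hzT g hg.1)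

end Cfsg.Agent.PMinFF
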