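import Cfsg.Agent.Lib.PMinFF.Facts

/-!
# The standard elements of the `SL₂` of a root group

`u t`, `l t`: upper and lower unitriangular elements, `tor μ`: the diagonal element, `wy`: the Weyl element;
their relations, their effect on `ψ`, and generation.
-/

set_option autoImplicit false

namespace Cfsg.Agent.PMinFF

open Subgroup Subnormal
open scoped Matrix

variable {H : Type*} [Group H] {W : Type*} [AddCommGroup W] [DistribMulAction H W] {p : ℕ}

namespace Coord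

variable {D : Subgroup H} (c : Coord W D)

/-- Upper unitriangular element. -/
def u (t : c.F) : H := (c.ρ.symm (NaturalSL2.uni t) : ↥c.L)

/-- Lower unitriangular matrix. -/
def lowMat (t : c.F) : Matrix.SpecialLinearGroup (Fin 2) c.F :=
  ⟨!![1, 0; t, 1], by simp [Matrix.det_fin_two]⟩

/-- Lower unitriangular element. -/
def l (t : c.F) : H := (c.ρ.symm (c.lowMat t) : ↥c.L)

/-- Diagonal matrix. -/
def torMat (μ : c.Fˣ) : Matrix.SpecialLinearGroup (Fin 2) c.F :=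
  ⟨!![(μ : c.F), 0; 0, ((μ⁻¹ : c.Fˣ) : c.F)], by simp [Matrix.det_fin_two]⟩

/-- Torus element. -/
def tor (μ : c.Fˣ) : H := (c.ρ.symm (c.torMat μ) : ↥c.L)

/-- The Weyl matrix. -/
def wMat : Matrix.SpecialLinearGroup (Fin 2) c.F :=
  ⟨!![0, -1; 1, 0], by simp [Matrix.det_fin_two]⟩

/-- Weyl element. -/
def wy : H := (c.ρ.symm c.wMat : ↥c.L)

theorem psi_symm (A : Matrix.SpecialLinearGroup (Fin 2) c.F) (v : W) :
    c.ψ ((c.ρ.symm A : H) • v) = (A : Matrix (Fin 2) (Fin 2) c.F) *ᵥ c.ψ v := by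
  rw [c.equiv, MulEquiv.apply_symm_apply]

theorem psi_u (t : c.F) (v : W) : c.ψ (c.u t • v) = ![c.ψ v 0 + t * c.ψ v 1, c.ψ v 1] := by
  rw [u, c.psi_symm]
  funext i
  fin_cases i <;> simp [NaturalSL2.uni, Matrix.mulVec, dotProduct, Fin.sum_univ_two]

theorem psi_l (t : c.F) (v : W) : c.ψ (c.l t • v) = ![c.ψ v 0, c.ψ v 1 + t * c.ψ v 0] := by
  rw [l, c.psi_symm]
  funext i
  fin_cases i <;> simp [lowMat, Matrix.mulVec, dotProduct, Fin.sum_univ_two, add_comm]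

theorem psi_tor (μ : c.Fˣ) (v : W) :
    c.ψ (c.tor μ • v) = ![μ * c.ψ v 0, ((μ⁻¹ : c.Fˣ) : c.F) * c.ψ v 1] := by
  rw [tor, c.psi_symm]
  funext i
  fin_cases i <;> simp [torMat, Matrix.mulVec, dotProduct, Fin.sum_univ_two]

theorem psi_wy (v : W) : c.ψ (c.wy • v) = ![-c.ψ v 1, c.ψ v 0] := by
  rw [wy, c.psi_symm]
  funext i
  fin_cases i <;> simp [wMat, Matrix.mulVec, dotProduct, Fin.sum_univ_two]

theorem u_mem_L (t : c.F) : c.u t ∈ c.L := SetLike.coe_mem _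

theorem l_mem_L (t : c.F) : c.l t ∈ c.L := SetLike.coe_mem _

theorem tor_mem_L (μ : c.Fˣ) : c.tor μ ∈ c.L := SetLike.coe_mem _

theorem wy_mem_L : c.wy ∈ c.L := SetLike.coe_mem _

theorem rho_u (t : c.F) : c.ρ ⟨c.u t, c.u_mem_L t⟩ = NaturalSL2.uni t := c.ρ.apply_symm_apply _

theorem u_mem (t : c.F) : c.u t ∈ D :=
  (c.memD ⟨c.u t, c.u_mem_L t⟩).mpr (c.rho_u t ▸ NaturalSL2.uni_mem t)

theorem exists_u {g : H} (hg : g ∈ D) : ∃ t, c.u t = g := by
  refine ⟨(c.ρ ⟨g, c.le hg⟩ : Matrix (Fin 2) (Fin 2) c.F) 0 1, ?_⟩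
  have e : NaturalSL2.uni ((c.ρ ⟨g, c.le hg⟩ : Matrix (Fin 2) (Fin 2) c.F) 0 1) = c.ρ ⟨g, c.le hg⟩ :=
    Subtype.ext (NaturalSL2.apply_of_mem_upperUni ((c.memD _).mp hg)).symm
  rw [u, e, MulEquiv.symm_apply_apply]

theorem u_add (s t : c.F) : c.u (s + t) = c.u s * c.u t := by
  rw [u, u, u, ← Subgroup.coe_mul, ← map_mul]
  congr 2
  apply Subtype.ext
  simp only [Matrix.SpecialLinearGroup.coe_mul]
  ext i j
  fin_cases i <;> fin_cases j <;> simp [NaturalSL2.uni, add_comm, Matrix.mul_apply, Fin.sum_univ_two]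

theorem u_zero : c.u 0 = 1 := by
  have h := c.u_add 0 0
  rw [add_zero] at h
  exact left_eq_mul.mp h

theorem u_neg (t : c.F) : c.u (-t) = (c.u t)⁻¹ := by
  rw [eq_inv_iff_mul_eq_one, ← u_add, neg_add_cancel, u_zero]

theorem u_injective : Function.Injective c.u := fun s t h => by
  have e : NaturalSL2.uni s = NaturalSL2.uni t := c.ρ.symm.injective (Subtype.ext h)
  simpa [NaturalSL2.uni] using congrFun (congrFun (congrArg Subtype.val e) 0) 1

theorem tor_mul (μ ν : c.Fˣ) : c.tor (μ * ν) = c.tor μ * c.tor ν := by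
  rw [tor, tor, tor, ← Subgroup.coe_mul, ← map_mul]
  congr 2
  apply Subtype.ext
  simp only [Matrix.SpecialLinearGroup.coe_mul]
  ext i j
  fin_cases i <;> fin_cases j <;> simp [torMat, mul_comm, Matrix.mul_apply, Fin.sum_univ_two]

theorem tor_one : c.tor 1 = 1 := by
  have h := c.tor_mul 1 1
  rw [one_mul] at h
  exact left_eq_mul.mp h

theorem tor_inv (μ : c.Fˣ) : c.tor μ⁻¹ = (c.tor μ)⁻¹ := by
  rw [eq_inv_iff_mul_eq_one, ← tor_mul, inv_mul_cancel, tor_one]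

theorem tor_comm (μ ν : c.Fˣ) : c.tor μ * c.tor ν = c.tor ν * c.tor μ := by
  rw [← tor_mul, ← tor_mul, mul_comm]

theorem tor_conj_u (μ : c.Fˣ) (t : c.F) :
    c.tor μ * c.u t * (c.tor μ)⁻¹ = c.u ((μ : c.F) * μ * t) := by
  rw [mul_inv_eq_iff_eq_mul, u, u, tor, ← Subgroup.coe_mul, ← map_mul, ← Subgroup.coe_mul, ← map_mul]
  congr 2
  apply Subtype.ext
  simp only [Matrix.SpecialLinearGroup.coe_mul]
  ext i j
  fin_cases i <;> fin_cases j <;> simp [torMat, NaturalSL2.uni, Matrix.mul_apply, Fin.sum_univ_two]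
  all_goals field_simp

theorem tor_conj_l (μ : c.Fˣ) (t : c.F) :
    c.tor μ * c.l t * (c.tor μ)⁻¹ = c.l (((μ⁻¹ : c.Fˣ) : c.F) * (μ⁻¹ : c.Fˣ) * t) := by
  rw [mul_inv_eq_iff_eq_mul, l, l, tor, ← Subgroup.coe_mul, ← map_mul, ← Subgroup.coe_mul, ← map_mul]
  congr 2
  apply Subtype.ext
  simp only [Matrix.SpecialLinearGroup.coe_mul]
  ext i j
  fin_cases i <;> fin_cases j <;> simp [torMat, lowMat, Matrix.mul_apply, Fin.sum_univ_two]
  all_goals field_simp

theorem wy_conj_u (t : c.F) : c.wy * c.u t * c.wy⁻¹ = c.l (-t) := by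
  rw [mul_inv_eq_iff_eq_mul, u, l, wy, ← Subgroup.coe_mul, ← map_mul, ← Subgroup.coe_mul, ← map_mul]
  congr 2
  apply Subtype.ext
  simp only [Matrix.SpecialLinearGroup.coe_mul]
  ext i j
  fin_cases i <;> fin_cases j <;> simp [wMat, lowMat, NaturalSL2.uni, Matrix.mul_apply, Fin.sum_univ_two]

theorem wy_conj_tor (μ : c.Fˣ) : c.wy * c.tor μ * c.wy⁻¹ = c.tor μ⁻¹ := by
  rw [mul_inv_eq_iff_eq_mul, tor, tor, wy, ← Subgroup.coe_mul, ← map_mul, ← Subgroup.coe_mul, ← map_mul]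
  congr 2
  apply Subtype.ext
  simp only [Matrix.SpecialLinearGroup.coe_mul]
  ext i j
  fin_cases i <;> fin_cases j <;> simp [wMat, torMat, Matrix.mul_apply, Fin.sum_univ_two]

theorem L_le {K : Subgroup H} (hu : ∀ t, c.u t ∈ K) (hl : ∀ t, c.l t ∈ K) : c.L ≤ K := by
  intro g hg
  have h : ((K.comap c.L.subtype).map c.ρ.toMonoidHom) = ⊤ := by
    refine GL.SL_eq_top_of_transvection_mem fun i j hij t => ?_
    fin_cases i <;> fin_cases j <;> simp at hij
    · refine ⟨c.ρ.symm (NaturalSL2.uni t), hu t, (c.ρ.apply_symm_apply _).trans ?_⟩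
      ext a b
      fin_cases a <;> fin_cases b <;>
        simp [NaturalSL2.uni, Matrix.SpecialLinearGroup.transvection, Matrix.transvection]
    · refine ⟨c.ρ.symm (c.lowMat t), hl t, (c.ρ.apply_symm_apply _).trans ?_⟩
      ext a b
      fin_cases a <;> fin_cases b <;>
        simp [lowMat, Matrix.SpecialLinearGroup.transvection, Matrix.transvection]
  obtain ⟨k, hk, he⟩ := h.ge (mem_top (c.ρ ⟨g, hg⟩))
  rw [show k = ⟨g, hg⟩ from c.ρ.injective he] at hk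
  exact hk

theorem fixA_L_le : fixA W c.L ≤ fixA W D := fixA_anti c.le

/-- The opposite root group. -/
def opp : Subgroup H := cj c.wy D

theorem mem_opp_iff {g : H} : g ∈ c.opp ↔ ∃ t, c.l t = g := by
  constructor
  · rintro ⟨d, hd, rfl⟩
    obtain ⟨t, rfl⟩ := c.exists_u hd
    exact ⟨-t, (c.wy_conj_u t).symm⟩
  · rintro ⟨t, rfl⟩
    exact ⟨c.u (-t), c.u_mem _, (c.wy_conj_u (-t)).trans (by rw [neg_neg])⟩

theorem l_mem_opp (t : c.F) : c.l t ∈ c.opp := c.mem_opp_iff.mpr ⟨t, rfl⟩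

theorem opp_le : c.opp ≤ c.L := fun g hg => by
  obtain ⟨t, rfl⟩ := c.mem_opp_iff.mp hg
  exact c.l_mem_L t

theorem L_eq : c.L = D ⊔ c.opp :=
  le_antisymm (c.L_le (fun t => mem_sup_left (c.u_mem t)) fun t => mem_sup_right (c.l_mem_opp t))
    (sup_le c.le c.opp_le)

theorem opp_ne [Nontrivial c.F] : c.opp ≠ D := fun e => by
  obtain ⟨t, ht⟩ := c.exists_u (e.le (c.l_mem_opp 1))
  have h := c.ρ.symm.injective (Subtype.ext ht : c.ρ.symm (NaturalSL2.uni t) = c.ρ.symm (c.lowMat 1))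
  simpa [NaturalSL2.uni, lowMat] using congrFun (congrFun (congrArg Subtype.val h) 1) 0

theorem u_smul_L {z : W} (hz : z ∈ fixA W c.L) (t : c.F) : c.u t • z = z := hz _ (c.u_mem_L t)

theorem psi_smul_ker {g : H} (hg : g ∈ c.L) {z : W} (hz : c.ψ z = 0) : g • z = z :=
  (c.ker z).mp hz g hg

end Coord

end Cfsg.Agent.PMinFF
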