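import Cfsg.Agent.Lib.PMinFF.Bridge
import Mathlib.GroupTheory.SemidirectProduct

/-!
# A linear action is a configuration

`sys_of_linear`: a faithful action on an elementary abelian group with one maximal subgroup above a Sylow
subgroup `T`, no normal `p`-subgroups and `C_W(T)` moved is a `Sys`, by the subgroup theorems in `W ⋊ H`.
-/

set_option autoImplicit false
set_option linter.unusedSectionVars false
set_option linter.style.haveILetI false

namespace Cfsg.Agent.PMinFF

open Subgroup Subnormal
open scoped Matrix IsMulCommutative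

universe u

section Transport

variable {H : Type*} [Group H] {W : Type*} [AddCommGroup W] [DistribMulAction H W]
  {H' : Type*} [Group H'] {W' : Type*} [AddCommGroup W'] [DistribMulAction H' W'] {p : ℕ}

theorem mem_fixA_map (e : H ≃* H') (f : W ≃+ W') (he : ∀ g v, f (g • v) = e g • f v) (B : Subgroup H) (v : W) :
    f v ∈ fixA W' (B.map e.toMonoidHom) ↔ v ∈ fixA W B := by
  constructor
  · intro h g hg
    exact f.injective ((he g v).trans (h _ ⟨g, hg, rfl⟩))
  · rintro h _ ⟨g, hg, rfl⟩
    exact (he g v).symm.trans (congrArg f (h g hg))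

theorem card_fixA_map (e : H ≃* H') (f : W ≃+ W') (he : ∀ g v, f (g • v) = e g • f v) (B : Subgroup H) :
    Nat.card (fixA W' (B.map e.toMonoidHom)) = Nat.card (fixA W B) :=
  (Nat.card_congr (f.toEquiv.subtypeEquiv fun v => (mem_fixA_map e f he B v).symm)).symm

theorem isRoot_map (e : H ≃* H') (f : W ≃+ W') (he : ∀ g v, f (g • v) = e g • f v) {D : Subgroup H}
    (hD : IsRoot W p D) : IsRoot W' p (D.map e.toMonoidHom) := by
  have hW : Nat.card W' = Nat.card W := (Nat.card_congr f.toEquiv).symm
  refine ⟨PGroup.isElementaryAbelian_map hD.hD _,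
    fun h => hD.ne ((map_eq_bot_iff_of_injective _ e.injective).mp h), ?_, fun B hB hB0 hB1 => ?_⟩
  · rw [card_map_of_injective (f := e.toMonoidHom) e.injective, card_fixA_map e f he, hD.card_eq, hW]
  · have e1 : (B.comap e.toMonoidHom).map e.toMonoidHom = B :=
      map_comap_eq_self_of_surjective e.surjective B
    have h1 := hD.strict (B.comap e.toMonoidHom)
      (fun y hy => (Subgroup.mem_map_iff_mem (f := e.toMonoidHom) e.injective).mp (hB hy))
      (fun h => hB0 (by rw [← e1, h, Subgroup.map_bot])) (fun h => hB1 (by rw [← e1, h]))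
    rw [← e1, card_map_of_injective (f := e.toMonoidHom) e.injective, card_fixA_map e f he, hW]
    exact h1

theorem cj_map (e : H →* H') (y : H) (D : Subgroup H) : cj (e y) (D.map e) = (cj y D).map e := by
  unfold cj
  rw [Subgroup.map_map, Subgroup.map_map]
  congr 1
  ext x
  simp

/-- Pulled back coordinates. -/
theorem exists_coord_comap (e : H ≃* H') (f : W ≃+ W') (he : ∀ g v, f (g • v) = e g • f v) {D : Subgroup H}
    (c : Coord W' (D.map e.toMonoidHom)) : ∃ c' : Coord W D, c'.L = c.L.comap e.toMonoidHom := by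
  have hmap : (c.L.comap e.toMonoidHom).map e.toMonoidHom = c.L :=
    map_comap_eq_self_of_surjective e.surjective _
  let eL : ↥(c.L.comap e.toMonoidHom) ≃* ↥c.L :=
    { toFun := fun l => ⟨e l, l.2⟩
      invFun := fun l => ⟨e.symm l, by
        show e (e.symm l) ∈ c.L
        rw [e.apply_symm_apply]; exact l.2⟩
      left_inv := fun l => Subtype.ext (e.symm_apply_apply _)
      right_inv := fun l => Subtype.ext (e.apply_symm_apply _)
      map_mul' := fun a b => Subtype.ext (map_mul e _ _) }
  refine ⟨{
    F := c.F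
    L := c.L.comap e.toMonoidHom
    ρ := eL.trans c.ρ
    ψ := c.ψ.comp f.toAddMonoidHom
    surj := c.surj.comp f.surjective
    ker := fun v => ?_
    equiv := fun l v => ?_
    cardF := by rw [c.cardF, card_map_of_injective (f := e.toMonoidHom) e.injective]
    le := fun d hd => c.le ⟨d, hd, rfl⟩
    memD := fun l => ?_ }, rfl⟩
  · show c.ψ (f v) = 0 ↔ _
    rw [c.ker, ← mem_fixA_map e f he, hmap]
  · show c.ψ (f _) = _
    rw [he]
    exact c.equiv (eL l) (f v)
  · exact (Subgroup.mem_map_iff_mem (f := e.toMonoidHom) e.injective).symm.trans (c.memD (eL l))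

end Transport

variable {H W : Type u} [Group H] [AddCommGroup W] [DistribMulAction H W] {p : ℕ}

/-- Conjugation in the semidirect product. -/
noncomputable def linAut (W H : Type u) [Group H] [AddCommGroup W] [DistribMulAction H W] :
    H →* MulAut (Multiplicative W) where
  toFun g := AddEquiv.toMultiplicative (DistribMulAction.toAddEquiv W g)
  map_one' := MulEquiv.ext fun v => congrArg Multiplicative.ofAdd (one_smul H v.toAdd)
  map_mul' a b := MulEquiv.ext fun v => congrArg Multiplicative.ofAdd (mul_smul a b v.toAdd)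

theorem sys_of_linear [Finite H] [Finite W] [Fact p.Prime] {T M : Subgroup H}
    (faithful : ∀ g : H, (∀ v : W, g • v = v) → g = 1) (exp : ∀ v : W, p • v = 0)
    (hT : IsPGroup p T) (hTi : ¬ p ∣ T.index) (hM : M ≠ ⊤) (hTM : T ≤ M)
    (huniq : ∀ K : Subgroup H, K ≠ ⊤ → T ≤ K → K ≤ M)
    (pker : ∀ J : Subgroup H, J.Normal → IsPGroup p J → J = ⊥)
    (moved : ∃ z ∈ fixA W T, ∃ g : H, g • z ≠ z) : Sys W p T M := by
  let φ := linAut W H
  let G' := Multiplicative W ⋊[φ] H
  haveI : Finite G' := Finite.of_equiv _ (SemidirectProduct.equivProd (φ := φ)).symm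
  let il : Multiplicative W →* G' := SemidirectProduct.inl
  let ir : H →* G' := SemidirectProduct.inr
  have hirinj : Function.Injective ir := SemidirectProduct.inr_injective
  have hilinj : Function.Injective il := SemidirectProduct.inl_injective
  set V : Subgroup G' := il.range with hVdef
  set X : Subgroup G' := ir.range with hXdef
  have hV : IsElementaryAbelian p V := by
    refine PGroup.isElementaryAbelian_of_forall ?_ ?_
    · rintro _ ⟨a, rfl⟩ _ ⟨b, rfl⟩
      rw [← map_mul, ← map_mul, mul_comm]
    · rintro _ ⟨a, rfl⟩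
      rw [← map_pow, show a ^ p = 1 from Multiplicative.toAdd.injective (by rw [toAdd_pow]; exact exp _),
        map_one]
  haveI := hV.1
  have hconj : ∀ (g : H) (w : W), ir g * il (Multiplicative.ofAdd w) * (ir g)⁻¹ =
      il (Multiplicative.ofAdd (g • w)) := fun g w => by
    rw [← map_inv]
    exact (SemidirectProduct.inl_aut (φ := φ) g (Multiplicative.ofAdd w)).symm
  have hXV : X ≤ normalizer (V : Set G') := by
    rintro _ ⟨g, rfl⟩
    refine mem_normalizer_of_cj_le ?_
    rintro _ ⟨_, ⟨w, rfl⟩, rfl⟩
    exact ⟨Multiplicative.ofAdd (g • w.toAdd), (hconj g w.toAdd).symm⟩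
  letI := conjAct hXV
  let e : H ≃* ↥X := MonoidHom.ofInjective hirinj
  let f : W ≃+ Additive ↥V := MulEquiv.toAdditiveRight (MonoidHom.ofInjective hilinj)
  have hf : ∀ w : W, (((f w).toMul : ↥V) : G') = il (Multiplicative.ofAdd w) := fun _ => rfl
  have he : ∀ g v, f (g • v) = e g • f v := fun g v => by
    refine Additive.toMul.injective (Subtype.ext ?_)
    rw [coe_smul hXV, hf, hf]
    exact (hconj g v).symm
  have hfaith : X ⊓ centralizer (V : Set G') = ⊥ := by
    rw [eq_bot_iff_forall]
    rintro _ ⟨⟨g, rfl⟩, hc⟩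
    rw [faithful g fun w => ?_, map_one]
    have h1 : ir g * il (Multiplicative.ofAdd w) * (ir g)⁻¹ = il (Multiplicative.ofAdd w) := by
      rw [mul_inv_eq_iff_eq_mul]
      exact (hc _ ⟨_, rfl⟩).symm
    rw [hconj] at h1
    exact Multiplicative.ofAdd.injective (hilinj h1)
  have hmapX : ∀ K : Subgroup H, K.map ir ≤ X := fun K => map_le_range _ _
  have hcfg : Cfg p V X (T.map ir) (M.map ir) :=
    { hV := hV
      hXV := hXV
      hTX := hmapX T
      hT := hT.map _
      hTi := by
        rw [hXdef, MonoidHom.range_eq_map, relIndex_map_map, MonoidHom.ker_eq_bot_iff ir |>.mpr hirinj,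
          sup_bot_eq, sup_bot_eq, relIndex_top_right]
        exact hTi
      hMX := lt_of_le_of_ne (hmapX M) fun h => hM (map_injective hirinj (h.trans (MonoidHom.range_eq_map ir)))
      hTM := map_mono hTM
      huniq := fun K hK hTK => by
        have h1 : K.comap ir ≠ ⊤ := fun h => hK.ne (by
          rw [← map_comap_eq_self hK.le, h, ← MonoidHom.range_eq_map])
        rw [← map_comap_eq_self hK.le]
        exact map_mono (huniq _ h1 (fun t ht => hTK ⟨t, ht, rfl⟩))
      moved := fun hle => by
        obtain ⟨z, hz, g, hg⟩ := moved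
        have h1 : il (Multiplicative.ofAdd z) ∈ fx V (T.map ir) := by
          refine mem_fx_iff.mpr ⟨⟨_, rfl⟩, ?_⟩
          rintro _ ⟨t, ht, rfl⟩
          rw [hconj, hz t ht]
        have h2 : ir g * il (Multiplicative.ofAdd z) * (ir g)⁻¹ = il (Multiplicative.ofAdd z) := by
          rw [mul_inv_eq_iff_eq_mul]
          exact (hle ⟨g, rfl⟩ _ h1).symm
        rw [hconj] at h2
        exact hg (Multiplicative.ofAdd.injective (hilinj h2))
      pker := fun J hJ hJp hJn => by
        have h1 : J.comap ir = ⊥ := pker _
          ⟨fun k hk g => by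
            show ir (g * k * g⁻¹) ∈ J
            rw [map_mul, map_mul, map_inv]
            exact (mem_normalizer_iff.mp (hJn ⟨g, rfl⟩) _).mp hk⟩
          (hJp.comap_of_injective _ hirinj)
        rw [← map_comap_eq_self hJ, h1, Subgroup.map_bot]
        exact bot_le }
  have hs := sys_of_cfg hXV hfaith hcfg
  have hTe : T.map e.toMonoidHom = (T.map ir).subgroupOf X := by
    refine Subgroup.map_injective X.subtype_injective ?_
    rw [map_subgroupOf_eq_of_le (hmapX T), Subgroup.map_map]
    rfl
  have hMe : M.map e.toMonoidHom = (M.map ir).subgroupOf X := by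
    refine Subgroup.map_injective X.subtype_injective ?_
    rw [map_subgroupOf_eq_of_le (hmapX M), Subgroup.map_map]
    rfl
  refine
    { faithful := faithful
      exp := exp
      noOver := fun B hB => ?_
      coord := fun D hD => ?_
      hT := hT
      hTi := hTi
      hM := hM
      hTM := hTM
      huniq := huniq
      pker := pker
      moved := moved
      out := fun D hD => ?_ }
  · have h1 := hs.noOver (B.map e.toMonoidHom) (PGroup.isElementaryAbelian_map hB _)
    rwa [card_fixA_map e f he, card_map_of_injective (f := e.toMonoidHom) e.injective,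
      ← Nat.card_congr f.toEquiv] at h1
  · obtain ⟨c⟩ := hs.coord _ (isRoot_map e f he hD)
    exact ⟨(exists_coord_comap e f he c).choose⟩
  · obtain ⟨y', hy, hc⟩ := hs.out _ (isRoot_map e f he hD)
    obtain ⟨y, rfl⟩ := e.surjective y'
    have hcj : cj (e y) (D.map e.toMonoidHom) = (cj y D).map e.toMonoidHom :=
      (cj_map e.toMonoidHom y D)
    rw [hcj, ← hTe] at hy
    rw [hcj] at hc
    obtain ⟨c, hc⟩ := hc
    obtain ⟨c', hc'⟩ := exists_coord_comap e f he c
    refine ⟨y, (map_le_map_iff_of_injective (f := e.toMonoidHom) e.injective).mp hy, c', fun hle => hc ?_⟩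
    rw [hc'] at hle
    rw [← map_comap_eq_self_of_surjective (f := e.toMonoidHom) e.surjective c.L, ← hMe]
    exact map_mono hle

end Cfsg.Agent.PMinFF
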