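import Cfsg.Agent.Lib.PMinFF.Bridge

/-!
# The decomposition in subgroup language

* `HasDecomp p`: every linear system with a root group has a decomposition `Decomp` permuted by `T`, whose
  components carry and are generated by their root groups;
* `GDecomp p V X T`: the same for a configuration inside a group, `[V, E]` the group commutator;
* `exists_gDecomp`: the passage from the one to the other.
-/

set_option autoImplicit false
set_option linter.unusedSectionVars false
set_option linter.style.haveILetI false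

namespace Cfsg.Agent.PMinFF

open Subgroup Subnormal
open scoped Matrix IsMulCommutative commutatorElement

universe u

section Abstract

variable {H : Type*} [Group H] {W : Type*} [AddCommGroup W] [DistribMulAction H W] {p : ℕ} {T : Subgroup H}

/-- What the glue needs besides `Decomp`. -/
structure Decomp.Extra (d : Decomp W p T) : Prop where
  perm : ∀ t ∈ T, ∀ i, ∃ j, cj t (d.E i) = d.E j
  single : ∀ D : Subgroup H, IsRoot W p D → D ≤ T → ∃ i, D ≤ d.E i
  gen : ∀ i, ∀ D : Subgroup H, IsRoot W p D → D ≤ d.E i → d.E i ≤ ⨆ e : ↥(d.E i), cj (e : H) D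

theorem Decomp.normal_iSup [Finite H] {d : Decomp W p T} (hd : d.Extra) : (⨆ i, d.E i).Normal := by
  rw [← normalizer_eq_top_iff, eq_top_iff, ← d.sup_T]
  refine sup_le le_normalizer fun t ht => mem_normalizer_of_cj_le ?_
  rw [cj, Subgroup.map_iSup]
  refine iSup_le fun i => ?_
  obtain ⟨j, hj⟩ := hd.perm t ht i
  exact hj.le.trans (le_iSup d.E j)

theorem Decomp.iSup_le_of_root {d : Decomp W p T} (hd : d.Extra) {N : Subgroup H} (hN : N.Normal)
    {D : Subgroup H} (hD : IsRoot W p D) (hDT : D ≤ T) (hDN : D ≤ N) : (⨆ i, d.E i) ≤ N := by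
  obtain ⟨i, hi⟩ := hd.single D hD hDT
  have hc : ∀ g : H, cj g N ≤ N := fun g => by
    rintro _ ⟨x, hx, rfl⟩
    exact hN.conj_mem x hx g
  have hiN : d.E i ≤ N := (hd.gen i D hD hi).trans (iSup_le fun e => (cj_mono hDN).trans (hc _))
  refine iSup_le fun j => ?_
  obtain ⟨t, -, ht⟩ := d.trans i j
  exact ht.ge.trans ((cj_mono hiN).trans (hc t))

end Abstract

/-- The linear theorem. -/
def HasDecomp (p : ℕ) : Prop :=
  ∀ {W H : Type u} [AddCommGroup W] [Group H] [DistribMulAction H W] [Finite W] [Finite H]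
    (T M : Subgroup H), Sys W p T M → (∃ D : Subgroup H, IsRoot W p D) → ∃ d : Decomp W p T, d.Extra

variable {G : Type u} [Group G] {p : ℕ}

/-- The shape of a component. -/
def GShape (p : ℕ) (V E : Subgroup G) : Prop :=
  ∃ n : ℕ, 1 ≤ n ∧ ((∃ (F : Type) (_ : Field F) (_ : Fintype F), Fintype.card F = p ^ n ∧
      Nonempty (↥E ≃* Matrix.SpecialLinearGroup (Fin 2) F) ∧
      Cfsg.ActsAsSL2OnSection F ⊤ E ⁅V, E⁆ (⁅V, E⁆ ⊓ centralizer (E : Set G))) ∨
    (p = 2 ∧ Nonempty (↥E ≃* Equiv.Perm (Fin (2 ^ n + 1))) ∧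
      Cfsg.ActsAsOddPermModuleOnSection (2 ^ n + 1) ⊤ E ⁅V, E⁆ (⁅V, E⁆ ⊓ centralizer (E : Set G))))

/-- The decomposition inside a group. -/
structure GDecomp (p : ℕ) (V X T : Subgroup G) where
  /-- the number of components -/
  r : ℕ
  /-- the components -/
  E : Fin r → Subgroup G
  pos : 1 ≤ r
  le : ∀ i, E i ≤ X
  comm : ∀ i j, i ≠ j → ⁅E i, E j⁆ = ⊥
  disj : ∀ i, E i ⊓ (⨆ j ∈ {j | j ≠ i}, E j) = ⊥
  sup_T : (⨆ i, E i) ⊔ T = X
  trans : ∀ i j, ∃ t ∈ T, cj t (E i) = E j
  decomp : fx V (⨆ i, E i) ⊔ (⨆ i, ⁅V, E i⁆) = V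
  mixed : ∀ i j, i ≠ j → ⁅⁅V, E i⁆, E j⁆ = ⊥
  shape : ∀ i, GShape p V (E i)
  offender : ∀ A : Subgroup G, A ≤ T → Cfsg.IsElementaryAbelian p A →
    Nat.card V ≤ Nat.card A * Nat.card (fx V A) → A ≤ ⨆ i, E i
  normal : X ≤ normalizer ((⨆ i, E i : Subgroup G) : Set G)
  core : ∀ N : Subgroup G, N ≤ X → X ≤ normalizer (N : Set G) →
    ∀ A : Subgroup G, A ≤ T → A ≤ N → Crit p V X A → (⨆ i, E i) ≤ N

section Sub

variable {V X : Subgroup G}

/-- A submodule as a subgroup of `G`. -/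
def sub [IsMulCommutative ↥V] (S : AddSubgroup (Additive ↥V)) : Subgroup G :=
  (AddSubgroup.toSubgroup' S).map V.subtype

variable [IsMulCommutative ↥V]

theorem mem_sub {S : AddSubgroup (Additive ↥V)} {x : G} :
    x ∈ sub S ↔ ∃ h : x ∈ V, Additive.ofMul (⟨x, h⟩ : ↥V) ∈ S :=
  ⟨fun ⟨v, hv, e⟩ => e ▸ ⟨v.2, hv⟩, fun ⟨_, h⟩ => ⟨_, h, rfl⟩⟩

theorem sub_le (S : AddSubgroup (Additive ↥V)) : sub S ≤ V := map_subtype_le _

theorem sub_sup (S R : AddSubgroup (Additive ↥V)) : sub (S ⊔ R) = sub S ⊔ sub R := by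
  rw [sub, sub, sub, OrderIso.map_sup, Subgroup.map_sup]

theorem sub_iSup {ι : Sort*} (S : ι → AddSubgroup (Additive ↥V)) : sub (⨆ i, S i) = ⨆ i, sub (S i) := by
  rw [sub, OrderIso.map_iSup, Subgroup.map_iSup]
  rfl

theorem sub_top : sub (⊤ : AddSubgroup (Additive ↥V)) = V := by
  refine le_antisymm (sub_le _) fun x hx => mem_sub.mpr ⟨hx, trivial⟩

variable (hXV : X ≤ normalizer (V : Set G))

theorem sub_fixA (D : Subgroup ↥X) :
    letI := conjAct hXV; sub (fixA (Additive ↥V) D) = fx V (D.map X.subtype) := by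
  letI := conjAct hXV
  ext x
  rw [mem_sub]
  exact ⟨fun ⟨_, h⟩ => (mem_fixA_iff hXV D _).mp h,
    fun h => ⟨h.1, (mem_fixA_iff hXV D _).mpr h⟩⟩

theorem sub_img (D : Subgroup ↥X) :
    letI := conjAct hXV; sub (PMinFF.img (Additive ↥V) D) = ⁅V, D.map X.subtype⁆ := by
  letI := conjAct hXV
  apply le_antisymm
  · rw [sub, map_le_iff_le_comap]
    set K := Subgroup.comap V.subtype ⁅V, D.map X.subtype⁆
    have h : PMinFF.img (Additive ↥V) D ≤ K.toAddSubgroup := by
      rw [PMinFF.img, AddSubgroup.closure_le]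
      rintro w ⟨g, hg, v, rfl⟩
      show (((dlt (Additive ↥V) g v).toMul : ↥V) : G) ∈ ⁅V, D.map X.subtype⁆
      rw [coe_dlt hXV, Subgroup.commutator_comm]
      exact Subgroup.commutator_mem_commutator ⟨g, hg, rfl⟩ v.toMul.2
    exact fun y hy => h hy
  · rw [Subgroup.commutator_comm, Subgroup.commutator_le]
    rintro _ ⟨g, hg, rfl⟩ v hv
    refine mem_sub.mpr ⟨?_, ?_⟩
    · exact V.mul_mem ((mem_normalizer_iff.mp (hXV g.2) v).mp hv) (V.inv_mem hv)
    · exact AddSubgroup.subset_closure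
        ⟨g, hg, Additive.ofMul ⟨v, hv⟩, Additive.toMul.injective (Subtype.ext (coe_dlt hXV g _))⟩

end Sub

theorem le_normalizer_commutator [Finite G] {V E : Subgroup G} (h : E ≤ normalizer (V : Set G)) :
    E ≤ normalizer ((⁅V, E⁆ : Subgroup G) : Set G) := fun g hg => mem_normalizer_of_cj_le (by
  rw [cj, Subgroup.map_commutator]
  exact Subgroup.commutator_mono (cj_eq_of_mem_normalizer (h hg)).le (cj_eq_of_mem hg).le)

theorem gShape_of_shape [Finite G] {V X : Subgroup G} [IsMulCommutative ↥V]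
    (hXV : X ≤ normalizer (V : Set G)) (E : Subgroup ↥X)
    (h : letI := conjAct hXV; SLShape (Additive ↥V) p E ∨ SymShape (Additive ↥V) p E) :
    GShape p V (E.map X.subtype) := by
  letI := conjAct hXV
  set E' := E.map X.subtype with hE'
  set U := ⁅V, E'⁆ with hU
  have hE'V : E' ≤ normalizer (V : Set G) := (map_subtype_le E).trans hXV
  have hUV : U ≤ V := by rw [hU, hE', ← sub_img hXV]; exact sub_le _
  let e := E.equivMapOfInjective X.subtype X.subtype_injective
  let ι : ↥U →* ↥V := inclusion hUV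
  have hker : ∀ u : ↥U, Additive.ofMul (ι u) ∈ fixA (Additive ↥V) E ↔
      (u : G) ∈ U ⊓ centralizer (E' : Set G) := fun u => by
    rw [mem_fixA_iff hXV]
    exact ⟨fun h => ⟨u.2, h.2⟩, fun h => ⟨(ι u).2, h.2⟩⟩
  have himg : ∀ v ∈ PMinFF.img (Additive ↥V) E, ∃ u : ↥U, Additive.ofMul (ι u) = v := fun v hv => by
    have h1 : ((v.toMul : ↥V) : G) ∈ U := by
      rw [hU, hE', ← sub_img hXV]; exact mem_sub.mpr ⟨v.toMul.2, hv⟩
    exact ⟨⟨_, h1⟩, rfl⟩
  have hwit : ∀ (k : ↥E') (u : ↥U), ∃ w : ↥U, (w : G) = (k : G) * u * (k : G)⁻¹ ∧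
      Additive.ofMul (ι w) = ((e.symm k : ↥E) : ↥X) • Additive.ofMul (ι u) := fun k u => by
    refine ⟨⟨_, (mem_normalizer_iff.mp (le_normalizer_commutator hE'V k.2) _).mp u.2⟩, rfl, ?_⟩
    refine Additive.toMul.injective (Subtype.ext ?_)
    rw [coe_smul hXV, ← show ((e (e.symm k) : ↥E') : G) = (((e.symm k : ↥E) : ↥X) : G) from
      coe_equivMapOfInjective_apply _ _ X.subtype_injective _, MulEquiv.apply_symm_apply]
    rfl
  rcases h with ⟨n, F, _, _, hn, hF, ρ, ψ, hψk, hψs, hψe⟩ | ⟨hp, n, hn, ρ, ψ, hψk, hψ0, hψs, hψe⟩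
  · refine ⟨n, hn, Or.inl ⟨F, inferInstance, inferInstance, hF, ⟨e.symm.trans ρ⟩,
      le_normalizer_commutator hE'V, inf_le_left, (e.symm.trans ρ).toMonoidHom,
      MonoidHom.mk' (fun u => Multiplicative.ofAdd (ψ (Additive.ofMul (ι u))))
        (fun u v => by rw [map_mul, ofMul_mul, map_add, ofAdd_add]),
      MonoidHom.range_eq_top.mpr (e.symm.trans ρ).surjective, fun x => ?_, fun u => ?_, fun k u => ?_⟩⟩
    · obtain ⟨v, hv, hx⟩ := hψs (Multiplicative.toAdd x)
      obtain ⟨u, rfl⟩ := himg v hv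
      exact ⟨u, Multiplicative.toAdd.injective hx⟩
    · rw [← hker u, ← hψk, MonoidHom.mk'_apply, ofAdd_eq_one]
    · obtain ⟨w, hw, hw'⟩ := hwit k u
      refine ⟨w, hw, ?_⟩
      show ψ (Additive.ofMul (ι w)) = _
      rw [hw']
      exact hψe (e.symm k) _
  · refine ⟨n, hn, Or.inr ⟨hp, ⟨e.symm.trans ρ⟩,
      le_normalizer_commutator hE'V, inf_le_left, (e.symm.trans ρ).toMonoidHom,
      MonoidHom.mk' (fun u => Multiplicative.ofAdd (ψ (Additive.ofMul (ι u))))
        (fun u v => by rw [map_mul, ofMul_mul, map_add, ofAdd_add]),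
      MonoidHom.range_eq_top.mpr (e.symm.trans ρ).surjective, fun u => hψ0 _, fun x hx => ?_, fun u => ?_,
      fun k u => ?_⟩⟩
    · obtain ⟨v, hv, hx⟩ := hψs x hx
      obtain ⟨u, rfl⟩ := himg v hv
      exact ⟨u, hx⟩
    · rw [← hker u, ← hψk, MonoidHom.mk'_apply, ofAdd_eq_one]
    · obtain ⟨w, hw, hw'⟩ := hwit k u
      refine ⟨w, hw, fun i => ?_⟩
      show ψ (Additive.ofMul (ι w)) i = _
      rw [hw']
      exact hψe (e.symm k) _ i

/-- The decomposition of a faithful configuration moved by an offender. -/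
theorem exists_gDecomp [Finite G] [Fact p.Prime] (hdec : HasDecomp.{u} p) {V X T M : Subgroup G}
    (h : Cfg p V X T M) (hfaith : X ⊓ centralizer (V : Set G) = ⊥) {A : Subgroup G} (hAX : A ≤ X)
    (hA : Cfsg.IsElementaryAbelian p A) (hA0 : A ≠ ⊥)
    (hle : Nat.card V ≤ Nat.card A * Nat.card (fx V A)) : Nonempty (GDecomp p V X T) := by
  haveI := h.hV.1
  have hXV := h.hXV
  letI := conjAct hXV
  have hs := sys_of_cfg hXV hfaith h
  have hTX : (T.subgroupOf X).map X.subtype = T := map_subgroupOf_eq_of_le h.hTX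
  have hoff : ∀ B : Subgroup G, B ≤ X → Nat.card V ≤ Nat.card B * Nat.card (fx V B) →
      Nat.card (Additive ↥V) ≤
        Nat.card (B.subgroupOf X) * Nat.card (fixA (Additive ↥V) (B.subgroupOf X)) := fun B hB hle => by
    rwa [card_additive, card_fixA hXV, map_subgroupOf_eq_of_le hB, Coprime.card_subgroupOf hB]
  obtain ⟨D, -, hD⟩ := hs.toDatum.exists_root_le (PGroup.isElementaryAbelian_comap hA X.subtype_injective)
    (fun e => hA0 (by rw [← map_subgroupOf_eq_of_le hAX]; exact (congrArg (Subgroup.map X.subtype) e).trans (Subgroup.map_bot _))) (hoff A hAX hle)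
  obtain ⟨d, hd⟩ := hdec _ _ hs ⟨D, hD⟩
  have hE : ∀ i, ⁅V, (d.E i).map X.subtype⁆ = sub (PMinFF.img (Additive ↥V) (d.E i)) := fun i =>
    (sub_img hXV _).symm
  have htop : (⊤ : Subgroup ↥X).map X.subtype = X := by rw [← MonoidHom.range_eq_map, X.range_subtype]
  have hsup : (⨆ i, (d.E i).map X.subtype) = (⨆ i, d.E i).map X.subtype := (Subgroup.map_iSup _ _).symm
  refine ⟨{
    r := d.r
    E := fun i => (d.E i).map X.subtype
    pos := d.pos
    le := fun i => map_subtype_le _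
    comm := fun i j hij => ?_
    disj := fun i => ?_
    sup_T := ?_
    trans := fun i j => ?_
    decomp := ?_
    mixed := fun i j hij => ?_
    shape := fun i => gShape_of_shape hXV _ (d.shape i)
    offender := fun B hBT hB hle => ?_
    normal := ?_
    core := fun N hN hXN B hBT hBN hB => ?_ }⟩
  · rw [commutator_eq_bot_iff_le_centralizer]
    rintro _ ⟨a, ha, rfl⟩ _ ⟨b, hb, rfl⟩
    exact (congrArg Subtype.val (d.comm i j hij a ha b hb)).symm
  · have := congrArg (Subgroup.map X.subtype) (d.disj i)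
    simpa only [Subgroup.map_inf _ _ _ X.subtype_injective, Subgroup.map_iSup, Subgroup.map_bot] using this
  · have := congrArg (Subgroup.map X.subtype) d.sup_T
    rw [Subgroup.map_sup, hTX, htop] at this
    rw [hsup]
    exact this
  · obtain ⟨t, ht, e⟩ := d.trans i j
    exact ⟨t, ht, by rw [← map_cj_subtype, e]⟩
  · have h1 := congrArg sub d.decomp
    rw [sub_sup, sub_fixA hXV, sub_iSup, sub_top, Subgroup.map_iSup] at h1
    simp only [hE]
    exact h1
  · rw [commutator_eq_bot_iff_le_centralizer, hE]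
    intro x hx
    obtain ⟨hxV, hx⟩ := mem_sub.mp hx
    rintro _ ⟨g, hg, rfl⟩
    have h1 := congrArg (fun w : Additive ↥V => (w.toMul : G)) (d.mixed i j hij _ hx g hg)
    exact mul_inv_eq_iff_eq_mul.mp h1
  · have h1 := d.offender (B.subgroupOf X) (comap_mono hBT)
      (PGroup.isElementaryAbelian_comap hB X.subtype_injective) (hoff B (hBT.trans h.hTX) hle)
    rw [hsup, ← map_subgroupOf_eq_of_le (hBT.trans h.hTX)]
    exact map_mono h1
  · rw [hsup]
    intro g hg
    refine le_normalizer_map X.subtype ⟨⟨g, hg⟩, ?_, rfl⟩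
    exact (normalizer_eq_top_iff.mpr (Decomp.normal_iSup hd)).ge (mem_top _)
  · have hBX := hBT.trans h.hTX
    have hB' : Crit p V X ((B.subgroupOf X).map X.subtype) := by rwa [map_subgroupOf_eq_of_le hBX]
    have hroot := isRoot_of_crit hXV hfaith hB'
      (by rw [map_subgroupOf_eq_of_le hBX]; exact ((main h).2 B hB).1)
    have hNn : (N.subgroupOf X).Normal := (normal_subgroupOf_iff_le_normalizer hN).mpr hXN
    rw [hsup, map_le_iff_le_comap]
    exact Decomp.iSup_le_of_root hd hNn hroot (comap_mono hBT) (comap_mono hBN)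

end Cfsg.Agent.PMinFF
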