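import Cfsg.Agent.Lib.PMinFF.TwoGlobal
import Cfsg.Agent.Lib.PMinFF.Glue

/-!
# The transvection branch: decomposition and lifting

`Two.exists_decomp`, `Two.nonempty_decomp`: if all root groups have order two the configuration decomposes into
symmetric groups of degree `2ⁿ + 1`; `Two.exists_lift`: fixed points of `T` lift to any extension.
-/

set_option autoImplicit false
set_option linter.style.haveILetI false
set_option linter.unusedSectionVars false

namespace Cfsg.Agent.PMinFF.Two

open Subgroup Subnormal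

variable {H : Type*} [Group H] {W : Type*} [AddCommGroup W] [DistribMulAction H W] {T M : Subgroup H}

section Module

variable [Module (ZMod 2) W] [Finite H] [Finite W] (hs : Sys W 2 T M)
  (h2 : ∀ E : Subgroup H, IsRoot W 2 E → Nat.card E = 2)

variable (W) in
/-- `y` is incident to `d` and to no other transvection of `T`. -/
def AdjOnly (T : Subgroup H) (d y : H) : Prop :=
  IsTv W y ∧ phi W d (ctr W y) = 1 ∧ ∀ e ∈ T, IsTv W e → e ≠ d → phi W e (ctr W y) = 0

include hs h2

theorem adjOnly_conj {d y : H} (hd : IsTv W d) (h : AdjOnly W T d y) {t : H} (ht : t ∈ T) :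
    AdjOnly W T (t * d * t⁻¹) (t * y * t⁻¹) := by
  obtain ⟨hy, h1, h0⟩ := h
  obtain ⟨g1, -, g3⟩ := hy.conj hs.toDatum t
  refine ⟨g1, by rw [g3, (hd.conj hs.toDatum t).2.1, inv_smul_smul, h1], fun e heT he hne => ?_⟩
  obtain ⟨f1, -, -⟩ := he.conj hs.toDatum t⁻¹
  have := h0 (t⁻¹ * e * t⁻¹⁻¹) (mul_mem (mul_mem (inv_mem ht) heT) (inv_mem (inv_mem ht))) f1
    fun e' => hne (by rw [← e']; group)
  rwa [(he.conj hs.toDatum t⁻¹).2.1, inv_inv, ← g3] at this

variable {S : PS H W} (hg : Good T M S)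
include hg

/-- The unmatched point. -/
theorem exists_last : ∃ last : Fin S.k, last.val + 1 = S.k ∧
    ∀ a b : Fin S.k, a ≠ b → a.val / 2 = b.val / 2 → a ≠ last := by
  obtain ⟨m, hm⟩ := (odd_and_out hs h2 hg).1
  refine ⟨⟨S.k - 1, by omega⟩, by simp only; omega, fun a b hab h e => ?_⟩
  have h1 : a.val = S.k - 1 := congrArg Fin.val e
  have h3 : a.val ≠ b.val := fun e => hab (Fin.ext e)
  have := b.isLt
  omega

theorem adjOnly_tau {a a' last : Fin S.k} (haa : a ≠ a') (ha2 : a.val / 2 = a'.val / 2)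
    (hlast : last.val + 1 = S.k) : AdjOnly W T (S.τ a a') (S.τ a last) := by
  obtain ⟨l, hl, hne⟩ := exists_last hs h2 hg
  obtain rfl : last = l := Fin.ext (by omega)
  have hal := hne a a' haa ha2
  have hal' := hne a' a haa.symm ha2.symm
  refine ⟨S.tv a last hal, ?_, fun e heT he hed => ?_⟩
  · rw [S.incid haa hal]
    simp [dl, haa.symm, hal, hal']
  by_cases heS : e ∈ S.tvs
  · obtain ⟨c, c', hcc, rfl⟩ := heS
    have hc2 := (mem_T_iff hs h2 hg hcc).mp heT
    have n1 : c ≠ a := fun e1 => by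
      subst e1
      refine hed ?_
      congr 1
      ext
      have : c.val ≠ c'.val := fun e => hcc (Fin.ext e)
      have : c.val ≠ a'.val := fun e => haa (Fin.ext e)
      omega
    have n2 : c' ≠ a := fun e1 => by
      subst e1
      refine hed ?_
      rw [S.tau_symm hs.toDatum hcc]
      congr 1
      ext
      have : c.val ≠ c'.val := fun e => hcc (Fin.ext e)
      have : c'.val ≠ a'.val := fun e => haa (Fin.ext e)
      omega
    rw [S.incid hcc hal]
    simp [dl, n1, n2, hne c c' hcc hc2, hne c' c hcc.symm hc2.symm]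
  · rw [he.incid_comm hs.toDatum h2 (S.tv a last hal)]
    exact (hg.closed e he).resolve_left heS _ (S.mem_tvs hal)

theorem adjOnly_cases {a a' last : Fin S.k} (haa : a ≠ a') (ha2 : a.val / 2 = a'.val / 2)
    (hlast : last.val + 1 = S.k) {y : H} (h : AdjOnly W T (S.τ a a') y) :
    y = S.τ a last ∨ y = S.τ a' last := by
  obtain ⟨hy, h1, h0⟩ := h
  obtain ⟨c, e, hce, rfl⟩ := hg.closed.mem (S.mem_tvs haa) hy h1
  have key : ∀ c e : Fin S.k, c ≠ e → (c = a ∨ c = a') → e ≠ a → e ≠ a' →
      (∀ g ∈ T, IsTv W g → g ≠ S.τ a a' → phi W g (ctr W (S.τ c e)) = 0) → e = last := by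
    intro c e hce hc hea hea' h0
    by_contra hel
    have hv : e.val ≠ last.val := fun h => hel (Fin.ext h)
    let e' : Fin S.k := ⟨2 * (e.val / 2) + (1 - e.val % 2), by
      obtain ⟨m, hm⟩ := (odd_and_out hs h2 hg).1
      have := e.isLt
      omega⟩
    have hee : e ≠ e' := fun h => by have := congrArg Fin.val h; simp only [e'] at this; omega
    have hee2 : e.val / 2 = e'.val / 2 := by simp only [e']; omega
    have hne : e.val / 2 ≠ a.val / 2 := fun h => by
      have : e.val ≠ a.val := fun h => hea (Fin.ext h)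
      have : e.val ≠ a'.val := fun h => hea' (Fin.ext h)
      have : a.val ≠ a'.val := fun h => haa (Fin.ext h)
      omega
    have hce' : c ≠ e' := fun h => hne (by
      rw [hee2, ← h]
      rcases hc with hc | hc <;> rw [hc]
      exact ha2.symm)
    have hz := h0 (S.τ e e') (hg.matchT e e' hee hee2) (S.tv e e' hee) fun h => by
      rcases S.inj _ _ _ _ hee haa h with ⟨h, -⟩ | ⟨h, -⟩
      · exact hea h
      · exact hea' h
    rw [S.incid hee hce] at hz
    simp [dl, hce.symm, hee.symm, hce'.symm] at hz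
  rw [S.incid haa hce] at h1
  by_cases h3 : c = a ∨ c = a'
  · have hea : e ≠ a := fun h => by
      rcases h3 with rfl | rfl
      · exact hce h.symm
      · subst h; simp [dl, haa, hce] at h1
    have hea' : e ≠ a' := fun h => by
      rcases h3 with rfl | rfl
      · subst h; simp [dl, haa.symm, hce] at h1
      · exact hce h.symm
    obtain rfl := key c e hce h3 hea hea' h0
    rcases h3 with rfl | rfl
    · exact Or.inl rfl
    · exact Or.inr rfl
  · push Not at h3
    have h4 : e = a ∨ e = a' := by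
      by_contra h4
      push Not at h4
      simp [dl, Ne.symm h3.1, Ne.symm h3.2, Ne.symm h4.1, Ne.symm h4.2] at h1
    have hs' := S.tau_symm hs.toDatum hce
    obtain rfl := key e c hce.symm h4 h3.1 h3.2 (fun g a b c' => hs' ▸ h0 g a b c')
    rw [hs']
    rcases h4 with rfl | rfl
    · exact Or.inl rfl
    · exact Or.inr rfl

theorem offender_le :
    ∀ A : Subgroup H, A ≤ T → Cfsg.IsElementaryAbelian 2 A →
      Nat.card W ≤ Nat.card A * Nat.card (fixA W A) → A ≤ closure {e | IsTv W e ∧ e ∈ A} := by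
  intro A
  induction hn : Nat.card A using Nat.strong_induction_on generalizing A with
  | _ n ih =>
  intro hAT hA hle
  subst hn
  by_cases hbot : A = ⊥
  · rw [hbot]; exact bot_le
  obtain ⟨B, hB⟩ := (Set.toFinite {B : Subgroup H | B ≤ A ∧ B ≠ ⊥ ∧
    Nat.card W ≤ Nat.card B * Nat.card (fixA W B)}).exists_minimal ⟨A, le_rfl, hbot, hle⟩
  obtain ⟨⟨hBA, hB0, hBle⟩, hmin⟩ := hB
  have hBel := PGroup.isElementaryAbelian_mono hA hBA
  have hroot : IsRoot W 2 B := ⟨hBel, hB0, le_antisymm (hs.noOver B hBel) hBle,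
    fun C hC hC0 hC1 => by
      by_contra hlt
      exact hC1 (le_antisymm hC (hmin ⟨hC.trans hBA, hC0, not_lt.mp hlt⟩ hC))⟩
  obtain ⟨d, hd, rfl⟩ := exists_tv_of_isRoot hs.toDatum h2 hroot
  have hdA : d ∈ A := hBA (mem_zpowers d)
  obtain ⟨t, ht, x, ⟨a₀, b₀, hab, rfl⟩, hdx⟩ := orbit hs h2 hg.closed hg.out hd
  have hR := good_conj hs h2 hg ht
  set R := S.conj hs.toDatum t with hRdef
  obtain ⟨a, a', haa, hdR⟩ : ∃ a a' : Fin R.k, a ≠ a' ∧ d = R.τ a a' := ⟨a₀, b₀, hab, hdx⟩
  have ha2 : a.val / 2 = a'.val / 2 := (mem_T_iff hs h2 hR haa).mp (hdR ▸ hAT hdA)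
  obtain ⟨last, hlast, hne⟩ := exists_last hs h2 hR
  have hu := adjOnly_tau hs h2 hR haa ha2 hlast
  set u := R.τ a last with hu'
  set v₀ := ctr W u with hv₀
  set A' := A ⊓ centralizer ({u} : Set H) with hA'
  have hud : phi W d v₀ = 1 := hdR ▸ hu.2.1
  have hcA : ∀ y ∈ A, y * d = d * y := fun y hy => PGroup.mul_comm_of_elementaryAbelian hA hy hdA
  have hsplit : ∀ y ∈ A, y ∈ A' ∨ d * y ∈ A' := by
    intro y hy
    have h := adjOnly_conj hs h2 (R.tv a a' haa) hu (hAT hy)
    rw [← hdR, hcA y hy, mul_inv_cancel_right, hdR] at h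
    have hdd : d * d = 1 := hd.mul_self hs.toDatum
    rcases adjOnly_cases hs h2 hR haa ha2 hlast h with e | e
    · refine Or.inl ⟨hy, mem_centralizer_singleton_iff.mpr ?_⟩
      exact mul_inv_eq_iff_eq_mul.mp e
    · refine Or.inr ⟨mul_mem hdA hy, mem_centralizer_singleton_iff.mpr ?_⟩
      have hal' := hne a' a haa.symm ha2.symm
      have h3 : d * R.τ a' last * d⁻¹ = u := by
        rw [hdR, R.conj_tau hs.toDatum h2 haa hal', Equiv.swap_apply_right,
          Equiv.swap_apply_of_ne_of_ne (hne a a' haa ha2).symm hal'.symm]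
      rw [← e] at h3
      have h4 : d * y * u * (d * y)⁻¹ = u := by
        conv_rhs => rw [← h3]
        group
      exact mul_inv_eq_iff_eq_mul.mp h4
  have hdA' : d ∉ A' := fun h => by
    have h0 := (hd.commute_iff hs.toDatum h2 hu.1).mp (mem_centralizer_singleton_iff.mp h.2)
    rw [← hv₀, hud] at h0
    exact one_ne_zero h0
  have hlt : Nat.card A' < Nat.card A :=
    lt_of_le_of_ne (card_le_of_le inf_le_left) fun e =>
      hdA' ((eq_of_le_of_card_ge inf_le_left e.ge).ge hdA)
  have hcard : Nat.card A ≤ 2 * Nat.card A' := by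
    classical
    let f : A → Bool × A' := fun y => if h : (y : H) ∈ A' then (true, ⟨y, h⟩) else
      (false, ⟨d * y, (hsplit y y.2).resolve_left h⟩)
    have hf : Function.Injective f := by
      intro y z e
      simp only [f] at e
      by_cases hy : (y : H) ∈ A' <;> by_cases hz : (z : H) ∈ A' <;>
        simp only [dif_pos, dif_neg, hy, hz, not_false_iff, Prod.mk.injEq, Subtype.mk.injEq] at e
      · exact Subtype.ext e.2
      · exact absurd e.1 (by decide)
      · exact absurd e.1 (by decide)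
      · exact Subtype.ext (mul_left_cancel e.2)
    have := Nat.card_le_card_of_injective f hf
    rwa [Nat.card_prod, Nat.card_eq_fintype_card (α := Bool), Fintype.card_bool] at this
  have hv : v₀ ∈ fixA W A' := by
    intro y hy
    have e : y * u * y⁻¹ = u :=
      mul_inv_eq_iff_eq_mul.mpr (mem_centralizer_singleton_iff.mp hy.2)
    rw [hv₀, ← (hu.1.conj hs.toDatum y).2.2, e]
  have hfix : 2 * Nat.card (fixA W A) ≤ Nat.card (fixA W A') := by
    have hle' : fixA W A ≤ fixA W A' := fixA_anti inf_le_left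
    have hne' : fixA W A ≠ fixA W A' := fun e => by
      have h0 := (hd.fix_iff hs.toDatum v₀).mp ((e.ge hv) d hdA)
      rw [hud] at h0
      exact one_ne_zero h0
    obtain ⟨c, hc⟩ := AddSubgroup.card_dvd_of_le hle'
    have hpos : 0 < Nat.card (fixA W A') := Nat.card_pos
    have hlt' : Nat.card (fixA W A) ≠ Nat.card (fixA W A') := fun e =>
      hne' (AddSubgroup.eq_of_le_of_card_ge hle' e.ge)
    rw [hc] at hpos hlt' ⊢
    have : 2 ≤ c := by
      rcases c with _ | _ | c
      · simp at hpos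
      · simp at hlt'
      · omega
    rw [mul_comm 2]
    exact Nat.mul_le_mul_left _ this
  have hA'X := fun z hz => closure_mono (fun e he => ⟨he.1, he.2.1⟩ :
      {e | IsTv W e ∧ e ∈ A'} ⊆ {e | IsTv W e ∧ e ∈ A}) <| (ih _ hlt A' rfl (inf_le_left.trans hAT) (PGroup.isElementaryAbelian_mono hA inf_le_left)
    (hle.trans (by
      calc Nat.card A * Nat.card (fixA W A) ≤ 2 * Nat.card A' * Nat.card (fixA W A) :=
            Nat.mul_le_mul_right _ hcard
        _ = Nat.card A' * (2 * Nat.card (fixA W A)) := by ring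
        _ ≤ _ := Nat.mul_le_mul_left _ hfix))) (x := z) hz
  intro y hy
  rcases hsplit y hy with h | h
  · exact hA'X y h
  · have := mul_mem (inv_mem (subset_closure (show d ∈ {e | IsTv W e ∧ e ∈ A} from ⟨hd, hdA⟩))) (hA'X _ h)
    rwa [inv_mul_cancel_left] at this

/-- The decomposition; every component is the group of a `T`-conjugate of the system. -/
theorem decomp_aux : ∃ dc : Decomp W 2 T, dc.Extra ∧
    ∀ i, ∃ s ∈ T, dc.E i = (S.conj hs.toDatum s).E := by
  classical
  obtain ⟨n, hn, hk⟩ := exists_pow hs h2 hg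
  have hodd := (odd_and_out hs h2 hg).1
  let f : ↥T → Set H := fun t => (S.conj hs.toDatum (t : H)).tvs
  let e := (Finite.equivFin ↥(Set.range f)).symm
  have hex : ∀ i, ∃ t : ↥T, f t = (e i : Set H) := fun i => (e i).2
  choose t ht using hex
  let R : Fin (Nat.card ↥(Set.range f)) → PS H W := fun i => S.conj hs.toDatum (t i : H)
  have hclosed : ∀ i, (R i).Closed := fun i => PS.closed_conj hs.toDatum hg.closed _
  have hoddR : ∀ i, Odd (R i).k := fun _ => hodd
  have hinj : ∀ i j, (R i).tvs = (R j).tvs → i = j := fun i j h => by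
    apply e.injective
    apply Subtype.ext
    rw [← ht i, ← ht j]
    exact h
  have hsurj : ∀ s ∈ T, ∃ i, (R i).tvs = (S.conj hs.toDatum s).tvs := fun s hs' => by
    refine ⟨e.symm ⟨f ⟨s, hs'⟩, _, rfl⟩, ?_⟩
    exact (ht _).trans (by rw [Equiv.apply_symm_apply])
  have hcover : ∀ d, IsTv W d → ∃ i, d ∈ (R i).tvs := fun d hd => by
    obtain ⟨s, hs', x, hx, rfl⟩ := orbit hs h2 hg.closed hg.out hd
    obtain ⟨i, hi⟩ := hsurj s hs'
    exact ⟨i, by rw [hi, PS.conj_tvs]; exact ⟨x, hx, rfl⟩⟩
  have hdisj : ∀ i j, i ≠ j → ∀ x ∈ (R i).tvs, x ∉ (R j).tvs := fun i j hij x hx hx' =>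
    hij (hinj i j (PS.tvs_eq_of_mem (hclosed i) (hclosed j) hx hx'))
  have hperm : ∀ s ∈ T, ∀ i, ∃ j, (fun x => s * x * s⁻¹) '' (R i).tvs = (R j).tvs := fun s hs' i => by
    obtain ⟨j, hj⟩ := hsurj (s * t i) (mul_mem hs' (t i).2)
    refine ⟨j, ?_⟩
    rw [hj, PS.conj_tvs, PS.conj_tvs, Set.image_image]
    refine Set.image_congr fun x _ => ?_
    group
  have hcj : ∀ (s : H) (i j), (fun x => s * x * s⁻¹) '' (R i).tvs = (R j).tvs →
      cj s (R i).E = (R j).E := fun s i j h => by
    rw [PS.E, PS.E, cj, MonoidHom.map_closure, ← h]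
    rfl
  -- the other components fix the centres
  have hfixP : ∀ i j, i ≠ j → ∀ g ∈ (R j).E, ∀ v ∈ (R i).P, g • v = v := by
    intro i j hij g hg' v hv
    have hle : (R j).E ≤ MulAction.stabilizer H v := by
      rw [PS.E, closure_le]
      intro x hx
      show x • v = v
      induction hv using AddSubgroup.closure_induction with
      | mem y hy =>
        obtain ⟨z, hz, rfl⟩ := hy
        have hzv := (R i).isTv_of_mem hz
        refine ((R j).isTv_of_mem hx).fix ?_
        exact ((hclosed j) z hzv).resolve_left (hdisj i j hij z hz) x hx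
      | zero => exact smul_zero x
      | add a b _ _ ea eb => rw [smul_add, ea, eb]
      | neg a _ ea => rw [smul_neg, ea]
    exact hle hg'
  have hpos : 1 ≤ Nat.card ↥(Set.range f) :=
    @Nat.card_pos _ ⟨⟨f 1, 1, rfl⟩⟩ _
  refine ⟨⟨Nat.card ↥(Set.range f), fun i => (R i).E, hpos, ?_, ?_, ?_, ?_, ?_, ?_, ?_, ?_⟩,
    ⟨?_, ?_, ?_⟩, fun i => ⟨t i, (t i).2, rfl⟩⟩
  · -- commuting
    intro i j hij a ha b hb
    have hle : (R i).E ≤ centralizer ((R j).E : Set H) := by
      rw [PS.E, PS.E, centralizer_closure, closure_le]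
      intro x hx y hy
      exact ((hclosed i).commute hs.toDatum h2 hx ((R j).isTv_of_mem hy) (hdisj j i (Ne.symm hij) y hy)).symm
    exact (hle ha b hb).symm
  · -- disjoint
    intro i
    rw [eq_bot_iff]
    rintro g ⟨hgi, hgo⟩
    rw [mem_bot]
    refine (R i).eq_one_of_fix hs.toDatum h2 (hoddR i) hgi fun v hv => ?_
    have hle : (⨆ j ∈ {j | j ≠ i}, (R j).E) ≤ MulAction.stabilizer H v :=
      iSup₂_le fun j hj x hx => hfixP i j (Ne.symm hj) x hx v hv
    exact hle hgo
  · -- together with `T`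
    rw [eq_top_iff, ← (orbK_facts hs h2 hg.out).1]
    refine sup_le_sup_right ?_ T
    rw [orbK, closure_le]
    rintro _ ⟨s, hs', x, hx, rfl⟩
    obtain ⟨i, hi⟩ := hcover _ ((S.isTv_of_mem hx).conj hs.toDatum s).1
    exact le_iSup (fun i => (R i).E) i (subset_closure hi)
  · -- transitive
    intro i j
    refine ⟨(t j : H) * (t i : H)⁻¹, mul_mem (t j).2 (inv_mem (t i).2), hcj _ i j ?_⟩
    simp only [R]
    rw [PS.conj_tvs, PS.conj_tvs, Set.image_image]
    refine Set.image_congr fun x _ => ?_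
    group
  · -- decomposition
    rw [eq_top_iff]
    intro v _
    have hw : v + ∑ i, (R i).proj v ∈ fixA W (⨆ i, (R i).E) := by
      have hle : (⨆ i, (R i).E) ≤ MulAction.stabilizer H (v + ∑ i, (R i).proj v) := by
        refine iSup_le fun j g hg' => ?_
        refine ((R j).psi_eq_zero_iff hs.toDatum h2 (hoddR j) _).mp ?_ g hg'
        rw [map_add, map_sum, Finset.sum_eq_single j, (R j).psi_proj (hoddR j)]
        · funext a
          exact CharTwo.add_self_eq_zero _
        · intro i _ hij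
          rw [(R j).psi_eq_zero_iff hs.toDatum h2 (hoddR j)]
          exact fun g hg' => hfixP i j hij g hg' _ ((R i).proj_mem v)
        · exact fun h => absurd (Finset.mem_univ j) h
      exact fun g hg' => hle hg'
    have e : v = (v + ∑ i, (R i).proj v) + ∑ i, (R i).proj v := by
      rw [add_assoc, ZModModule.add_self, add_zero]
    rw [e]
    refine add_mem (AddSubgroup.mem_sup_left hw) (AddSubgroup.mem_sup_right (sum_mem fun i _ => ?_))
    exact le_iSup (fun i => PMinFF.img W (R i).E) i ((R i).P_le_img ((R i).proj_mem v))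
  · -- mixed
    intro i j hij v hv g hg'
    exact hfixP i j hij g hg' v ((R i).img_le_P hv)
  · -- shape
    intro i
    exact Or.inr ((R i).symShape hs.toDatum h2 (hoddR i) hn hk)
  · -- offenders
    intro A hAT hA hle
    refine (offender_le hs h2 hg A hAT hA hle).trans ((closure_le _).mpr ?_)
    rintro d ⟨hd, -⟩
    obtain ⟨i, hi⟩ := hcover d hd
    exact le_iSup (fun i => (R i).E) i (subset_closure hi)
  · -- permuted
    intro s hs' i
    obtain ⟨j, hj⟩ := hperm s hs' i
    exact ⟨j, hcj s i j hj⟩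
  · -- single
    intro D hD hDT
    obtain ⟨d, hd, rfl⟩ := exists_tv_of_isRoot hs.toDatum h2 hD
    obtain ⟨i, hi⟩ := hcover d hd
    exact ⟨i, zpowers_le.mpr (subset_closure hi)⟩
  · -- generation
    intro i D hD hDi
    obtain ⟨d, hd, rfl⟩ := exists_tv_of_isRoot hs.toDatum h2 hD
    have hdi : d ∈ (R i).tvs := by
      by_contra hout
      refine hd.1 ((R i).eq_one_of_fix hs.toDatum h2 (hoddR i) (hDi (mem_zpowers d)) fun v hv => ?_)
      induction hv using AddSubgroup.closure_induction with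
      | mem y hy =>
        obtain ⟨z, hz, rfl⟩ := hy
        refine hd.fix ?_
        rw [hd.incid_comm hs.toDatum h2 ((R i).isTv_of_mem hz)]
        exact ((hclosed i) d hd).resolve_left hout z hz
      | zero => exact smul_zero d
      | add a b _ _ ea eb => rw [smul_add, ea, eb]
      | neg a _ ea => rw [smul_neg, ea]
    obtain ⟨a, b, hab, rfl⟩ := hdi
    show (R i).E ≤ _
    rw [PS.E, closure_le]
    rintro _ ⟨c, c', hcc, rfl⟩
    obtain ⟨g, hg'⟩ := (R i).perm_surjective hs.toDatum h2
      (Equiv.swap (Equiv.swap a c b) c' * Equiv.swap a c)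
    have e1 : ((R i).perm hs.toDatum h2 g) a = c := by
      rw [hg', Equiv.Perm.mul_apply, Equiv.swap_apply_left]
      refine Equiv.swap_apply_of_ne_of_ne (fun e => hab ?_) hcc
      exact (Equiv.swap a c).injective ((Equiv.swap_apply_left a c).trans e)
    have e2 : ((R i).perm hs.toDatum h2 g) b = c' := by
      rw [hg', Equiv.Perm.mul_apply, Equiv.swap_apply_left]
    have h := (R i).perm_spec hs.toDatum h2 g hab
    rw [e1, e2] at h
    rw [← h]
    exact le_iSup (fun e : ↥((R i).E) => cj (e : H) (zpowers ((R i).τ a b))) g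
      (Subnormal.conj_mem_cj (mem_zpowers _))

/-- Lifting. -/
theorem lift_aux {W' : Type*} [AddCommGroup W'] [DistribMulAction H W'] [Finite W'] {π : W' →+ W}
    (hπ : Liftable (H := H) W 2 π) : ∃ z ∈ fixA W' T, ∃ g : H, g • π z ≠ π z := by
  classical
  haveI : Fintype H := Fintype.ofFinite H
  obtain ⟨last, hlast, hne⟩ := exists_last hs h2 hg
  have hk3 := S.three
  let a : Fin S.k := ⟨0, by omega⟩
  let a' : Fin S.k := ⟨1, by omega⟩
  have haa : a ≠ a' := by simp [a, a', Fin.ext_iff]
  have ha2 : a.val / 2 = a'.val / 2 := by simp [a, a']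
  -- every transvection of `T` has a vector over a point incident only to it
  have hex : ∀ d, IsTv W d → d ∈ T → ∃ y v, AdjOnly W T d y ∧ π v = ctr W y := by
    intro d hd hdT
    obtain ⟨s, hs', x, ⟨c, c', hcc, rfl⟩, hdx⟩ := orbit hs h2 hg.closed hg.out hd
    have hR := good_conj hs h2 hg hs'
    set R := S.conj hs.toDatum s with hRdef
    have hdR : d = R.τ c c' := hdx
    have hc2 : c.val / 2 = c'.val / 2 := (mem_T_iff hs h2 hR hcc).mp (hdR ▸ hdT)
    have h := adjOnly_tau hs h2 hR (a := c) (a' := c') (last := last) hcc hc2 hlast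
    obtain ⟨v, hv⟩ := hπ.surj (ctr W (R.τ c last))
    exact ⟨_, v, hdR ▸ h, hv⟩
  choose! y v hy hv using hex
  let pp : H → W' := fun d => d • v d + v d
  have hadd : ∀ u : W', u + u = 0 := fun u => by rw [← two_nsmul]; exact hπ.exp u
  have hfixker : ∀ d, IsTv W d → ∀ u, π u = 0 → d • u = u := fun d hd u hu =>
    hπ.ker _ (hd.isRoot hs.toDatum) u hu d (mem_zpowers d)
  have hwd : ∀ d, IsTv W d → d ∈ T → ∀ y' u, AdjOnly W T d y' → π u = ctr W y' →
      d • u + u = pp d := by
    intro d hd hdT y' u hy' hu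
    have hsame : ∀ u₁ u₂ : W', π u₁ = π u₂ → d • u₁ + u₁ = d • u₂ + u₂ := by
      intro u₁ u₂ e
      have h := hfixker d hd (u₁ - u₂) (by rw [map_sub, e, sub_self])
      rw [smul_sub] at h
      have h3 : d • u₁ + u₁ - (d • u₂ + u₂) = (u₁ - u₂) + (u₁ - u₂) := by
        rw [show d • u₁ + u₁ - (d • u₂ + u₂) = (d • u₁ - d • u₂) + (u₁ - u₂) by abel, h]
      rw [hadd, sub_eq_zero] at h3
      exact h3
    obtain ⟨s, hs', x, ⟨c, c', hcc, rfl⟩, hdx⟩ := orbit hs h2 hg.closed hg.out hd
    have hR := good_conj hs h2 hg hs'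
    set R := S.conj hs.toDatum s with hRdef
    have hdR : d = R.τ c c' := hdx
    have hc2 : c.val / 2 = c'.val / 2 := (mem_T_iff hs h2 hR hcc).mp (hdR ▸ hdT)
    have m1 := adjOnly_cases hs h2 hR (a := c) (a' := c') (last := last) hcc hc2 hlast (hdR ▸ hy')
    have m2 := adjOnly_cases hs h2 hR (a := c) (a' := c') (last := last) hcc hc2 hlast
      (hdR ▸ hy d hd hdT)
    by_cases heq : y' = y d
    · exact hsame u (v d) (by rw [hu, hv d hd hdT, heq])
    · have hyy : d * y d * d⁻¹ = y' := by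
        obtain ⟨l, hl, hne'⟩ := exists_last hs h2 hR
        have hll : l = last := Fin.ext (by
          have : R.k = S.k := rfl
          omega)
        have n1 : c ≠ last := hll ▸ hne' c c' hcc hc2
        have n2 : c' ≠ last := hll ▸ hne' c' c hcc.symm hc2.symm
        rcases m1 with e1 | e1 <;> rcases m2 with e2 | e2 <;> rw [← hdR] at e2
        · exact absurd (e1.trans e2.symm) heq
        · rw [e1, e2, hdR, R.conj_tau hs.toDatum h2 hcc n2]
          exact congrArg₂ R.τ (Equiv.swap_apply_right _ _) (Equiv.swap_apply_of_ne_of_ne n1.symm n2.symm)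
        · rw [e1, e2, hdR, R.conj_tau hs.toDatum h2 hcc n1]
          exact congrArg₂ R.τ (Equiv.swap_apply_left _ _) (Equiv.swap_apply_of_ne_of_ne n1.symm n2.symm)
        · exact absurd (e1.trans e2.symm) heq
      rw [hsame u (d • v d) (by
        rw [hu, hπ.equiv, hv d hd hdT, ← ((hy d hd hdT).1.conj hs.toDatum d).2.2, hyy])]
      rw [← mul_smul, hd.mul_self hs.toDatum, one_smul, add_comm]
  set TT : Finset H := Finset.univ.filter fun d => d ∈ T ∧ IsTv W d with hTT
  have hmem : ∀ d, d ∈ TT ↔ d ∈ T ∧ IsTv W d := fun d => by simp [hTT]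
  refine ⟨∑ d ∈ TT, pp d, ?_, S.τ a last, ?_⟩
  · intro s hs'
    rw [Finset.smul_sum]
    refine Finset.sum_bij' (fun d _ => s * d * s⁻¹) (fun d _ => s⁻¹ * d * s) ?_ ?_
      (fun d _ => by group) (fun d _ => by group) ?_
    · intro d hd
      rw [hmem] at hd ⊢
      exact ⟨mul_mem (mul_mem hs' hd.1) (inv_mem hs'), (hd.2.conj hs.toDatum s).1⟩
    · intro d hd
      rw [hmem] at hd ⊢
      refine ⟨mul_mem (mul_mem (inv_mem hs') hd.1) hs', ?_⟩
      simpa using (hd.2.conj hs.toDatum s⁻¹).1
    · intro d hd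
      rw [hmem] at hd
      obtain ⟨hdT, hdv⟩ := hd
      rw [← hwd (s * d * s⁻¹) (hdv.conj hs.toDatum s).1 (mul_mem (mul_mem hs' hdT) (inv_mem hs'))
        (s * y d * s⁻¹) (s • v d) (adjOnly_conj hs h2 hdv (hy d hdv hdT) hs')
        (by rw [hπ.equiv, hv d hdv hdT, ((hy d hdv hdT).1.conj hs.toDatum s).2.2])]
      simp only [pp, smul_add, ← mul_smul, inv_mul_cancel_right]
  · have hal := hne a a' haa ha2
    have hu := adjOnly_tau hs h2 hg (a := a) (a' := a') haa ha2 hlast
    intro e
    have h0 := ((S.tv a last hal).fix_iff hs.toDatum _).mp e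
    have hπp : ∀ d ∈ TT, π (pp d) = ctr W d := by
      intro d hd
      rw [hmem] at hd
      simp only [pp, map_add, hπ.equiv, hv d hd.2 hd.1]
      rw [hd.2.moved (hy d hd.2 hd.1).2.1, add_comm (ctr W (y d)), add_assoc, ZModModule.add_self,
        add_zero]
    rw [map_sum, Finset.sum_congr rfl hπp, map_sum] at h0
    have hd0 : S.τ a a' ∈ TT := (hmem _).mpr ⟨hg.matchT a a' haa ha2, S.tv a a' haa⟩
    rw [Finset.sum_eq_single (S.τ a a')] at h0
    · rw [(S.tv a last hal).incid_comm hs.toDatum h2 (S.tv a a' haa), hu.2.1] at h0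
      exact one_ne_zero h0
    · intro d hd hne'
      rw [hmem] at hd
      rw [(S.tv a last hal).incid_comm hs.toDatum h2 hd.2]
      exact hu.2.2 d hd.1 hd.2 hne'
    · exact fun h => absurd hd0 h

end Module

theorem eq_two [Finite H] {p : ℕ} [Fact p.Prime] {D : Subgroup H} (hD : IsRoot W p D)
    (h : Nat.card D = 2) : p = 2 := by
  obtain ⟨d, hd, hd1⟩ := (bot_or_exists_ne_one D).resolve_left hD.ne
  have h1 : orderOf (⟨d, hd⟩ : D) ∣ Nat.card D := orderOf_dvd_natCard _
  have h3 : orderOf (⟨d, hd⟩ : D) = p :=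
    orderOf_eq_prime (Subtype.ext (hD.hD.2 d hd)) fun e => hd1 (congrArg Subtype.val e)
  rw [h, h3] at h1
  exact (Nat.prime_dvd_prime_iff_eq Fact.out Nat.prime_two).mp h1

section Final

variable [Finite H] [Finite W] {p : ℕ} [Fact p.Prime]

/-- The decomposition when all root groups have order two. -/
theorem exists_decomp (hs : Sys W p T M) {D : Subgroup H} (hD : IsRoot W p D)
    (h2 : ∀ E : Subgroup H, IsRoot W p E → Nat.card E = 2) : ∃ d : Decomp W p T, d.Extra := by
  obtain rfl := eq_two hD (h2 D hD)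
  letI : Module (ZMod 2) W := AddCommGroup.zmodModule hs.exp
  obtain ⟨S, hg⟩ := exists_good hs h2 hD
  obtain ⟨d, hd, -⟩ := decomp_aux hs h2 hg
  exact ⟨d, hd⟩

theorem nonempty_decomp (hs : Sys W p T M) {D : Subgroup H} (hD : IsRoot W p D)
    (h2 : ∀ E : Subgroup H, IsRoot W p E → Nat.card E = 2) : Nonempty (Decomp W p T) := by
  obtain ⟨d, -⟩ := exists_decomp hs hD h2
  exact ⟨d⟩

/-- Lifting when all root groups have order two. -/
theorem exists_lift (hs : Sys W p T M) {D : Subgroup H} (hD : IsRoot W p D)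
    (h2 : ∀ E : Subgroup H, IsRoot W p E → Nat.card E = 2) {W' : Type*} [AddCommGroup W']
    [DistribMulAction H W'] [Finite W'] {π : W' →+ W} (hπ : Liftable (H := H) W p π) :
    ∃ z ∈ fixA W' T, ∃ g : H, g • π z ≠ π z := by
  obtain rfl := eq_two hD (h2 D hD)
  letI : Module (ZMod 2) W := AddCommGroup.zmodModule hs.exp
  obtain ⟨S, hg⟩ := exists_good hs h2 hD
  exact lift_aux hs h2 hg hπ

end Final

end Cfsg.Agent.PMinFF.Two
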