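import Cfsg.Agent.Lib.PMinFF.Act
import Mathlib.GroupTheory.Perm.Fin
import Mathlib.Data.ZMod.Basic

/-!
# The shape of the conclusion

`Decomp W p T`: pairwise commuting components `E i`, one orbit under `T`, generating `H` with `T`, each an
`SL₂` on its natural section or (`p = 2`) a symmetric group of odd degree `2ⁿ + 1` on the even-weight section,
containing every offender of `T`. `Liftable`: hypotheses to lift fixed points of `T` to an extension.
-/

set_option autoImplicit false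

namespace Cfsg.Agent.PMinFF

open Subgroup Subnormal
open scoped Matrix

variable {H : Type*} [Group H] (W : Type*) [AddCommGroup W] [DistribMulAction H W]

/-- The commutator subgroup `[W, E]`. -/
def img (E : Subgroup H) : AddSubgroup W :=
  AddSubgroup.closure {w | ∃ g ∈ E, ∃ v, dlt W g v = w}

/-- `SL₂(pⁿ)` on its natural section. -/
def SLShape (p : ℕ) (E : Subgroup H) : Prop :=
  ∃ (n : ℕ) (F : Type) (_ : Field F) (_ : Fintype F), 1 ≤ n ∧ Fintype.card F = p ^ n ∧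
    ∃ (ρ : ↥E ≃* Matrix.SpecialLinearGroup (Fin 2) F) (ψ : W →+ (Fin 2 → F)),
      (∀ v, ψ v = 0 ↔ v ∈ fixA W E) ∧ (∀ x, ∃ v ∈ img W E, ψ v = x) ∧
      ∀ (e : ↥E) (v : W), ψ ((e : H) • v) = (ρ e : Matrix (Fin 2) (Fin 2) F) *ᵥ ψ v

/-- The symmetric group of degree `2ⁿ + 1` on the even-weight section. -/
def SymShape (p : ℕ) (E : Subgroup H) : Prop :=
  p = 2 ∧ ∃ n : ℕ, 1 ≤ n ∧
    ∃ (ρ : ↥E ≃* Equiv.Perm (Fin (2 ^ n + 1))) (ψ : W →+ (Fin (2 ^ n + 1) → ZMod 2)),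
      (∀ v, ψ v = 0 ↔ v ∈ fixA W E) ∧ (∀ v, ∑ i, ψ v i = 0) ∧
      (∀ x : Fin (2 ^ n + 1) → ZMod 2, ∑ i, x i = 0 → ∃ v ∈ img W E, ψ v = x) ∧
      ∀ (e : ↥E) (v : W) (i : Fin (2 ^ n + 1)), ψ ((e : H) • v) i = ψ v ((ρ e)⁻¹ i)

/-- The conclusion. -/
structure Decomp (p : ℕ) (T : Subgroup H) where
  /-- the number of components -/
  r : ℕ
  /-- the components -/
  E : Fin r → Subgroup H
  pos : 1 ≤ r
  comm : ∀ i j, i ≠ j → ∀ a ∈ E i, ∀ b ∈ E j, a * b = b * a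
  disj : ∀ i, E i ⊓ (⨆ j ∈ {j | j ≠ i}, E j) = ⊥
  sup_T : (⨆ i, E i) ⊔ T = ⊤
  trans : ∀ i j, ∃ t ∈ T, cj t (E i) = E j
  decomp : fixA W (⨆ i, E i) ⊔ ⨆ i, img W (E i) = ⊤
  mixed : ∀ i j, i ≠ j → ∀ v ∈ img W (E i), ∀ g ∈ E j, g • v = v
  shape : ∀ i, SLShape W p (E i) ∨ SymShape W p (E i)
  offender : ∀ A : Subgroup H, A ≤ T → Cfsg.IsElementaryAbelian p A →
    Nat.card W ≤ Nat.card A * Nat.card (fixA W A) → A ≤ ⨆ i, E i

/-- An extension `π : W' → W` whose kernel is fixed by all root groups; for `p = 2` the root groups of order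
at least `4` also lift their fixed points. -/
structure Liftable (p : ℕ) {W' : Type*} [AddCommGroup W'] [DistribMulAction H W'] (π : W' →+ W) : Prop where
  equiv : ∀ (g : H) (v : W'), π (g • v) = g • π v
  surj : Function.Surjective π
  exp : ∀ v : W', p • v = 0
  ker : ∀ D : Subgroup H, IsRoot W p D → ∀ v, π v = 0 → v ∈ fixA W' D
  fix : p = 2 → ∀ D : Subgroup H, IsRoot W p D → 2 < Nat.card D →
    ∀ w ∈ fixA W D, ∃ v ∈ fixA W' D, π v = w

end Cfsg.Agent.PMinFF
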