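import Cfsg.Agent.Lib.PMinFF.Main
import Cfsg.Agent.Lib.PMinFF.Shape

/-!
# From the subgroup configuration to the linear one

* `main_out`: a critical offender has a conjugate in `T` spanning, with one of its conjugates, a natural
  `SL₂` outside `M`;
* `conjAct`: `X` acts on `Additive V` by conjugation; `fixA` is `fx`, critical offenders are root groups;
* `sys_of_cfg`: a faithful configuration gives a `Sys`;
* `Datum.exists_root_le`: below an offender there is a root group.
-/

set_option autoImplicit false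
set_option linter.unusedSectionVars false
set_option linter.style.haveILetI false

namespace Cfsg.Agent.PMinFF

open Subgroup Subnormal
open scoped Matrix IsMulCommutative

universe u

variable {G : Type u} [Group G] {p : ℕ}

/-- A conjugate in `T` and a natural `SL₂` outside `M`. -/
def Out (V X T M A : Subgroup G) : Prop :=
  ∃ y ∈ X, cj y A ≤ T ∧ ∃ g ∈ X, Sec V (cj y A ⊔ cj g (cj y A)) (Nat.card A) ∧
    ¬ cj y A ⊔ cj g (cj y A) ≤ M

theorem main_out [Finite G] [Fact p.Prime] {V X T M A : Subgroup G} (h : Cfg p V X T M)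
    (hA : Crit p V X A) : Out V X T M A := by
  suffices ∀ n, ∀ (V X T M : Subgroup G), Nat.card X = n → Cfg p V X T M → ∀ A, Crit p V X A →
      Out V X T M A from this _ V X T M rfl h A hA
  clear hA h A M T X V
  intro n
  induction n using Nat.strong_induction_on with
  | _ n ih =>
    intro V X T M hn h A hA
    by_cases hbad : ∃ H < X, ∃ z ∈ X, cj z A ≤ T ∧ cj z A ≤ H ∧ ¬ H ≤ M
    · obtain ⟨H, hH, z, hz, hzT, hzH, hHM⟩ := hbad
      obtain ⟨P, U, T₁, y, hsub, hlt, hUV, hPX, hy, hyT, hyU, hT₁⟩ := h.exists_sub hA hH hz hzT hzH hHM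
      have hA' := hA.conj hy h.hXV
      have hno := (main hsub).1
      obtain ⟨hcrit, -, -⟩ := lift_crit h.hV h.hXV hUV hPX hA' (hyT.trans hsub.hTX) hyU hno
      obtain ⟨w, hw, hwT, g, hg, hsec, hnle⟩ := ih _ (hn ▸ hlt) U P T₁ _ rfl hsub _ hcrit
      obtain ⟨-, -, hl⟩ := lift_crit h.hV h.hXV hUV hPX (hA'.conj (hPX hw) h.hXV)
        (hwT.trans hsub.hTX) (hcrit.conj hw hsub.hXV).not_le_centralizer hno
      rw [card_cj] at hsec hl
      rw [card_cj] at hl
      refine ⟨w * y, mul_mem (hPX hw) hy, ?_, g, hPX hg, ?_, ?_⟩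
      all_goals rw [cj_mul]
      · exact hwT.trans hT₁
      · exact hl g hg hsec
      · exact fun hle => hnle (le_inf hle (sup_le (hwT.trans hsub.hTX)
          ((cj_mono (hwT.trans hsub.hTX)).trans (cj_eq_of_mem hg).le)))
    · push Not at hbad
      obtain ⟨z, hz, hzT⟩ := h.exists_cj_le_T hA.AX hA.isPGroup
      obtain ⟨-, g, hg, hgen, hsec⟩ := good_gen_of_no_bad h (hA.conj hz h.hXV) hzT
        fun H hH hle => hbad H hH z hz hzT hle
      rw [card_cj] at hsec
      exact ⟨z, hz, hzT, g, hg, hsec, by rw [hgen]; exact h.hMX.not_ge⟩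

/-! ### The action -/

section Act

variable {V X : Subgroup G} [IsMulCommutative ↥V]

/-- Conjugation on `Additive V`. -/
@[reducible] def conjAct (hXV : X ≤ normalizer (V : Set G)) : DistribMulAction ↥X (Additive ↥V) where
  smul x v := Additive.ofMul ⟨(x : G) * (v.toMul : G) * (x : G)⁻¹,
    (mem_normalizer_iff.mp (hXV x.2) _).mp v.toMul.2⟩
  one_smul v := Additive.toMul.injective <| Subtype.ext <| by
    change ((1 : ↥X) : G) * _ * _ = _
    simp
  mul_smul x y v := Additive.toMul.injective <| Subtype.ext <| by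
    change ((x * y : ↥X) : G) * (v.toMul : G) * ((x * y : ↥X) : G)⁻¹ =
      (x : G) * ((y : G) * (v.toMul : G) * (y : G)⁻¹) * (x : G)⁻¹
    push_cast
    group
  smul_zero x := Additive.toMul.injective <| Subtype.ext <| by
    change (x : G) * ((1 : ↥V) : G) * (x : G)⁻¹ = ((1 : ↥V) : G)
    simp
  smul_add x v w := Additive.toMul.injective <| Subtype.ext <| by
    change (x : G) * ((v.toMul * w.toMul : ↥V) : G) * (x : G)⁻¹ =
      (x : G) * (v.toMul : G) * (x : G)⁻¹ * ((x : G) * (w.toMul : G) * (x : G)⁻¹)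
    push_cast
    group

variable (hXV : X ≤ normalizer (V : Set G))

theorem coe_smul (x : ↥X) (v : Additive ↥V) :
    letI := conjAct hXV
    (((x • v).toMul : ↥V) : G) = (x : G) * (v.toMul : G) * (x : G)⁻¹ := rfl

theorem coe_dlt (x : ↥X) (v : Additive ↥V) :
    letI := conjAct hXV
    (((dlt (Additive ↥V) x v).toMul : ↥V) : G) = (x : G) * v.toMul * (x : G)⁻¹ * (v.toMul : G)⁻¹ := by
  letI := conjAct hXV
  show (((x • v - v).toMul : ↥V) : G) = _
  rw [toMul_sub, div_eq_mul_inv]
  rfl

theorem mem_fixA_iff (D : Subgroup ↥X) (v : Additive ↥V) :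
    letI := conjAct hXV
    v ∈ fixA (Additive ↥V) D ↔ (v.toMul : G) ∈ fx V (D.map X.subtype) := by
  letI := conjAct hXV
  rw [mem_fx_iff]
  constructor
  · intro h
    refine ⟨v.toMul.2, ?_⟩
    rintro _ ⟨g, hg, rfl⟩
    exact congrArg (fun w : Additive ↥V => (w.toMul : G)) (h g hg)
  · intro h g hg
    exact Additive.toMul.injective (Subtype.ext (h.2 _ ⟨g, hg, rfl⟩))

theorem card_fixA (D : Subgroup ↥X) :
    letI := conjAct hXV
    Nat.card (fixA (Additive ↥V) D) = Nat.card (fx V (D.map X.subtype)) := by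
  letI := conjAct hXV
  exact Nat.card_congr
    { toFun := fun v => ⟨(v.1.toMul : G), (mem_fixA_iff hXV D v.1).mp v.2⟩
      invFun := fun w => ⟨Additive.ofMul ⟨w, w.2.1⟩, (mem_fixA_iff hXV D _).mpr w.2⟩
      left_inv := fun _ => rfl
      right_inv := fun _ => rfl }

theorem card_additive : Nat.card (Additive ↥V) = Nat.card V := Nat.card_congr Additive.toMul

theorem map_inf_centralizer_eq_bot (hfaith : X ⊓ centralizer (V : Set G) = ⊥) (D : Subgroup ↥X) :
    D.map X.subtype ⊓ centralizer (V : Set G) = ⊥ :=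
  le_bot_iff.mp ((inf_le_inf_right _ (map_subtype_le D)).trans hfaith.le)

theorem isElementaryAbelian_map {D : Subgroup ↥X} (h : IsElementaryAbelian p D) :
    IsElementaryAbelian p (D.map X.subtype) :=
  PGroup.isElementaryAbelian_map h _

variable (hfaith : X ⊓ centralizer (V : Set G) = ⊥)
include hfaith

/-- A root group is a critical offender. -/
theorem crit_of_isRoot {D : Subgroup ↥X}
    (hD : letI := conjAct hXV; IsRoot (Additive ↥V) p D) : Crit p V X (D.map X.subtype) := by
  letI := conjAct hXV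
  refine ⟨map_subtype_le _, isElementaryAbelian_map hD.hD, map_inf_centralizer_eq_bot hfaith D,
    fun e => hD.ne ((map_eq_bot_iff_of_injective _ X.subtype_injective).mp e), ?_, fun B hB hB0 hB1 => ?_⟩
  · rw [card_map_of_injective X.subtype_injective, ← card_fixA hXV, ← card_additive, hD.card_eq]
  · have e : (B.subgroupOf X).map X.subtype = B :=
      map_subgroupOf_eq_of_le (hB.trans (map_subtype_le _))
    have h1 := hD.strict (B.subgroupOf X) (fun y hy => (Subgroup.mem_map_iff_mem X.subtype_injective).mp (hB hy))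
      (fun e' => hB0 (by rw [← e, e', Subgroup.map_bot])) (fun e' => hB1 (by rw [← e, e']))
    rw [← card_map_of_injective X.subtype_injective (K := B.subgroupOf X), card_fixA hXV, e] at h1
    refine h1.trans_eq ?_
    rw [card_map_of_injective X.subtype_injective, ← card_fixA hXV, hD.card_eq]

/-- A critical offender with equality is a root group. -/
theorem isRoot_of_crit {D : Subgroup ↥X} (hD : Crit p V X (D.map X.subtype))
    (heq : Nat.card (D.map X.subtype) * Nat.card (fx V (D.map X.subtype)) = Nat.card V) :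
    letI := conjAct hXV; IsRoot (Additive ↥V) p D := by
  letI := conjAct hXV
  refine ⟨?_, fun e => hD.ne (by rw [e, Subgroup.map_bot]), ?_, fun B hB hB0 hB1 => ?_⟩
  · have := PGroup.isElementaryAbelian_comap hD.hA X.subtype_injective
    rwa [Subgroup.comap_map_eq_self_of_injective X.subtype_injective] at this
  · rwa [card_fixA hXV, card_additive, ← card_map_of_injective X.subtype_injective]
  · have h1 := hD.strict (B.map X.subtype) (map_mono hB)
      (fun e => hB0 ((map_eq_bot_iff_of_injective _ X.subtype_injective).mp e))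
      (fun e => hB1 (map_injective X.subtype_injective e))
    rw [card_map_of_injective X.subtype_injective, heq] at h1
    rwa [card_fixA hXV, card_additive]

/-- Coordinates for a root group from a natural `SL₂` on a section. -/
theorem exists_coord [Finite G] [Fact p.Prime] {L : Subgroup G} (hLX : L ≤ X) {D : Subgroup ↥X}
    (hD : IsPGroup p D) (hDL : D.map X.subtype ≤ L) (hsec : Sec V L (Nat.card D)) :
    letI := conjAct hXV; ∃ c : Coord (Additive ↥V) D, c.L = L.subgroupOf X := by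
  letI := conjAct hXV
  classical
  obtain ⟨F, _, _, hF, ⟨-, -, ρ₀, ψ₀, hρ, hψ, hker, hact⟩, hkern⟩ := hsec
  obtain ⟨n, hn⟩ := IsPGroup.iff_card.mp hD
  obtain ⟨P₀, hP₀⟩ := NaturalSL2.exists_sylow_upperUni (F := F) (hF.trans hn)
  set L' := L.subgroupOf X with hL'
  have hmapL : L'.map X.subtype = L := map_subgroupOf_eq_of_le hLX
  have hinj : Function.Injective ρ₀ := by
    rw [← MonoidHom.ker_eq_bot_iff, eq_bot_iff_forall]
    intro l hl
    have hc : (l : G) ∈ centralizer (V : Set G) := hkern l l.2 fun v hv => by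
      obtain ⟨w, hw, hw'⟩ := hact l ⟨v, hv⟩
      rw [MonoidHom.mem_ker.mp hl, Matrix.SpecialLinearGroup.coe_one, Matrix.one_mulVec] at hw'
      have h1 : ψ₀ (w * (⟨v, hv⟩ : ↥V)⁻¹) = 1 := by
        rw [map_mul, map_inv, Multiplicative.toAdd.injective hw', mul_inv_cancel]
      have h2 := (hker _).mp h1
      rwa [Subgroup.coe_mul, Subgroup.coe_inv, hw] at h2
    exact Subtype.ext (Subgroup.mem_bot.mp (hfaith.le ⟨hLX l.2, hc⟩))
  let e₀ : ↥L' ≃* Matrix.SpecialLinearGroup (Fin 2) F :=
    (subgroupOfEquivOfLe hLX).trans (MulEquiv.ofBijective ρ₀ ⟨hinj, MonoidHom.range_eq_top.mp hρ⟩)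
  have hDL' : D ≤ L' := fun d hd => mem_subgroupOf.mpr (hDL ⟨d, hd, rfl⟩)
  set D₀ := D.subgroupOf L' with hD₀
  have hc0 : Nat.card (D₀.map e₀.toMonoidHom) = Nat.card D := by
    rw [card_map_of_injective (f := e₀.toMonoidHom) e₀.injective,
      Nat.card_congr (subgroupOfEquivOfLe hDL').toEquiv]
  obtain ⟨Q, hQ⟩ := (IsPGroup.of_card (hc0.trans hn)).exists_le_sylow
  obtain ⟨s, hs⟩ := MulAction.exists_smul_eq (Matrix.SpecialLinearGroup (Fin 2) F) P₀ Q
  have hQ' : (Q : Subgroup _) = (NaturalSL2.upperUni F).map (MulAut.conj s).toMonoidHom := by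
    rw [← hP₀]
    exact (congrArg (fun P : Sylow p (Matrix.SpecialLinearGroup (Fin 2) F) =>
      (P : Subgroup (Matrix.SpecialLinearGroup (Fin 2) F))) hs).symm
  have hDQ : D₀.map e₀.toMonoidHom = (NaturalSL2.upperUni F).map (MulAut.conj s).toMonoidHom := by
    refine eq_of_le_of_card_ge (hQ' ▸ hQ) ?_
    rw [card_map_of_injective (f := (MulAut.conj s).toMonoidHom) (MulAut.conj s).injective,
      NaturalSL2.card_upperUni, hF, hc0]
  let ψ : Additive ↥V →+ (Fin 2 → F) := AddMonoidHom.mk'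
    (fun v => ((s⁻¹ : Matrix.SpecialLinearGroup (Fin 2) F) : Matrix (Fin 2) (Fin 2) F) *ᵥ
      Multiplicative.toAdd (ψ₀ v.toMul))
    (fun v w => by rw [toMul_add, map_mul, toAdd_mul, Matrix.mulVec_add])
  have hcancel : ∀ (g : Matrix.SpecialLinearGroup (Fin 2) F) (x : Fin 2 → F),
      (g : Matrix (Fin 2) (Fin 2) F) *ᵥ ((g⁻¹ : Matrix.SpecialLinearGroup (Fin 2) F) :
        Matrix (Fin 2) (Fin 2) F) *ᵥ x = x := fun g x => by
    rw [Matrix.mulVec_mulVec, ← Matrix.SpecialLinearGroup.coe_mul, mul_inv_cancel,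
      Matrix.SpecialLinearGroup.coe_one, Matrix.one_mulVec]
  refine ⟨{
    F := F
    L := L'
    ρ := e₀.trans (MulAut.conj s⁻¹)
    ψ := ψ
    surj := ?_
    ker := ?_
    equiv := ?_
    cardF := hF
    le := hDL'
    memD := ?_ }, rfl⟩
  · intro x
    obtain ⟨u, hu⟩ := hψ (Multiplicative.ofAdd ((s : Matrix (Fin 2) (Fin 2) F) *ᵥ x))
    refine ⟨Additive.ofMul u, ?_⟩
    show _ *ᵥ Multiplicative.toAdd (ψ₀ u) = x
    rw [hu, toAdd_ofAdd, Matrix.mulVec_mulVec, ← Matrix.SpecialLinearGroup.coe_mul, inv_mul_cancel,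
      Matrix.SpecialLinearGroup.coe_one, Matrix.one_mulVec]
  · intro v
    rw [mem_fixA_iff hXV, hmapL, ← hker, ← toAdd_eq_zero]
    constructor
    · intro h
      have := congrArg ((s : Matrix (Fin 2) (Fin 2) F) *ᵥ ·) h
      simpa only [ψ, AddMonoidHom.mk'_apply, hcancel, Matrix.mulVec_zero] using this
    · intro h
      show _ *ᵥ Multiplicative.toAdd (ψ₀ v.toMul) = 0
      rw [h, Matrix.mulVec_zero]
  · intro l v
    obtain ⟨w, hw, hw'⟩ := hact (subgroupOfEquivOfLe hLX l) v.toMul
    have ew : (((l : ↥X) • v).toMul : ↥V) = w := Subtype.ext hw.symm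
    show _ *ᵥ Multiplicative.toAdd (ψ₀ ((l : ↥X) • v).toMul) =
      ((s⁻¹ * ρ₀ (subgroupOfEquivOfLe hLX l) * s⁻¹⁻¹ : Matrix.SpecialLinearGroup (Fin 2) F) :
        Matrix (Fin 2) (Fin 2) F) *ᵥ (((s⁻¹ : Matrix.SpecialLinearGroup (Fin 2) F) :
        Matrix (Fin 2) (Fin 2) F) *ᵥ Multiplicative.toAdd (ψ₀ v.toMul))
    rw [ew, hw', Matrix.mulVec_mulVec, Matrix.mulVec_mulVec, ← Matrix.SpecialLinearGroup.coe_mul,
      ← Matrix.SpecialLinearGroup.coe_mul, inv_inv, mul_inv_cancel_right]
  · intro l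
    have h1 : (l : ↥X) ∈ D ↔ e₀ l ∈ D₀.map e₀.toMonoidHom :=
      (Subgroup.mem_map_iff_mem (f := e₀.toMonoidHom) (K := D₀) (x := l) e₀.injective).symm
    rw [h1, hDQ, Subgroup.mem_map_equiv]
    show (MulAut.conj s).symm (e₀ l) ∈ _ ↔ s⁻¹ * e₀ l * s⁻¹⁻¹ ∈ _
    rw [inv_inv, MulAut.conj_symm_apply]

omit hfaith in
theorem map_cj_subtype (y : ↥X) (D : Subgroup ↥X) :
    (cj y D).map X.subtype = cj (y : G) (D.map X.subtype) := by
  unfold cj
  rw [Subgroup.map_map, Subgroup.map_map]
  rfl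

/-- A faithful configuration is a linear system. -/
theorem sys_of_cfg [Finite G] [Fact p.Prime] {T M : Subgroup G} (h : Cfg p V X T M) :
    letI := conjAct hXV; Sys (Additive ↥V) p (T.subgroupOf X) (M.subgroupOf X) := by
  letI := conjAct hXV
  have hdatum : Datum (Additive ↥V) p ↥X := by
    refine ⟨fun g hg => Subtype.ext (Subgroup.mem_bot.mp (hfaith.le ⟨g.2, fun v hv => ?_⟩)), fun v => ?_,
      fun B hB => ?_, fun D hD => ?_⟩
    · have := congrArg (fun w : Additive ↥V => (w.toMul : G)) (hg (Additive.ofMul ⟨v, hv⟩))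
      exact (mul_inv_eq_iff_eq_mul.mp this).symm
    · exact Additive.toMul.injective (by
        rw [toMul_nsmul, toMul_zero]; exact Subtype.ext (h.hV.2 _ v.toMul.2))
    · rw [card_fixA hXV, card_additive, ← card_map_of_injective X.subtype_injective]
      exact (main h).1 _ (map_subtype_le _) (isElementaryAbelian_map hB)
        (map_inf_centralizer_eq_bot hfaith B)
    · obtain ⟨-, g, hg, hsec⟩ := (main h).2 _ (crit_of_isRoot hXV hfaith hD)
      rw [card_map_of_injective X.subtype_injective] at hsec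
      obtain ⟨c, -⟩ := exists_coord hXV hfaith (sup_le (map_subtype_le D)
        ((cj_mono (map_subtype_le D)).trans (cj_eq_of_mem hg).le))
        (PGroup.isPGroup_of_elementaryAbelian hD.hD) le_sup_left hsec
      exact ⟨c⟩
  refine { hdatum with
    hT := h.hT.comap_of_injective X.subtype X.subtype_injective
    hTi := h.hTi
    hM := fun e => h.hMX.not_ge (subgroupOf_eq_top.mp e)
    hTM := comap_mono h.hTM
    huniq := fun K hK hTK => ?_
    pker := fun J hJ hJp => ?_
    moved := ?_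
    out := fun D hD => ?_ }
  · have h1 := h.huniq (K.map X.subtype) (lt_of_le_of_ne (map_subtype_le K) fun e => hK ?_)
      ((map_subgroupOf_eq_of_le h.hTX).ge.trans (map_mono hTK))
    · exact fun k hk => mem_subgroupOf.mpr (h1 ⟨k, hk, rfl⟩)
    · refine map_injective X.subtype_injective (e.trans ?_)
      rw [← MonoidHom.range_eq_map, X.range_subtype]
  · refine (map_eq_bot_iff_of_injective _ X.subtype_injective).mp (le_bot_iff.mp ?_)
    refine (le_inf (map_subtype_le J) (h.pker _ (map_subtype_le J) (hJp.map _) fun g hg => ?_)).trans hfaith.le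
    exact le_normalizer_map X.subtype ⟨⟨g, hg⟩, normalizer_eq_top_iff.mpr hJ ▸ mem_top _, rfl⟩
  · obtain ⟨g, hg, hgc⟩ := SetLike.not_le_iff_exists.mp h.moved
    rw [mem_centralizer_iff] at hgc
    push Not at hgc
    obtain ⟨z, hz, hne⟩ := hgc
    refine ⟨Additive.ofMul ⟨z, hz.1⟩, ?_, ⟨g, hg⟩, fun e => hne ?_⟩
    · rw [mem_fixA_iff hXV, map_subgroupOf_eq_of_le h.hTX]
      exact hz
    · exact (mul_inv_eq_iff_eq_mul.mp (congrArg (fun w : Additive ↥V => (w.toMul : G)) e)).symm
  · obtain ⟨y, hy, hyT, g, hg, hsec, hnle⟩ := main_out h (crit_of_isRoot hXV hfaith hD)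
    have e := map_cj_subtype (X := X) ⟨y, hy⟩ D
    have hY : cj y (D.map X.subtype) ≤ X := hyT.trans h.hTX
    refine ⟨⟨y, hy⟩, fun d hd => mem_subgroupOf.mpr (hyT (e.le ⟨d, hd, rfl⟩)), ?_⟩
    rw [card_map_of_injective X.subtype_injective] at hsec
    obtain ⟨c, hc⟩ := exists_coord hXV hfaith (sup_le hY ((cj_mono hY).trans (cj_eq_of_mem hg).le))
      (D := cj (⟨y, hy⟩ : ↥X) D) ((PGroup.isPGroup_of_elementaryAbelian hD.hD).map _)
      (e.le.trans le_sup_left) (by rw [card_cj]; exact hsec)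
    refine ⟨c, fun hle => hnle ?_⟩
    rw [hc] at hle
    intro x hx
    exact hle (x := ⟨x, (sup_le hY ((cj_mono hY).trans (cj_eq_of_mem hg).le)) hx⟩) hx

end Act

section Offender

variable {W H : Type*} [Group H] [AddCommGroup W] [DistribMulAction H W]

/-- Below an offender there is a root group. -/
theorem Datum.exists_root_le [Finite H] (hd : Datum W p H) {A : Subgroup H}
    (hA : Cfsg.IsElementaryAbelian p A) (hA0 : A ≠ ⊥)
    (hle : Nat.card W ≤ Nat.card A * Nat.card (fixA W A)) : ∃ D ≤ A, IsRoot W p D := by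
  obtain ⟨D, ⟨hDA, hD0, hDle⟩, hmin⟩ := (Set.toFinite
    {B : Subgroup H | B ≤ A ∧ B ≠ ⊥ ∧ Nat.card W ≤ Nat.card B * Nat.card (fixA W B)}).exists_minimal
    ⟨A, le_rfl, hA0, hle⟩
  have hD := PGroup.isElementaryAbelian_mono hA hDA
  refine ⟨D, hDA, hD, hD0, le_antisymm (hd.noOver D hD) hDle, fun B hB hB0 hB1 => ?_⟩
  exact lt_of_not_ge fun h => hB1 (le_antisymm hB (hmin ⟨hB.trans hDA, hB0, h⟩ hB))

end Offender

end Cfsg.Agent.PMinFF
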