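import Cfsg.Agent.Lib.Subnormal.Join
import Cfsg.Agent.Lib.NaturalSL2.Coords
import Cfsg.Agent.Lib.PGroup.ElementaryAbelian

/-!
# Root groups in a linear action

`H` acts on the abelian group `W`. `dlt W g v = g • v - v`; a root group `D` is an elementary abelian group
with `|D| |C_W(D)| = |W|` and all proper nontrivial subgroups worse; `Coord W D` is an `SL₂` over the field
with `|D|` elements containing `D` as the unitriangular group and acting naturally on `W / C_W(L)`;
`Datum p W H`: faithful, no over-offender, every root group has coordinates.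
-/

set_option autoImplicit false

namespace Cfsg.Agent.PMinFF

open Subgroup
open scoped Matrix

section Def

variable {H : Type*} [Group H] (W : Type*) [AddCommGroup W] [DistribMulAction H W]

/-- `g • v - v`. -/
def dlt (g : H) : W →+ W := DistribSMul.toAddMonoidHom W g - AddMonoidHom.id W

/-- The fixed points of a subgroup. -/
def fixA (D : Subgroup H) : AddSubgroup W where
  carrier := {v | ∀ g ∈ D, g • v = v}
  zero_mem' g _ := smul_zero g
  add_mem' {v w} hv hw g hg := by rw [smul_add, hv g hg, hw g hg]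
  neg_mem' {v} hv g hg := by rw [smul_neg, hv g hg]

/-- A root group. -/
structure IsRoot (p : ℕ) (D : Subgroup H) : Prop where
  hD : Cfsg.IsElementaryAbelian p D
  ne : D ≠ ⊥
  card_eq : Nat.card D * Nat.card (fixA W D) = Nat.card W
  strict : ∀ B ≤ D, B ≠ ⊥ → B ≠ D → Nat.card B * Nat.card (fixA W B) < Nat.card W

/-- Coordinates for a root group. -/
structure Coord (D : Subgroup H) where
  /-- the field -/
  F : Type
  [fld : Field F]
  [fin : Fintype F]
  /-- the subgroup -/
  L : Subgroup H
  /-- the isomorphism -/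
  ρ : ↥L ≃* Matrix.SpecialLinearGroup (Fin 2) F
  /-- the module map -/
  ψ : W →+ (Fin 2 → F)
  surj : Function.Surjective ψ
  ker : ∀ v, ψ v = 0 ↔ v ∈ fixA W L
  equiv : ∀ (l : ↥L) (v : W), ψ ((l : H) • v) =
    (ρ l : Matrix (Fin 2) (Fin 2) F) *ᵥ ψ v
  cardF : Fintype.card F = Nat.card D
  le : D ≤ L
  memD : ∀ l : ↥L, (l : H) ∈ D ↔ ρ l ∈ NaturalSL2.upperUni F

attribute [instance] Coord.fld Coord.fin

/-- The standing hypotheses. -/
structure Datum (p : ℕ) (H : Type*) [Group H] [DistribMulAction H W] : Prop where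
  faithful : ∀ g : H, (∀ v : W, g • v = v) → g = 1
  exp : ∀ v : W, p • v = 0
  noOver : ∀ B : Subgroup H, Cfsg.IsElementaryAbelian p B →
    Nat.card B * Nat.card (fixA W B) ≤ Nat.card W
  coord : ∀ D : Subgroup H, IsRoot W p D → Nonempty (Coord W D)

/-- A minimal parabolic configuration: one maximal subgroup above a Sylow subgroup `T`, `C_W(T)` moved, every
root group conjugate into `T` so that an associated `SL₂` lies outside `M`. -/
structure Sys (p : ℕ) (T M : Subgroup H) : Prop extends Datum W p H where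
  hT : IsPGroup p T
  hTi : ¬ p ∣ T.index
  hM : M ≠ ⊤
  hTM : T ≤ M
  huniq : ∀ K : Subgroup H, K ≠ ⊤ → T ≤ K → K ≤ M
  pker : ∀ J : Subgroup H, J.Normal → IsPGroup p J → J = ⊥
  moved : ∃ z ∈ fixA W T, ∃ g : H, g • z ≠ z
  out : ∀ D : Subgroup H, IsRoot W p D →
    ∃ y : H, Subnormal.cj y D ≤ T ∧ ∃ c : Coord W (Subnormal.cj y D), ¬ c.L ≤ M

end Def

variable {H : Type*} [Group H] {W : Type*} [AddCommGroup W] [DistribMulAction H W]

theorem dlt_apply (g : H) (v : W) : dlt W g v = g • v - v := rfl

theorem smul_eq (g : H) (v : W) : g • v = v + dlt W g v := by rw [dlt_apply, add_sub_cancel]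

theorem mem_fixA {D : Subgroup H} {v : W} : v ∈ fixA W D ↔ ∀ g ∈ D, g • v = v := Iff.rfl

theorem dlt_eq_zero_iff {g : H} {v : W} : dlt W g v = 0 ↔ g • v = v := sub_eq_zero

theorem fixA_anti {D E : Subgroup H} (h : D ≤ E) : fixA W E ≤ fixA W D := fun _ hv g hg => hv g (h hg)

theorem fixA_sup (D E : Subgroup H) : fixA W (D ⊔ E) = fixA W D ⊓ fixA W E := by
  refine le_antisymm (le_inf (fixA_anti le_sup_left) (fixA_anti le_sup_right)) fun v hv g hg => ?_
  have : D ⊔ E ≤ MulAction.stabilizer H v := sup_le (fun x hx => hv.1 x hx) fun x hx => hv.2 x hx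
  exact this hg

theorem smul_mem_fixA_cj {D : Subgroup H} {v : W} (g : H) :
    g • v ∈ fixA W (Subnormal.cj g D) ↔ v ∈ fixA W D := by
  constructor
  · intro h x hx
    have := h (g * x * g⁻¹) (Subnormal.conj_mem_cj hx)
    rw [mul_smul, mul_smul, inv_smul_smul] at this
    exact smul_left_cancel g this
  · intro h x hx
    have := h _ (Subnormal.mem_cj.mp hx)
    rw [mul_smul, mul_smul, inv_smul_eq_iff] at this
    exact this

theorem dlt_conj (g d : H) (v : W) : dlt W (g * d * g⁻¹) v = g • dlt W d (g⁻¹ • v) := by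
  rw [dlt_apply, dlt_apply, smul_sub, mul_smul, mul_smul, smul_inv_smul]

theorem dlt_mul (g h : H) (v : W) : dlt W (g * h) v = dlt W g v + dlt W h v + dlt W g (dlt W h v) := by
  simp only [dlt_apply, mul_smul, smul_sub]
  abel

@[simp] theorem dlt_one (v : W) : dlt W (1 : H) v = 0 := by rw [dlt_apply, one_smul, sub_self]

theorem dlt_comm {g h : H} (hc : g * h = h * g) (v : W) : dlt W g (dlt W h v) = dlt W h (dlt W g v) := by
  have e := congrArg (fun x : H => x • v) hc
  simp only [mul_smul] at e
  simp only [dlt_apply, smul_sub, e]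
  abel

theorem Datum.ext {p : ℕ} (hd : Datum W p H) {g h : H} (e : ∀ v : W, g • v = h • v) : g = h :=
  inv_mul_eq_one.mp (hd.faithful _ fun v => by rw [mul_smul, ← e v, inv_smul_smul])

theorem Datum.ext_dlt {p : ℕ} (hd : Datum W p H) {g h : H} (e : ∀ v : W, dlt W g v = dlt W h v) : g = h :=
  hd.ext fun v => by rw [smul_eq, smul_eq, e]

end Cfsg.Agent.PMinFF
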