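import Cfsg.Agent.Lib.PMinFF.Act
import Cfsg.Agent.Lib.PMinFF.Config
import Cfsg.Agent.Lib.Offender.Thompson

/-!
# Elementary facts about root groups

* `Coord.mem_fixA_iff`, `IsRoot.mem_fixA_of_single`: the fixed points of a root group are those of any of its
  nontrivial elements;
* `IsRoot.mem_of_axis`: a root group is the whole group fixing its fixed points with commutators inside them;
* `IsRoot.commute_facts`: distinct commuting root groups meet trivially and their fixed points span;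
* `IsRoot.commute_of_pGroup`: root groups in a common `p`-group commute;
* `isPGroup_of_chain`, `IsRoot.commute_of_image`.
-/

set_option autoImplicit false

namespace Cfsg.Agent.PMinFF

open Subgroup Subnormal
open scoped Matrix

variable {H : Type*} [Group H] {W : Type*} [AddCommGroup W] [DistribMulAction H W] {p : ℕ}

theorem card_sup_mul_inf_add (A B : AddSubgroup W) :
    Nat.card ↥(A ⊔ B) * Nat.card ↥(A ⊓ B) = Nat.card A * Nat.card B := by
  have h := Offender.card_sup_mul_card_inf (H := A.toSubgroup) (N := B.toSubgroup)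
    (fun _ _ => Subgroup.mem_normalizer_iff.mpr fun x => by simp)
  rw [← (AddSubgroup.toSubgroup (A := W)).map_sup, ← (AddSubgroup.toSubgroup (A := W)).map_inf] at h
  exact h

theorem pow_smul_chain {g : H} {v : W} (h3 : dlt W g (dlt W g (dlt W g v)) = 0) (n : ℕ) :
    g ^ n • v = v + n • dlt W g v + n.choose 2 • dlt W g (dlt W g v) := by
  induction n with
  | zero => simp
  | succ n ih =>
    have e : ∀ (m : ℕ) (w : W), g • (m • w) = m • (g • w) := fun m w =>
      map_nsmul (DistribSMul.toAddMonoidHom W g) m w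
    rw [pow_succ', mul_smul, ih, smul_add, smul_add, e, e, smul_eq g v, smul_eq g (dlt W g v),
      smul_eq g (dlt W g (dlt W g v)), h3, add_zero, Nat.choose_succ_succ, Nat.choose_one_right, smul_add,
      succ_nsmul, add_nsmul]
    abel

/-- The stabiliser of the chain `W ≥ U₁ ≥ U₂ ≥ 0`. -/
theorem isPGroup_of_chain [Finite H] [Fact p.Prime] (hd : Datum W p H) {P : Subgroup H} {S : Set H}
    (hP : P ≤ closure S) {U₁ U₂ : AddSubgroup W} (hle : U₂ ≤ U₁)
    (h1 : ∀ g ∈ S, ∀ v, dlt W g v ∈ U₁) (h2 : ∀ g ∈ S, ∀ v ∈ U₁, dlt W g v ∈ U₂)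
    (h3 : ∀ g ∈ S, ∀ v ∈ U₂, dlt W g v = 0) : IsPGroup p P := by
  let M : Submonoid H :=
    { carrier := {g | (∀ v, dlt W g v ∈ U₁) ∧ (∀ v ∈ U₁, dlt W g v ∈ U₂) ∧ ∀ v ∈ U₂, dlt W g v = 0}
      one_mem' := ⟨fun v => by rw [dlt_one]; exact zero_mem _, fun v _ => by rw [dlt_one]; exact zero_mem _,
        fun v _ => dlt_one v⟩
      mul_mem' := fun {g h} hg hh => ⟨fun v => by
          rw [dlt_mul]; exact add_mem (add_mem (hg.1 v) (hh.1 v)) (hle (hg.2.1 _ (hh.1 v))),
        fun v hv => by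
          rw [dlt_mul, hg.2.2 _ (hh.2.1 v hv), add_zero]; exact add_mem (hg.2.1 v hv) (hh.2.1 v hv),
        fun v hv => by rw [dlt_mul, hg.2.2 v hv, hh.2.2 v hv, map_zero, add_zero, add_zero]⟩ }
  let K : Subgroup H :=
    { M with
      inv_mem' := fun {g} hg => by
        have e : g⁻¹ = g ^ (orderOf g - 1) := by
          refine inv_eq_of_mul_eq_one_right ?_
          rw [← pow_succ', Nat.sub_add_cancel (orderOf_pos g), pow_orderOf_eq_one]
        rw [e]
        exact M.pow_mem hg _ }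
  have hSK : closure S ≤ K := (closure_le _).mpr fun g hg => ⟨h1 g hg, h2 g hg, h3 g hg⟩
  intro ⟨g, hg⟩
  obtain ⟨a, b, c⟩ := hSK (hP hg)
  refine ⟨2, Subtype.ext (hd.faithful _ fun v => ?_)⟩
  have hp : p.Prime := Fact.out
  rw [SubmonoidClass.coe_pow, pow_smul_chain (c _ (b _ (a v)))]
  obtain ⟨m, hm⟩ := hp.dvd_choose_pow (n := 2) (k := 2) two_ne_zero
    (Nat.ne_of_lt (by nlinarith [hp.two_le]))
  rw [hm, mul_comm p m, mul_nsmul, pow_two, mul_nsmul]
  simp [hd.exp]

namespace Coord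

variable {D : Subgroup H} (c : Coord W D)

theorem exists_mem (A : Matrix.SpecialLinearGroup (Fin 2) c.F) : ∃ l : ↥c.L, c.ρ l = A :=
  c.ρ.surjective A

theorem psi_smul_of_mem {g : H} (hg : g ∈ D) (v : W) :
    c.ψ (g • v) =
      ![c.ψ v 0 + (c.ρ ⟨g, c.le hg⟩ : Matrix (Fin 2) (Fin 2) c.F) 0 1 * c.ψ v 1, c.ψ v 1] := by
  rw [show g • v = ((⟨g, c.le hg⟩ : c.L) : H) • v from rfl, c.equiv,
    NaturalSL2.apply_of_mem_upperUni ((c.memD _).mp hg)]
  funext i
  fin_cases i <;> simp [Matrix.mulVec, dotProduct, Fin.sum_univ_two]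

theorem psi_dlt_of_mem {g : H} (hg : g ∈ D) (v : W) :
    c.ψ (dlt W g v) = ![(c.ρ ⟨g, c.le hg⟩ : Matrix (Fin 2) (Fin 2) c.F) 0 1 * c.ψ v 1, 0] := by
  rw [dlt_apply, map_sub, c.psi_smul_of_mem hg]
  funext i
  fin_cases i <;> simp

theorem psi_eq_zero_of_fix {g : H} (hg : g ∈ D) (h1 : g ≠ 1) {v : W} (hv : g • v = v) : c.ψ v 1 = 0 := by
  have h := congrFun (c.psi_dlt_of_mem hg v) 0
  rw [dlt_apply, hv, sub_self, map_zero] at h
  rcases mul_eq_zero.mp h.symm with h0 | h0
  · refine absurd ?_ h1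
    have : c.ρ ⟨g, c.le hg⟩ = 1 := by
      apply Subtype.ext
      rw [NaturalSL2.apply_of_mem_upperUni ((c.memD _).mp hg), h0, Matrix.SpecialLinearGroup.coe_one,
        Matrix.one_fin_two]
    exact congrArg Subtype.val (c.ρ.map_eq_one_iff.mp this)
  · exact h0

theorem mem_fixA_iff [Finite W] (hD : IsRoot W p D) (v : W) : v ∈ fixA W D ↔ c.ψ v 1 = 0 := by
  let χ : W →+ c.F := (Pi.evalAddMonoidHom (fun _ : Fin 2 => c.F) 1).comp c.ψ
  obtain ⟨g, hg, h1⟩ := (bot_or_exists_ne_one D).resolve_left hD.ne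
  have hle : fixA W D ≤ χ.ker := fun v hv => c.psi_eq_zero_of_fix hg h1 (hv g hg)
  have hs : Function.Surjective χ := fun x => by
    obtain ⟨v, hv⟩ := c.surj ![0, x]
    exact ⟨v, by show c.ψ v 1 = x; rw [hv]; rfl⟩
  have hc : Nat.card χ.ker * Nat.card D = Nat.card W := by
    rw [χ.ker.card_eq_card_quotient_mul_card_addSubgroup,
      Nat.card_congr (QuotientAddGroup.quotientKerEquivOfSurjective χ hs).toEquiv,
      Nat.card_eq_fintype_card (α := c.F), c.cardF, mul_comm]
  have hD0 : 0 < Nat.card D := Nat.pos_of_ne_zero fun e => by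
    have := hD.card_eq; rw [e, zero_mul] at this; exact Nat.card_pos.ne this
  have he : fixA W D = χ.ker := by
    refine AddSubgroup.eq_of_le_of_card_ge hle (le_of_eq ?_)
    exact Nat.eq_of_mul_eq_mul_right hD0 (hc.trans (hD.card_eq.symm.trans (mul_comm _ _)))
  rw [he]
  rfl

include c in
theorem dlt_mem_fixA [Finite W] (hD : IsRoot W p D) {g : H} (hg : g ∈ D) (v : W) :
    dlt W g v ∈ fixA W D :=
  (c.mem_fixA_iff hD _).mpr (by rw [c.psi_dlt_of_mem hg]; rfl)

end Coord

section Root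

variable [Finite H] [Finite W] {D E : Subgroup H} (hd : Datum W p H) (hD : IsRoot W p D)
include hd hD

omit [Finite H] in
theorem IsRoot.dlt_mem {g : H} (hg : g ∈ D) (v : W) : dlt W g v ∈ fixA W D :=
  (hd.coord D hD).some.dlt_mem_fixA hD hg v

omit [Finite H] in
theorem IsRoot.mem_fixA_of_single {g : H} (hg : g ∈ D) (h1 : g ≠ 1) {v : W} (hv : g • v = v) :
    v ∈ fixA W D :=
  let c := (hd.coord D hD).some
  (c.mem_fixA_iff hD v).mpr (c.psi_eq_zero_of_fix hg h1 hv)

/-- A root group is everything fixing its fixed points with commutators inside them. -/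
theorem IsRoot.mem_of_axis {g : H} (hk : ∀ v ∈ fixA W D, g • v = v)
    (hi : ∀ v, dlt W g v ∈ fixA W D) : g ∈ D := by
  set Z := fixA W D with hZ
  let M : Submonoid H :=
    { carrier := {g | (∀ v ∈ Z, g • v = v) ∧ ∀ v, dlt W g v ∈ Z}
      one_mem' := ⟨fun v _ => one_smul H v, fun v => by rw [dlt_one]; exact zero_mem _⟩
      mul_mem' := fun {g h} hg hh => ⟨fun v hv => by rw [mul_smul, hh.1 v hv, hg.1 v hv], fun v => by
        rw [dlt_mul, dlt_eq_zero_iff.mpr (hg.1 _ (hh.2 v)), add_zero]; exact add_mem (hg.2 v) (hh.2 v)⟩ }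
  let Q : Subgroup H :=
    { M with
      inv_mem' := fun {g} hg => by
        have e : g⁻¹ = g ^ (orderOf g - 1) := by
          refine inv_eq_of_mul_eq_one_right ?_
          rw [← pow_succ', Nat.sub_add_cancel (orderOf_pos g), pow_orderOf_eq_one]
        rw [e]
        exact M.pow_mem hg _ }
  have hmul : ∀ g ∈ Q, ∀ h ∈ Q, ∀ v, dlt W (g * h) v = dlt W g v + dlt W h v := fun g hg h hh v => by
    rw [dlt_mul, dlt_eq_zero_iff.mpr (hg.1 _ (hh.2 v)), add_zero]
  have hel : Cfsg.IsElementaryAbelian p Q := by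
    refine PGroup.isElementaryAbelian_of_forall (fun a ha b hb => hd.ext_dlt fun v => ?_) fun a ha =>
      hd.ext_dlt fun v => ?_
    · rw [hmul a ha b hb, hmul b hb a ha, add_comm]
    · have e : ∀ n : ℕ, dlt W (a ^ n) v = n • dlt W a v := fun n => by
        induction n with
        | zero => simp
        | succ n ih => rw [pow_succ, hmul _ (Q.pow_mem ha n) a ha, ih, succ_nsmul]
      rw [e, hd.exp, dlt_one]
  have hDQ : D ≤ Q := fun a ha => ⟨fun v hv => hv a ha, fun v => hD.dlt_mem hd ha v⟩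
  have hfix : Z ≤ fixA W Q := fun v hv g hg => hg.1 v hv
  have h1 := hd.noOver Q hel
  have h2 : Nat.card Q * Nat.card Z ≤ Nat.card D * Nat.card Z := by
    rw [hD.card_eq]
    exact le_trans (Nat.mul_le_mul_left _ (AddSubgroup.card_le_of_le hfix)) h1
  have hQD : D = Q :=
    Subgroup.eq_of_le_of_card_ge hDQ (Nat.le_of_mul_le_mul_right h2 Nat.card_pos)
  rw [hQD]
  exact ⟨hk, hi⟩

theorem IsRoot.eq_of_fixA (hE : IsRoot W p E) (h : fixA W D = fixA W E) : D = E :=
  le_antisymm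
    (fun g hg => hE.mem_of_axis hd (fun v hv => (h ▸ hv : v ∈ fixA W D) g hg) fun v => h ▸ hD.dlt_mem hd hg v)
    (fun g hg => hD.mem_of_axis hd (fun v hv => (h ▸ hv : v ∈ fixA W E) g hg) fun v => h ▸ hE.dlt_mem hd hg v)

theorem IsRoot.inf_eq_bot (hE : IsRoot W p E) (hne : D ≠ E) : D ⊓ E = ⊥ := by
  rw [eq_bot_iff_forall]
  intro g hg
  by_contra h1
  refine hne (hD.eq_of_fixA hd hE (le_antisymm ?_ ?_))
  · exact fun v hv => hE.mem_fixA_of_single hd hg.2 h1 (hv g hg.1)
  · exact fun v hv => hD.mem_fixA_of_single hd hg.1 h1 (hv g hg.2)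

variable [Fact p.Prime]

/-- Distinct commuting root groups. -/
theorem IsRoot.commute_facts (hE : IsRoot W p E) (hne : D ≠ E) (hc : ∀ a ∈ D, ∀ b ∈ E, a * b = b * a) :
    fixA W D ⊔ fixA W E = ⊤ ∧ Nat.card ↥(D ⊔ E) = Nat.card D * Nat.card E ∧
      Nat.card ↥(D ⊔ E) * Nat.card (fixA W (D ⊔ E)) = Nat.card W ∧
      ∀ a ∈ D, ∀ b ∈ E, ∀ v, dlt W a (dlt W b v) = 0 := by
  have hn : D ≤ normalizer (E : Set H) := fun a ha => centralizer_le_normalizer _ fun b hb => (hc a ha b hb).symm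
  have hcard : Nat.card ↥(D ⊔ E) = Nat.card D * Nat.card E := by
    have := Offender.card_sup_mul_card_inf hn
    rwa [hD.inf_eq_bot hd hE hne, card_bot, mul_one] at this
  have hle := hd.noOver _ (PGroup.isElementaryAbelian_sup hD.hD hE.hD hc)
  have hs := card_sup_mul_inf_add (fixA W D) (fixA W E)
  rw [← fixA_sup] at hs
  have hW : Nat.card W * Nat.card W =
      Nat.card ↥(D ⊔ E) * Nat.card (fixA W (D ⊔ E)) * Nat.card ↥(fixA W D ⊔ fixA W E) := by
    calc Nat.card W * Nat.card W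
        = Nat.card ↥(D ⊔ E) * (Nat.card (fixA W D) * Nat.card (fixA W E)) := by
          conv_lhs => arg 1; rw [← hD.card_eq]
          conv_lhs => arg 2; rw [← hE.card_eq]
          rw [hcard]; ring
      _ = _ := by rw [← hs]; ring
  have hbig : Nat.card W ≤ Nat.card ↥(fixA W D ⊔ fixA W E) := by
    refine Nat.le_of_mul_le_mul_left ?_ (Nat.card_pos (α := W))
    rw [hW]
    exact Nat.mul_le_mul_right _ hle
  have htop : fixA W D ⊔ fixA W E = ⊤ := AddSubgroup.eq_top_of_le_card _ hbig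
  refine ⟨htop, hcard, ?_, fun a ha b hb v => ?_⟩
  · refine Nat.eq_of_mul_eq_mul_right (Nat.card_pos (α := W)) ?_
    rw [hW, htop, AddSubgroup.card_top]
  · obtain ⟨x, hx, y, hy, rfl⟩ := AddSubgroup.mem_sup.mp (htop.ge (AddSubgroup.mem_top v))
    rw [map_add, dlt_eq_zero_iff.mpr (hy b hb), add_zero, dlt_comm (hc a ha b hb),
      dlt_eq_zero_iff.mpr (hx a ha), map_zero]

end Root

theorem isRoot_cj {D : Subgroup H} (hD : IsRoot W p D) (g : H) :
    IsRoot W p (Subnormal.cj g D) := by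
  have hcard : ∀ B : Subgroup H, Nat.card (fixA W (Subnormal.cj g B)) = Nat.card (fixA W B) := fun B => by
    refine (Nat.card_congr ?_).symm
    exact (MulAction.toPerm g).subtypeEquiv fun v => (smul_mem_fixA_cj g).symm
  refine ⟨PGroup.isElementaryAbelian_map hD.hD _, ?_, ?_, fun B hB hB0 hB1 => ?_⟩
  · rw [Ne, Subgroup.map_eq_bot_iff_of_injective _ (MulAut.conj g).injective]
    exact hD.ne
  · rw [Subnormal.card_cj, hcard]
    exact hD.card_eq
  · have e := Subnormal.cj_cj_inv g B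
    have h1 := hD.strict (Subnormal.cj g⁻¹ B)
      (by rw [← Subnormal.cj_inv_cj g D]; exact Subnormal.cj_mono hB)
      (fun e' => hB0 (by rw [← e, e']; exact Subgroup.map_bot _)) (fun e' => hB1 (by rw [← e, e']))
    rwa [Subnormal.card_cj, ← hcard, e] at h1

section Pair

variable [Finite H] [Finite W] [Fact p.Prime]

theorem IsRoot.normalizes_comm (hd : Datum W p H) {D E : Subgroup H} (hD : IsRoot W p D) (hE : IsRoot W p E)
    (hne : D ≠ E) (h1 : D ≤ normalizer (E : Set H)) (h2 : E ≤ normalizer (D : Set H)) :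
    ∀ a ∈ D, ∀ b ∈ E, a * b = b * a := by
  intro a ha b hb
  have hm : a * b * a⁻¹ * b⁻¹ ∈ D ⊓ E := by
    refine ⟨?_, E.mul_mem ((mem_normalizer_iff.mp (h1 ha) b).mp hb) (E.inv_mem hb)⟩
    rw [mul_assoc, mul_assoc]
    refine mul_mem ha ?_
    rw [← mul_assoc]
    exact (mem_normalizer_iff.mp (h2 hb) a⁻¹).mp (inv_mem ha)
  rw [hD.inf_eq_bot hd hE hne, mem_bot, mul_inv_eq_one, mul_inv_eq_iff_eq_mul] at hm
  exact hm

/-- Root groups in a common `p`-group commute. -/
theorem IsRoot.commute_of_pGroup (hd : Datum W p H) {D E P : Subgroup H} (hD : IsRoot W p D)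
    (hE : IsRoot W p E) (hP : IsPGroup p P) (hDP : D ≤ P) (hEP : E ≤ P) :
    ∀ a ∈ D, ∀ b ∈ E, a * b = b * a := by
  suffices ∀ n, ∀ P : Subgroup H, Nat.card P = n → IsPGroup p P → ∀ D E : Subgroup H, IsRoot W p D →
      IsRoot W p E → D ≤ P → E ≤ P → ∀ a ∈ D, ∀ b ∈ E, a * b = b * a from
    this _ P rfl hP D E hD hE hDP hEP
  clear hP hDP hEP hD hE D E P
  intro n
  induction n using Nat.strong_induction_on with
  | _ n ih =>
  intro P hn hP D E hD hE hDP hEP
  by_cases hDE : D = E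
  · subst hDE
    exact fun a ha b hb => PGroup.mul_comm_of_elementaryAbelian hD.hD ha hb
  by_cases hlt : D ⊔ E < P
  · refine ih _ ?_ (D ⊔ E) rfl (hP.to_le hlt.le) D E hD hE le_sup_left le_sup_right
    exact hn ▸ lt_of_le_of_ne (card_le_of_le hlt.le) fun e => hlt.ne (eq_of_le_of_card_ge hlt.le e.ge)
  have hPeq : D ⊔ E = P := (sup_le hDP hEP).eq_of_not_lt hlt
  -- conjugates inside a proper normal subgroup commute
  have key : ∀ A B : Subgroup H, IsRoot W p A → IsRoot W p B → A ⊔ B = P → A ≠ B →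
      ∀ b ∈ B, ∀ x ∈ A, ∀ y ∈ Subnormal.cj b A, x * y = y * x := by
    intro A B hA hB hAB hne b hb
    by_cases hAP : A = P
    · have hbA : b ∈ A := hAP ▸ hAB ▸ mem_sup_right hb
      rw [Subnormal.cj_eq_of_mem hbA]
      exact fun x hx y hy => PGroup.mul_comm_of_elementaryAbelian hA.hD hx hy
    have hAleP : A ≤ P := le_sup_left.trans hAB.le
    obtain ⟨N, hN, hAN, hNn⟩ : ∃ N < P, A ≤ N ∧ P ≤ normalizer (N : Set H) := by
      obtain ⟨N, ⟨hAN, hN⟩, hmax⟩ := (Set.toFinite {N : Subgroup H | A ≤ N ∧ N < P}).exists_maximal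
        ⟨A, le_rfl, lt_of_le_of_ne hAleP hAP⟩
      refine ⟨N, hN, hAN, ?_⟩
      have h1 := lt_inf_normalizer hP hN
      by_contra hcon
      exact h1.not_ge (hmax (y := P ⊓ normalizer (N : Set H))
        ⟨hAN.trans h1.le, lt_of_le_of_ne inf_le_left fun e => hcon (inf_eq_left.mp e)⟩ h1.le)
    refine ih _ ?_ N rfl (hP.to_le hN.le) A (Subnormal.cj b A) hA (isRoot_cj hA b) hAN ?_
    · exact hn ▸ lt_of_le_of_ne (card_le_of_le hN.le) fun e => hN.ne (eq_of_le_of_card_ge hN.le e.ge)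
    · exact (Subnormal.cj_mono hAN).trans
        (Subnormal.cj_eq_of_mem_normalizer (hNn (hAB ▸ mem_sup_right hb))).le
  -- if `D` moves under `b`, the fixed points give `dlt b W ≤ fixA E + ...`
  have split : ∀ A B : Subgroup H, IsRoot W p A → IsRoot W p B → A ⊔ B = P → A ≠ B →
      ∀ b ∈ B, b ∉ normalizer (A : Set H) → ∀ w : W, ∃ x ∈ fixA W A, ∃ y ∈ fixA W A,
        w = x + dlt W b y := by
    intro A B hA hB hAB hne b hb hbn w
    have hne' : A ≠ Subnormal.cj b A := fun e => hbn (mem_normalizer_of_cj_le e.ge)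
    obtain ⟨htop, -⟩ := hA.commute_facts hd (isRoot_cj hA b) hne' (key A B hA hB hAB hne b hb)
    obtain ⟨x, hx, y, hy, rfl⟩ := AddSubgroup.mem_sup.mp (htop.ge (AddSubgroup.mem_top w))
    have hy' : b⁻¹ • y ∈ fixA W A := (smul_mem_fixA_cj b).mp (by rwa [smul_inv_smul])
    refine ⟨x + b⁻¹ • y, add_mem hx hy', b⁻¹ • y, hy', ?_⟩
    rw [dlt_apply, smul_inv_smul]
    abel
  -- one of them normalises the other
  have norm : ∀ A B : Subgroup H, IsRoot W p A → IsRoot W p B → A ⊔ B = P → A ≠ B →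
      B ≤ normalizer (A : Set H) → A ≤ normalizer (B : Set H) := by
    intro A B hA hB hAB hne hBA a ha
    by_contra hna
    -- `A` is normal, `B` moves under `a`
    set C := Subnormal.cj a B with hC
    have hBC : B ≠ C := fun e => hna (mem_normalizer_of_cj_le e.ge)
    have hcBC := key B A hB hA (by rwa [sup_comm]) hne.symm a ha
    obtain ⟨htop, hcard, hfixBC, -⟩ := hB.commute_facts hd (isRoot_cj hB a) hBC hcBC
    set A₀ := A ⊓ centralizer (B : Set H) with hA₀
    have hA₀B : ∀ x ∈ A₀, ∀ y ∈ B, x * y = y * x := fun x hx y hy => (hx.2 y hy).symm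
    have hel : Cfsg.IsElementaryAbelian p (A₀ ⊔ B) :=
      PGroup.isElementaryAbelian_sup (PGroup.isElementaryAbelian_mono hA.hD inf_le_left) hB.hD hA₀B
    have hdiv : ∀ y ∈ B, a * y * a⁻¹ * y⁻¹ ∈ A₀ := by
      intro y hy
      refine ⟨?_, fun z hz => ?_⟩
      · rw [mul_assoc, mul_assoc]
        refine mul_mem ha ?_
        rw [← mul_assoc]
        exact (mem_normalizer_iff.mp (hBA hy) a⁻¹).mp (inv_mem ha)
      · have c1 : Commute z (a * y * a⁻¹) := hcBC z hz _ (Subnormal.conj_mem_cj hy)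
        have c2 : Commute z y⁻¹ := (show Commute z y from
          PGroup.mul_comm_of_elementaryAbelian hB.hD hz hy).inv_right
        exact (c1.mul_right c2).eq
    have hCle : C ≤ A₀ ⊔ B := by
      rintro _ ⟨y, hy, rfl⟩
      have := mul_mem (mem_sup_left (hdiv y hy) : _ ∈ A₀ ⊔ B) (mem_sup_right hy : y ∈ A₀ ⊔ B)
      simpa using this
    -- some nontrivial element of `A₀`
    obtain ⟨y, hy, hy1⟩ : ∃ y ∈ B, a * y * a⁻¹ * y⁻¹ ≠ 1 := by
      by_contra hcon
      push Not at hcon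
      refine hna (mem_normalizer_of_cj_le ?_)
      rintro _ ⟨y, hy, rfl⟩
      have := mul_inv_eq_one.mp (hcon y hy)
      simpa [this] using hy
    have hfix : fixA W (B ⊔ C) = fixA W A ⊓ fixA W B := by
      refine le_antisymm (le_inf (fun v hv => ?_) (fixA_anti le_sup_left)) ?_
      · refine hA.mem_fixA_of_single hd (hdiv y hy).1 hy1 ?_
        have h1 : a * y * a⁻¹ * y⁻¹ ∈ B ⊔ C :=
          mul_mem (mem_sup_right (Subnormal.conj_mem_cj hy)) (mem_sup_left (inv_mem hy))
        exact hv _ h1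
      · rw [← fixA_sup]
        exact fixA_anti (sup_le le_sup_right (hCle.trans (sup_le_sup_right inf_le_left _)))
    -- `W` is the sum of the two fixed point groups
    have hsum : fixA W A ⊔ fixA W B = ⊤ := by
      refine eq_top_iff.mpr fun w _ => ?_
      obtain ⟨x, hx, z, -, rfl⟩ := split B A hB hA (by rwa [sup_comm]) hne.symm a ha hna w
      exact add_mem (AddSubgroup.mem_sup_right hx) (AddSubgroup.mem_sup_left (hA.dlt_mem hd ha z))
    -- cardinalities
    have h3 := card_sup_mul_inf_add (fixA W A) (fixA W B)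
    rw [hsum, AddSubgroup.card_top, ← hfix] at h3
    have hcC : Nat.card C = Nat.card B := Subnormal.card_cj a B
    rw [hcard, hcC] at hfixBC
    have hAB' : Nat.card A = Nat.card B := by
      refine Nat.eq_of_mul_eq_mul_right (Nat.mul_pos (Nat.card_pos (α := fixA W A))
        (Nat.card_pos (α := fixA W B))) ?_
      calc Nat.card A * (Nat.card (fixA W A) * Nat.card (fixA W B))
          = Nat.card W * Nat.card (fixA W B) := by rw [← hA.card_eq]; ring
        _ = Nat.card B * Nat.card B * Nat.card (fixA W (B ⊔ C)) * Nat.card (fixA W B) := by rw [hfixBC]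
        _ = Nat.card B * (Nat.card B * Nat.card (fixA W B)) * Nat.card (fixA W (B ⊔ C)) := by ring
        _ = Nat.card B * (Nat.card W * Nat.card (fixA W (B ⊔ C))) := by rw [hB.card_eq]; ring
        _ = _ := by rw [h3]
    have hc0 : A₀ ⊓ B = ⊥ :=
      le_bot_iff.mp ((inf_le_inf_right _ inf_le_left).trans (hA.inf_eq_bot hd hB hne).le)
    have hn0 : A₀ ≤ normalizer (B : Set H) := inf_le_right.trans (centralizer_le_normalizer _)
    have hc1 := Offender.card_sup_mul_card_inf hn0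
    rw [hc0, card_bot, mul_one] at hc1
    have hge : Nat.card B * Nat.card B ≤ Nat.card A₀ * Nat.card B := by
      rw [← hc1]
      have h4 := card_le_of_le (sup_le le_sup_right hCle : B ⊔ C ≤ A₀ ⊔ B)
      rwa [hcard, hcC] at h4
    have hA₀eq : A₀ = A := eq_of_le_of_card_ge inf_le_left
      (hAB' ▸ Nat.le_of_mul_le_mul_right hge Nat.card_pos)
    refine hna (mem_normalizer_of_cj_le ?_)
    rintro _ ⟨z, hz, rfl⟩
    have := (hA₀eq.ge ha).2 z hz
    simpa [← this] using hz
  by_cases hED : E ≤ normalizer (D : Set H)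
  · exact hD.normalizes_comm hd hE hDE (norm D E hD hE hPeq hDE hED) hED
  by_cases hDE' : D ≤ normalizer (E : Set H)
  · exact hD.normalizes_comm hd hE hDE hDE' (norm E D hE hD (by rwa [sup_comm]) (Ne.symm hDE) hDE')
  exfalso
  obtain ⟨b, hb, hbn⟩ := SetLike.not_le_iff_exists.mp hED
  obtain ⟨a, ha, han⟩ := SetLike.not_le_iff_exists.mp hDE'
  obtain ⟨c, hc⟩ : ∃ c, c = a * b * a⁻¹ := ⟨_, rfl⟩
  have hbc : Commute b c := key E D hE hD (by rwa [sup_comm]) (Ne.symm hDE) a ha b hb c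
    (hc ▸ Subnormal.conj_mem_cj hb)
  have hEne : E ≠ Subnormal.cj a E := fun e => han (mem_normalizer_of_cj_le e.ge)
  obtain ⟨-, -, -, hbc0⟩ := hE.commute_facts hd (isRoot_cj hE a) hEne
    (key E D hE hD (by rwa [sup_comm]) (Ne.symm hDE) a ha)
  have hzero : ∀ v, dlt W b (dlt W a (dlt W b v)) = 0 := fun v => by
    have h := hbc0 b hb c (hc ▸ Subnormal.conj_mem_cj hb) (a • v)
    rw [hc, dlt_conj, inv_smul_smul, smul_eq, map_add,
      dlt_eq_zero_iff.mpr (hE.dlt_mem hd hb v b hb), zero_add] at h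
    exact h
  refine hbn (?_ : b ∈ normalizer (D : Set H))
  have hb0 : ∀ v, dlt W b v = 0 := fun v => by
    obtain ⟨x, hx, y, -, rfl⟩ := split E D hE hD (by rwa [sup_comm]) (Ne.symm hDE) a ha han v
    rw [map_add, dlt_eq_zero_iff.mpr (hx b hb), zero_add]
    obtain ⟨x', hx', y', -, rfl⟩ := split D E hD hE hPeq hDE b hb hbn y
    rw [map_add, dlt_eq_zero_iff.mpr (hx' a ha), zero_add, hzero]
  rw [hd.ext_dlt (g := b) (h := 1) fun v => (hb0 v).trans (dlt_one v).symm]
  exact one_mem _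

/-- If `E` moves `W` into the fixed points of `F` then they commute. -/
theorem IsRoot.commute_of_image (hd : Datum W p H) {E F : Subgroup H} (hE : IsRoot W p E)
    (hF : IsRoot W p F) (hi : ∀ g ∈ F, ∀ v, dlt W g v ∈ fixA W E) :
    ∀ a ∈ E, ∀ b ∈ F, a * b = b * a := by
  refine hE.commute_of_pGroup hd hF ?_ le_sup_left le_sup_right
  refine isPGroup_of_chain hd (S := (E : Set H) ∪ F) (U₁ := fixA W E) (U₂ := fixA W E ⊓ fixA W F)
    (by rw [Subgroup.closure_union, Subgroup.closure_eq, Subgroup.closure_eq]) inf_le_left ?_ ?_ ?_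
  · rintro g (hg | hg) v
    · exact hE.dlt_mem hd hg v
    · exact hi g hg v
  · rintro g (hg | hg) v hv
    · rw [dlt_eq_zero_iff.mpr (hv g hg)]; exact zero_mem _
    · exact ⟨hi g hg v, hF.dlt_mem hd hg v⟩
  · rintro g (hg | hg) v hv
    · exact dlt_eq_zero_iff.mpr (hv.1 g hg)
    · exact dlt_eq_zero_iff.mpr (hv.2 g hg)

end Pair

end Cfsg.Agent.PMinFF
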