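import Cfsg.Agent.Lib.PMinFF.Glue

/-!
# The faithful statement (S3000), given the linear theorem
-/

set_option autoImplicit false

namespace Cfsg.Agent.PMinFF

open Subgroup Subnormal

universe u

theorem faithful_of_hasDecomp {G : Type u} [Group G] [Finite G] {p : ℕ} [Fact p.Prime]
    (hdec : HasDecomp.{u} p) (V P : Subgroup G) (hV : Cfsg.IsElementaryAbelian p V)
    (hPV : P ≤ Subgroup.normalizer (V : Set G)) (hfaith : P ⊓ Subgroup.centralizer (V : Set G) = ⊥)
    (hmin : Cfsg.IsPMinimal p ↥P) (T : Sylow p ↥P) (M : Subgroup ↥P) (hM : IsCoatom M)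
    (hTM : (T : Subgroup ↥P) ≤ M) (hOp : Cfsg.pCore p ↥P = ⊥)
    (hoff : ∃ A : Subgroup G, A ≤ P ∧ ¬ A ≤ Subgroup.centralizer (V : Set G) ∧ Cfsg.IsBestOffenderOn p V A)
    (hCT : P ⊓ Subgroup.centralizer ((V ⊓ Subgroup.centralizer
      ((((T : Subgroup ↥P).map P.subtype) : Subgroup G) : Set G)) : Set G) ≤ M.map P.subtype) :
    ∃ (r : ℕ) (E : Fin r → Subgroup G), 1 ≤ r ∧ (∀ i, E i ≤ P) ∧ (∀ i j, i ≠ j → ⁅E i, E j⁆ = ⊥) ∧
      (∀ i, E i ⊓ (⨆ j ∈ {j | j ≠ i}, E j) = ⊥) ∧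
      (⨆ i, E i) ⊔ ((T : Subgroup ↥P).map P.subtype) = P ∧
      (∀ i j, ∃ t ∈ ((T : Subgroup ↥P).map P.subtype), (E i).map (MulAut.conj t).toMonoidHom = E j) ∧
      (V ⊓ Subgroup.centralizer (((⨆ i, E i) : Subgroup G) : Set G)) ⊔ (⨆ i, ⁅V, E i⁆) = V ∧
      (∀ i j, i ≠ j → ⁅⁅V, E i⁆, E j⁆ = ⊥) ∧
      ∀ i, ∃ n : ℕ, 1 ≤ n ∧ ((∃ (F : Type) (_ : Field F) (_ : Fintype F), Fintype.card F = p ^ n ∧
          Nonempty (↥(E i) ≃* Matrix.SpecialLinearGroup (Fin 2) F) ∧
          Cfsg.ActsAsSL2OnSection F ⊤ (E i) ⁅V, E i⁆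
            (⁅V, E i⁆ ⊓ Subgroup.centralizer ((E i : Subgroup G) : Set G))) ∨
        (p = 2 ∧ Nonempty (↥(E i) ≃* Equiv.Perm (Fin (2 ^ n + 1))) ∧
          Cfsg.ActsAsOddPermModuleOnSection (2 ^ n + 1) ⊤ (E i) ⁅V, E i⁆
            (⁅V, E i⁆ ⊓ Subgroup.centralizer ((E i : Subgroup G) : Set G)))) := by
  have hcfg : Cfg p V P ((T : Subgroup ↥P).map P.subtype) (M.map P.subtype) :=
    { hV := hV
      hXV := hPV
      hTX := map_subtype_le _
      hT := T.2.map _
      hTi := by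
        rw [relIndex, ← comap_subtype, comap_map_eq_self_of_injective P.subtype_injective]
        exact T.not_dvd_index
      hMX := lt_of_le_of_ne (map_subtype_le M) fun e => hM.1 (map_injective P.subtype_injective
        (e.trans (by rw [← MonoidHom.range_eq_map, P.range_subtype])))
      hTM := map_mono hTM
      huniq := fun H hH hTH => by
        obtain h | ⟨N, hN, hle⟩ := eq_top_or_exists_le_coatom (H.subgroupOf P)
        · exact absurd (subgroupOf_eq_top.mp h) hH.not_ge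
        have hTN : (T : Subgroup ↥P) ≤ N := fun t ht => hle (hTH ⟨t, ht, rfl⟩)
        obtain rfl : N = M := (hmin T).2.unique ⟨hN, hTN⟩ ⟨hM, hTM⟩
        exact fun x hx => ⟨⟨x, hH.le hx⟩, hle hx, rfl⟩
      moved := fun hle => hM.1 (map_injective P.subtype_injective
        ((le_antisymm (map_subtype_le M) ((le_inf le_rfl hle).trans hCT)).trans
          (by rw [← MonoidHom.range_eq_map, P.range_subtype])))
      pker := fun J hJ hJp hJn => by
        have hn : (J.subgroupOf P).Normal := (normal_subgroupOf_iff_le_normalizer hJ).mpr hJn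
        have h1 := PCore.le_pCore (hN := hn) (hJp.comap_of_injective _ P.subtype_injective)
        rw [hOp, le_bot_iff] at h1
        rw [← map_subgroupOf_eq_of_le hJ, h1, Subgroup.map_bot]
        exact bot_le }
  obtain ⟨A, hAP, hAV, hA⟩ := hoff
  have hAc : A ⊓ centralizer (V : Set G) = ⊥ := le_bot_iff.mp ((inf_le_inf_right _ hAP).trans hfaith.le)
  have helem : Cfsg.IsElementaryAbelian p A := by
    refine ⟨PGroup.isMulCommutative_of_forall fun a ha b hb => commutatorElement_eq_one_iff_mul_comm.mp ?_,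
      fun a ha => Subgroup.mem_bot.mp (hAc.le ⟨pow_mem ha p, hA.2.2 a ha⟩)⟩
    exact Subgroup.mem_bot.mp (hAc.le ⟨A.mul_mem (A.mul_mem (A.mul_mem ha hb) (A.inv_mem ha)) (A.inv_mem hb),
      hA.2.1 (Subgroup.commutator_mem_commutator ha hb)⟩)
  have hle : Nat.card V ≤ Nat.card A * Nat.card (fx V A) := by
    have := hA.1 ⊥ bot_le
    rwa [card_bot, one_mul, show V ⊓ centralizer ((⊥ : Subgroup G) : Set G) = V from fx_bot V] at this
  obtain ⟨d⟩ := exists_gDecomp hdec hcfg hfaith hAP helem (fun e => hAV (by rw [e]; exact bot_le)) hle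
  exact ⟨d.r, d.E, d.pos, d.le, d.comm, d.disj, d.sup_T, d.trans, d.decomp, d.mixed, d.shape⟩

end Cfsg.Agent.PMinFF
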