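import Cfsg.Agent.Lib.PMinFF.Commute
import Cfsg.Agent.Lib.PMinFF.Shape
import Mathlib.FieldTheory.Perfect

/-!
# Elements centralizing a root group and acting trivially on its series

`inner W D`: centralizers of `D` trivial on `W / C_W(D)` and on `C_W(D) / [W, D]`, a `p`-group. Modulo `D` it
commutes with the torus (`Split.inner_comm_mem`), so an element of order prime to `p` inducing the same as a
torus element is a `D`-conjugate of it (`Split.exists_conj_tor`).
-/

set_option autoImplicit false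

namespace Cfsg.Agent.PMinFF

open Subgroup Subnormal
open scoped Matrix

variable {H : Type*} [Group H] {W : Type*} [AddCommGroup W] [DistribMulAction H W] {p : ℕ}
  {D : Subgroup H}

/-- An additive map commuting with the scalars modulo scalars is linear. -/
theorem linear_of_comm_mod_scalar {F : Type*} [Field F] [Finite F] [Fact p.Prime] [CharP F p] (f : F →+ F)
    (h : ∀ l : F, ∃ k : F, ∀ x, f (l * x) - l * f x = k * x) (x : F) : f x = f 1 * x := by
  obtain ⟨r, rfl⟩ := (frobeniusEquiv F p).surjective x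
  obtain ⟨k, hk⟩ := h r
  have key : ∀ n : ℕ, ∀ y, f (r ^ (n + 1) * y) = r ^ (n + 1) * f y + (n + 1 : ℕ) * r ^ n * k * y := by
    intro n
    induction n with
    | zero => intro y; simp only [zero_add, pow_one, pow_zero, Nat.cast_one, one_mul]; linear_combination hk y
    | succ n ih =>
      intro y
      rw [pow_succ r (n + 1), mul_assoc, ih]
      push_cast
      linear_combination r ^ (n + 1) * hk y
  have hp : p ≠ 0 := (Fact.out : p.Prime).ne_zero
  obtain ⟨m, rfl⟩ : ∃ m, p = m + 1 := ⟨p - 1, by omega⟩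
  have h1 := key m 1
  rw [CharP.cast_eq_zero F (m + 1), zero_mul, zero_mul, zero_mul, add_zero, mul_one] at h1
  rw [frobeniusEquiv_apply, frobenius_def, h1, mul_comm]

variable (W) in
/-- The `[W, D]`-preserving condition. -/
theorem smul_mem_fixA_of_normalizer {g : H} (hg : g ∈ normalizer (D : Set H)) {v : W}
    (hv : v ∈ fixA W D) : g • v ∈ fixA W D := by
  have h := (smul_mem_fixA_cj g).mpr hv
  rwa [cj_eq_of_mem_normalizer hg] at h

theorem dlt_mem_img {g : H} (hg : g ∈ D) (v : W) : dlt W g v ∈ img W D :=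
  AddSubgroup.subset_closure ⟨g, hg, v, rfl⟩

theorem smul_mem_img {g : H} (hg : g ∈ normalizer (D : Set H)) {v : W} (hv : v ∈ img W D) :
    g • v ∈ img W D := by
  have hle : img W D ≤ (img W D).comap (DistribSMul.toAddMonoidHom W g) := by
    refine (AddSubgroup.closure_le _).mpr ?_
    rintro _ ⟨d, hd, w, rfl⟩
    show g • dlt W d w ∈ img W D
    rw [show g • dlt W d w = dlt W (g * d * g⁻¹) (g • w) by rw [dlt_conj, inv_smul_smul]]
    exact dlt_mem_img ((mem_normalizer_iff.mp hg d).mp hd) _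
  exact hle hv

variable (W D) in
/-- Centralizers of `D` trivial on the factors of `W ≥ C_W(D) ≥ [W, D]`. -/
def inner [Finite H] : Subgroup H where
  carrier := {g | g ∈ centralizer (D : Set H) ∧ (∀ v : W, dlt W g v ∈ fixA W D) ∧
    ∀ v ∈ fixA W D, dlt W g v ∈ img W D}
  one_mem' := ⟨one_mem _, fun v => by rw [dlt_one]; exact zero_mem _,
    fun v _ => by rw [dlt_one]; exact zero_mem _⟩
  mul_mem' := fun {g h} hg hh => by
    have hn := centralizer_le_normalizer (D : Set H) hg.1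
    refine ⟨mul_mem hg.1 hh.1, fun v => ?_, fun v hv => ?_⟩
    · rw [dlt_mul, dlt_apply g (dlt W h v)]
      exact add_mem (add_mem (hg.2.1 v) (hh.2.1 v))
        (sub_mem (smul_mem_fixA_of_normalizer W hn (hh.2.1 v)) (hh.2.1 v))
    · rw [dlt_mul, dlt_apply g (dlt W h v)]
      exact add_mem (add_mem (hg.2.2 v hv) (hh.2.2 v hv))
        (sub_mem (smul_mem_img hn (hh.2.2 v hv)) (hh.2.2 v hv))
  inv_mem' := fun {g} hg => by
    have hn : g⁻¹ ∈ normalizer (D : Set H) := inv_mem (centralizer_le_normalizer (D : Set H) hg.1)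
    have e : ∀ v, dlt W g⁻¹ v = -(g⁻¹ • dlt W g v) := fun v => by
      rw [dlt_apply, dlt_apply, smul_sub, inv_smul_smul, neg_sub]
    refine ⟨inv_mem hg.1, fun v => ?_, fun v hv => ?_⟩
    · rw [e]; exact neg_mem (smul_mem_fixA_of_normalizer W hn (hg.2.1 v))
    · rw [e]; exact neg_mem (smul_mem_img hn (hg.2.2 v hv))

theorem mem_inner_iff [Finite H] {g : H} :
    g ∈ inner W D ↔ g ∈ centralizer (D : Set H) ∧ (∀ v : W, dlt W g v ∈ fixA W D) ∧
      ∀ v ∈ fixA W D, dlt W g v ∈ img W D := Iff.rfl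

theorem conj_mem_inner [Finite H] {g n : H} (hg : g ∈ normalizer (D : Set H)) (hn : n ∈ inner W D) :
    g * n * g⁻¹ ∈ inner W D := by
  refine ⟨fun d hd => ?_, fun v => ?_, fun v hv => ?_⟩
  · have h1 := hn.1 _ ((mem_normalizer_iff''.mp hg d).mp hd)
    calc d * (g * n * g⁻¹) = g * (g⁻¹ * d * g * n) * g⁻¹ := by group
      _ = g * (n * (g⁻¹ * d * g)) * g⁻¹ := by rw [h1]
      _ = g * n * g⁻¹ * d := by group
  · rw [dlt_conj]; exact smul_mem_fixA_of_normalizer W hg (hn.2.1 _)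
  · rw [dlt_conj]
    exact smul_mem_img hg (hn.2.2 _ (smul_mem_fixA_of_normalizer W (inv_mem hg) hv))

theorem IsRoot.mem_inner [Finite H] [Finite W] (hd : Datum W p H) (hD : IsRoot W p D) {g : H} (hg : g ∈ D) :
    g ∈ inner W D :=
  ⟨fun _ hx => PGroup.mul_comm_of_elementaryAbelian hD.hD hx hg, fun v => hD.dlt_mem hd hg v,
    fun v _ => dlt_mem_img hg v⟩

namespace Split

variable {c : Coord W D} (s : Split c)

/-- The torus as a homomorphism. -/
def _root_.Cfsg.Agent.PMinFF.Coord.torHom (c : Coord W D) : c.Fˣ →* H :=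
  MonoidHom.mk' c.tor c.tor_mul

theorem tor_pow_eq_one (μ : c.Fˣ) : c.tor μ ^ (Nat.card D - 1) = 1 := by
  classical
  rw [← c.cardF, ← Fintype.card_units]
  show c.torHom μ ^ _ = 1
  rw [← map_pow, pow_card_eq_one, map_one]

theorem eq_zero_of_fix {ν : c.Fˣ} (hν : ν ≠ 1) {v : W} (hv : c.tor ν • v = v) : v ∈ fixA W c.L := by
  refine (c.ker v).mp ?_
  have h := c.psi_tor ν v
  rw [hv] at h
  have h0 := congrFun h 0
  have h1 := congrFun h 1
  simp only [Matrix.cons_val_zero, Matrix.cons_val_one] at h0 h1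
  have e : (ν : c.F) - 1 ≠ 0 := sub_ne_zero.mpr fun e => hν (Units.ext e)
  have e' : ((ν⁻¹ : c.Fˣ) : c.F) - 1 ≠ 0 := sub_ne_zero.mpr fun e => hν (inv_eq_one.mp (Units.ext e))
  funext i
  fin_cases i
  · exact (mul_eq_zero.mp (show ((ν : c.F) - 1) * c.ψ v 0 = 0 by rw [sub_mul, one_mul, ← h0, sub_self])).resolve_left e
  · exact (mul_eq_zero.mp (show (((ν⁻¹ : c.Fˣ) : c.F) - 1) * c.ψ v 1 = 0 by
      rw [sub_mul, one_mul, ← h1, sub_self])).resolve_left e'

theorem dlt_tor (ν : c.Fˣ) (v : W) : dlt W (c.tor ν) v =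
    s.sy (((ν : c.F) - 1) * c.ψ v 0) + s.sx ((((ν⁻¹ : c.Fˣ) : c.F) - 1) * c.ψ v 1) := by
  obtain ⟨z, hz, e⟩ := s.exists_eq v
  conv_lhs => rw [e, map_add, map_add, dlt_eq_zero_iff.mpr (hz _ (c.tor_mem_L ν)), add_zero,
    dlt_apply, dlt_apply, s.tor_sy, s.tor_sx]
  rw [sub_mul, sub_mul, one_mul, one_mul, map_sub, map_sub]

variable [Finite W] (hD : IsRoot W p D)
include hD

omit s in
theorem tor_mem_normalizer [Finite H] (μ : c.Fˣ) : c.tor μ ∈ normalizer (D : Set H) :=
  mem_normalizer_of_cj_le (by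
    rintro _ ⟨d, hd', rfl⟩
    obtain ⟨t, rfl⟩ := c.exists_u hd'
    show c.tor μ * c.u t * (c.tor μ)⁻¹ ∈ D
    rw [c.tor_conj_u]
    exact c.u_mem _)

theorem sy_mem_img (a : c.F) : s.sy a ∈ img W D :=
  (s.sy_θ_mem hD (K := img W D) fun t v => dlt_mem_img (c.u_mem t) v).1 a

theorem θ_mem_img (t x : c.F) : s.θ t x ∈ img W D :=
  (s.sy_θ_mem hD (K := img W D) fun t v => dlt_mem_img (c.u_mem t) v).2 t x

omit s in
theorem psi_eq_of_fixA {g : H} {v : W} (h : dlt W g v ∈ fixA W D) : c.ψ (g • v) 1 = c.ψ v 1 := by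
  rw [smul_eq, map_add, Pi.add_apply, (c.mem_fixA_iff hD _).mp h, add_zero]

include s in
theorem inner_smul_img [Finite H] {n : H} (hn : n ∈ inner W D) {v : W} (hv : v ∈ img W D) : n • v = v := by
  have hle : img W D ≤ (dlt W n).ker := by
    refine (AddSubgroup.closure_le _).mpr ?_
    rintro _ ⟨d, hd', w, rfl⟩
    obtain ⟨t, rfl⟩ := c.exists_u hd'
    show dlt W n (dlt W (c.u t) w) = 0
    rw [dlt_comm ((hn.1 _ hd').symm), s.dlt_u hD, (c.mem_fixA_iff hD _).mp (hn.2.1 w), mul_zero, map_zero,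
      s.θ_zero_right, add_zero]
  exact dlt_eq_zero_iff.mp (hle hv)

theorem inner_smul_sy [Finite H] {n : H} (hn : n ∈ inner W D) (a : c.F) : n • s.sy a = s.sy a :=
  s.inner_smul_img hD hn (s.sy_mem_img hD a)

theorem inner_smul_θ [Finite H] {n : H} (hn : n ∈ inner W D) (t x : c.F) : n • s.θ t x = s.θ t x :=
  s.inner_smul_img hD hn (s.θ_mem_img hD t x)

include s in
omit hD in
theorem isPGroup_inner [Finite H] [Fact p.Prime] (hd : Datum W p H) (hD : IsRoot W p D) :
    IsPGroup p (inner W D) := by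
  refine isPGroup_of_chain hd (S := (inner W D : Set H)) (U₁ := fixA W D) (U₂ := img W D)
    (Subgroup.closure_eq _).ge ?_ (fun g hg => hg.2.1) (fun g hg => hg.2.2)
    (fun g hg v hv => dlt_eq_zero_iff.mpr (s.inner_smul_img hD hg hv))
  refine (AddSubgroup.closure_le _).mpr ?_
  rintro _ ⟨d, hd', w, rfl⟩
  exact hD.dlt_mem hd hd' w

variable [Finite H] [Fact p.Prime] (hd : Datum W p H)
include hd

include s in
/-- The opposite version of the commuting lemma. -/
theorem centralizes_opp {E : Subgroup H} (hE : IsRoot W p E) (hne : E ≠ c.opp)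
    (hc : ∀ a ∈ c.opp, ∀ b ∈ E, a * b = b * a) : ∀ g ∈ c.L, ∀ f ∈ E, g * f = f * g := by
  have h1 := s.centralizes hd hD (isRoot_cj hE c.wy⁻¹)
    (fun e => hne ((cj_cj_inv c.wy E).symm.trans (congrArg (cj c.wy) e)))
    (fun a ha b hb => by
      obtain ⟨f, hf, rfl⟩ := hb
      have := hc _ (conj_mem_cj (g := c.wy) ha) f hf
      show a * (c.wy⁻¹ * f * (c.wy⁻¹)⁻¹) = c.wy⁻¹ * f * (c.wy⁻¹)⁻¹ * a
      calc a * (c.wy⁻¹ * f * (c.wy⁻¹)⁻¹) = c.wy⁻¹ * (c.wy * a * c.wy⁻¹ * f) * c.wy := by group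
        _ = c.wy⁻¹ * (f * (c.wy * a * c.wy⁻¹)) * c.wy := by rw [this]
        _ = _ := by group)
  intro g hg f hf
  have h2 : c.wy⁻¹ * g * c.wy ∈ c.L := mul_mem (mul_mem (inv_mem c.wy_mem_L) hg) c.wy_mem_L
  have h3 := h1 _ h2 _ (conj_mem_cj (g := c.wy⁻¹) hf)
  rw [inv_inv] at h3
  calc g * f = c.wy * (c.wy⁻¹ * g * c.wy * (c.wy⁻¹ * f * c.wy)) * c.wy⁻¹ := by group
    _ = c.wy * (c.wy⁻¹ * f * c.wy * (c.wy⁻¹ * g * c.wy)) * c.wy⁻¹ := by rw [h3]
    _ = _ := by group

/-- A root group moving `W` into the fixed points of the opposite root group, and moving some `sy a`, is the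
opposite root group. -/
theorem eq_opp_of_image {E : Subgroup H} (hE : IsRoot W p E) (hi : ∀ g ∈ E, ∀ v, c.ψ (dlt W g v) 0 = 0)
    (hne : ∃ a, s.sy a ∉ fixA W E) : E = c.opp := by
  by_contra hne'
  have hopp : IsRoot W p c.opp := isRoot_cj hD _
  have hc := hopp.commute_of_image hd hE fun g hg v => (c.mem_fixA_opp_iff hD _).mpr (hi g hg v)
  have hL := s.centralizes_opp hD hd hE hne' hc
  obtain ⟨a, ha⟩ := hne
  have hED : E ≠ D := by
    rintro rfl
    have h1 : c.opp ≤ E := by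
      rintro _ ⟨d, hd', rfl⟩
      show c.wy * d * c.wy⁻¹ ∈ E
      rw [hL _ c.wy_mem_L d hd', mul_inv_cancel_right]
      exact hd'
    exact hne' (eq_of_le_of_card_ge h1 (card_cj _ _).ge).symm
  exact ha ((s.fix_of_commute hd hD hE hED fun x hx y hy => hL x (c.le hx) y hy).1 a)

/-- An element of `inner` without part in `[W, D] ∩ C_W(L)` lies in `D`. -/
theorem inner_mem_of_range {n : H} (hn : n ∈ inner W D)
    (hb : ∀ z ∈ fixA W c.L, dlt W n z ∈ s.sy.range) : n ∈ D := by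
  have := c.charP hd
  let Q : c.F →+ c.F := (Pi.evalAddMonoidHom (fun _ : Fin 2 => c.F) 0).comp
    (c.ψ.comp ((dlt W n).comp s.sx))
  let a : c.F →+ W := ((dlt W n).comp s.sx) - s.sy.comp Q
  let b : W →+ c.F := (Pi.evalAddMonoidHom (fun _ : Fin 2 => c.F) 0).comp (c.ψ.comp (dlt W n))
  have ha : ∀ x, a x ∈ fixA W c.L := fun x => (c.ker _).mp (by
    show c.ψ (dlt W n (s.sx x) - s.sy (Q x)) = 0
    rw [map_sub, s.psi_sy]
    funext i
    fin_cases i
    · exact sub_self _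
    · show c.ψ (dlt W n (s.sx x)) 1 - 0 = 0
      rw [(c.mem_fixA_iff hD _).mp (hn.2.1 _), sub_zero])
  have hdx : ∀ x, dlt W n (s.sx x) = s.sy (Q x) + a x := fun x => (add_sub_cancel _ _).symm
  have hdz : ∀ z ∈ fixA W c.L, dlt W n z = s.sy (b z) := fun z hz => by
    obtain ⟨y, hy⟩ := hb z hz
    show _ = s.sy (c.ψ (dlt W n z) 0)
    rw [← hy, s.psi_sy]
    rfl
  -- the torus conjugates
  have hfam : ∀ l : c.F, ∃ m ∈ inner W D, (∀ z ∈ fixA W c.L, dlt W m z = s.sy (l * b z)) ∧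
      ∀ x, dlt W m (s.sx x) = s.sy (l * Q (l * x)) + a (l * x) := by
    intro l
    by_cases hl : l = 0
    · subst hl
      refine ⟨1, one_mem _, fun z _ => by rw [dlt_one, zero_mul, map_zero], fun x => ?_⟩
      rw [dlt_one, zero_mul, zero_mul, map_zero, map_zero, add_zero]
    · set μ := Units.mk0 l hl
      refine ⟨c.tor μ * n * (c.tor μ)⁻¹, conj_mem_inner (tor_mem_normalizer hD μ) hn, fun z hz => ?_,
        fun x => ?_⟩
      · rw [dlt_conj, show (c.tor μ)⁻¹ • z = z from hz _ (inv_mem (c.tor_mem_L μ)), hdz z hz, s.tor_sy]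
        rfl
      · rw [dlt_conj, ← c.tor_inv, s.tor_sx, inv_inv, hdx, smul_add, s.tor_sy, ha _ _ (c.tor_mem_L μ)]
        rfl
  choose m hm hmz hmx using hfam
  let κ : c.F →+ c.F := b.comp a
  -- comparing products with sums
  have hE : ∀ l k : c.F, ∃ t, ∀ x, l * κ (k * x) - l * Q (k * x) - k * Q (l * x) = t * x := by
    intro l k
    set g := (m (l + k))⁻¹ * (m l * m k) with hg
    have hgI : g ∈ inner W D := mul_mem (inv_mem (hm _)) (mul_mem (hm _) (hm _))
    have hsy : ∀ j : c.F, ∀ y, dlt W (m j) (s.sy y) = 0 := fun j y =>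
      dlt_eq_zero_iff.mpr (s.inner_smul_sy hD (hm j) y)
    have hprod : ∀ v : W, g • v = (m (l + k))⁻¹ • ((m l * m k) • v) := fun v => mul_smul _ _ _
    have hgz : ∀ z ∈ fixA W c.L, g • z = z := fun z hz => by
      rw [hprod, inv_smul_eq_iff, smul_eq (m (l + k)), smul_eq, dlt_mul, hmz l z hz, hmz k z hz,
        hmz _ z hz, hsy, add_zero, ← map_add, ← add_mul]
    have hgx : ∀ x, dlt W g (s.sx x) =
        s.sy (l * κ (k * x) - l * Q (k * x) - k * Q (l * x)) := by
      intro x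
      rw [dlt_apply, hprod, sub_eq_iff_eq_add, inv_smul_eq_iff, smul_add, s.inner_smul_sy hD (hm _),
        smul_eq (m (l + k)), smul_eq, dlt_mul, hmx, hmx, hmx, map_add, hsy, zero_add,
        hmz l _ (ha _)]
      have e : Q ((l + k) * x) = Q (l * x) + Q (k * x) := by rw [add_mul, map_add]
      have e' : a ((l + k) * x) = a (l * x) + a (k * x) := by rw [add_mul, map_add]
      rw [e, e', show b (a (k * x)) = κ (k * x) from rfl, map_sub, map_sub, add_mul, mul_add, mul_add,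
        map_add, map_add, map_add]
      abel
    have hgD : g ∈ D := by
      refine hD.mem_of_axis hd (fun v hv => ?_) fun v => hgI.2.1 v
      obtain ⟨z, hz, e⟩ := s.exists_eq v
      rw [(c.mem_fixA_iff hD v).mp hv, map_zero, add_zero] at e
      rw [e, smul_add, s.inner_smul_sy hD hgI, hgz z hz]
    obtain ⟨t, ht⟩ := c.exists_u hgD
    refine ⟨t, fun x => ?_⟩
    have e := hgx x
    rw [← ht, s.dlt_u hD, s.psi_sx] at e
    simp only [Matrix.cons_val_one, Matrix.cons_val_zero] at e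
    exact ((s.sy_ext (s.θ_mem t x) (zero_mem _) (by rw [e, add_zero])).1).symm
  have hκ : ∀ x, κ x = κ 1 * x := linear_of_comm_mod_scalar (p := p) κ fun l => by
    obtain ⟨t₁, h1⟩ := hE l 1
    obtain ⟨t₂, h2⟩ := hE 1 l
    refine ⟨t₂ - t₁, fun x => ?_⟩
    have e1 := h1 x
    have e2 := h2 x
    simp only [one_mul] at e1 e2
    linear_combination e2 - e1
  have hQ : ∃ r, ∀ x, Q x = r * x := by
    by_cases hp : p = 2
    · refine ⟨Q 1, linear_of_comm_mod_scalar (p := p) Q fun l => ?_⟩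
      obtain ⟨t, h1⟩ := hE l 1
      refine ⟨l * κ 1 - t, fun x => ?_⟩
      have e1 := h1 x
      simp only [one_mul] at e1
      subst hp
      have h2 : (2 : c.F) = 0 := by simpa using c.natCast_eq_zero hd
      rw [hκ x] at e1
      linear_combination -e1 - l * Q x * h2
    · obtain ⟨t, h1⟩ := hE 1 1
      refine ⟨(κ 1 - t) / 2, fun x => ?_⟩
      have e1 := h1 x
      simp only [one_mul] at e1
      have h2 : (2 : c.F) ≠ 0 := by
        intro h
        have := (CharP.cast_eq_zero_iff c.F p 2).mp (by exact_mod_cast h)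
        exact hp ((Nat.prime_dvd_prime_iff_eq Fact.out Nat.prime_two).mp this)
      rw [hκ x] at e1
      field_simp
      linear_combination -e1
  obtain ⟨r, hr⟩ := hQ
  -- adjust by `D`
  set n' := c.u (-r) * n with hn'
  have hn'I : n' ∈ inner W D := mul_mem (hD.mem_inner hd (c.u_mem _)) hn
  have hdx' : ∀ x, dlt W n' (s.sx x) = a x + s.θ (-r) x := fun x => by
    rw [hn', dlt_mul, s.dlt_u hD, s.dlt_u hD, (c.mem_fixA_iff hD _).mp (hn.2.1 _), hdx, hr, mul_zero,
      map_zero, s.θ_zero_right, add_zero, add_zero, s.psi_sx]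
    simp only [Matrix.cons_val_one, Matrix.cons_val_zero]
    rw [neg_mul, map_neg]
    abel
  have hdz' : ∀ z ∈ fixA W c.L, dlt W n' z = s.sy (b z) := fun z hz => by
    rw [hn', dlt_mul, dlt_eq_zero_iff.mpr (c.u_smul_L hz _), hdz z hz,
      dlt_eq_zero_iff.mpr (s.sy_mem_fixA hD _ _ (c.u_mem _)), zero_add, add_zero]
  set E := cj n' c.opp with hEdef
  have hEopp : E = c.opp := by
    refine s.eq_opp_of_image hD hd (isRoot_cj (isRoot_cj hD _) _) ?_ ⟨1, fun h => ?_⟩
    · rintro _ ⟨g, hg, rfl⟩ v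
      obtain ⟨t, rfl⟩ := c.mem_opp_iff.mp hg
      show c.ψ (dlt W (n' * c.l t * n'⁻¹) v) 0 = 0
      rw [dlt_conj, s.dlt_l hD, smul_add, smul_eq n' (s.sx _), hdx',
        s.inner_smul_θ hD hn'I]
      rw [map_add, map_add, map_add, s.psi_sx, (c.ker _).mpr (ha _), (c.ker _).mpr (s.θ_mem _ _),
        (c.ker _).mpr (s.θ_mem _ _)]
      simp
    · have h1 : n'⁻¹ • s.sy 1 ∈ fixA W c.opp := (smul_mem_fixA_cj n').mp (by rwa [smul_inv_smul])
      rw [show n'⁻¹ • s.sy 1 = s.sy 1 from s.inner_smul_sy hD (inv_mem hn'I) 1, c.mem_fixA_opp_iff hD,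
        s.psi_sy] at h1
      exact one_ne_zero h1
  have hbz : ∀ z ∈ fixA W c.L, b z = 0 := fun z hz => by
    have h1 : n' • z ∈ fixA W c.opp := by
      rw [← hEopp]
      exact (smul_mem_fixA_cj n').mpr ((c.mem_fixA_opp_iff hD z).mpr (by rw [(c.ker z).mpr hz]; rfl))
    rw [c.mem_fixA_opp_iff hD, smul_eq, hdz' z hz, map_add, (c.ker z).mpr hz, zero_add, s.psi_sy] at h1
    simpa using h1
  have hn'D : n' ∈ D := by
    refine hD.mem_of_axis hd (fun v hv => ?_) fun v => hn'I.2.1 v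
    obtain ⟨z, hz, e⟩ := s.exists_eq v
    rw [(c.mem_fixA_iff hD v).mp hv, map_zero, add_zero] at e
    rw [e, smul_add, s.inner_smul_sy hD hn'I, smul_eq n' z, hdz' z hz, hbz z hz, map_zero, add_zero]
  have := mul_mem (inv_mem (c.u_mem (-r))) hn'D
  rwa [hn', inv_mul_cancel_left] at this

include s in
/-- Modulo `D`, `inner` commutes with the torus. -/
theorem inner_comm_mem {n : H} (hn : n ∈ inner W D) (μ : c.Fˣ) :
    c.tor μ * n * (c.tor μ)⁻¹ * n⁻¹ ∈ D := by
  set h := c.tor μ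
  set g := h * n * h⁻¹ * n⁻¹ with hg
  have hgI : g ∈ inner W D := mul_mem (conj_mem_inner (tor_mem_normalizer hD μ) hn) (inv_mem hn)
  refine s.inner_mem_of_range hD hd hgI fun z hz => ?_
  set w := dlt W n z with hw
  have hwI : w ∈ img W D := hn.2.2 z (c.fixA_L_le hz)
  have e1 : g • (n • z) = h • n • z := by
    rw [← mul_smul, hg, inv_mul_cancel_right, mul_smul, mul_smul,
      show h⁻¹ • z = z from hz _ (inv_mem (c.tor_mem_L μ))]
  rw [smul_eq n z, ← hw, smul_add, smul_add, s.inner_smul_img hD hgI hwI,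
    hz _ (c.tor_mem_L μ)] at e1
  obtain ⟨y, hy⟩ : dlt W h w ∈ s.sy.range := by
    rw [s.dlt_tor, (c.mem_fixA_iff hD w).mp (hn.2.1 z), mul_zero, map_zero, add_zero]
    exact ⟨_, rfl⟩
  refine ⟨y, ?_⟩
  rw [dlt_apply, eq_sub_iff_add_eq, hy, dlt_apply, eq_sub_of_add_eq e1]
  abel

include s in
/-- An element inducing a torus element up to `inner`, of the order of the torus, is a conjugate of it. -/
theorem exists_conj_tor {ν : c.Fˣ} (hν : ν ≠ 1) {n : H} (hn : n ∈ inner W D)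
    (hk : (c.tor ν * n) ^ (Nat.card D - 1) = 1) :
    ∃ r, c.u r * c.tor ν * (c.u r)⁻¹ = c.tor ν * n := by
  set h := c.tor ν
  have hpow : ∀ m : ℕ, ∃ d ∈ D, (h * n) ^ m = h ^ m * n ^ m * d := by
    intro m
    induction m with
    | zero => exact ⟨1, one_mem _, by simp⟩
    | succ m ih =>
      obtain ⟨d, hd', e⟩ := ih
      have h1 := s.inner_comm_mem hD hd (pow_mem hn m) ν⁻¹
      rw [c.tor_inv, inv_inv] at h1
      have h2 := (mem_normalizer_iff''.mp (tor_mem_normalizer (c := c) hD ν) d).mp hd'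
      have hc1 := (show h⁻¹ * d * h * n = n * (h⁻¹ * d * h) from (hn.1 _ h2))
      have hc2 := (show h⁻¹ * n ^ m * h * (n ^ m)⁻¹ * (n ^ m * n) =
        n ^ m * n * (h⁻¹ * n ^ m * h * (n ^ m)⁻¹) from ((pow_mem hn m).1 _ h1 |> fun a => by
          rw [← mul_assoc, a, mul_assoc, hn.1 _ h1, ← mul_assoc]))
      refine ⟨(h⁻¹ * n ^ m * h * (n ^ m)⁻¹) * (h⁻¹ * d * h), mul_mem h1 h2, ?_⟩
      calc (h * n) ^ (m + 1) = h ^ m * n ^ m * d * (h * n) := by rw [pow_succ, e]
        _ = h ^ m * h * (h⁻¹ * n ^ m * h) * (h⁻¹ * d * h * n) := by group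
        _ = h ^ m * h * (h⁻¹ * n ^ m * h * (n ^ m)⁻¹ * (n ^ m * n)) * (h⁻¹ * d * h) := by
          rw [hc1]; group
        _ = h ^ m * h * (n ^ m * n * (h⁻¹ * n ^ m * h * (n ^ m)⁻¹)) * (h⁻¹ * d * h) := by rw [hc2]
        _ = _ := by rw [pow_succ, pow_succ]; group
  have hnD : n ∈ D := by
    obtain ⟨d, hd', e⟩ := hpow (Nat.card D - 1)
    rw [hk, tor_pow_eq_one, one_mul] at e
    have h1 : n ^ (Nat.card D - 1) ∈ D := by
      rw [eq_inv_of_mul_eq_one_left e.symm]; exact inv_mem hd'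
    obtain ⟨j, hj⟩ := (IsPGroup.iff_card.mp (PGroup.isPGroup_of_elementaryAbelian hD.hD) :
      ∃ j, Nat.card D = p ^ j)
    obtain ⟨i, hi⟩ := s.isPGroup_inner hd hD ⟨n, hn⟩
    have hi' : n ^ p ^ i = 1 := congrArg Subtype.val hi
    have hj0 : j ≠ 0 := fun e0 => hD.ne (Subgroup.eq_bot_of_card_eq _ (by rw [hj, e0, pow_zero]))
    have hcop : (Nat.card D - 1).Coprime (orderOf n) := by
      refine Nat.Coprime.coprime_dvd_right (orderOf_dvd_of_pow_eq_one hi') (Nat.Coprime.pow_right _ ?_)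
      refine (((Fact.out : p.Prime).coprime_iff_not_dvd).mpr fun hdv => ?_).symm
      have h2 : p ∣ Nat.card D := hj ▸ dvd_pow_self p hj0
      have h3 : 1 ≤ Nat.card D := Nat.card_pos
      have := Nat.dvd_sub h2 hdv
      rw [Nat.sub_sub_self h3] at this
      exact (Fact.out : p.Prime).not_dvd_one this
    obtain ⟨k, hk'⟩ := exists_pow_eq_self_of_coprime hcop
    rw [← hk']
    exact pow_mem h1 k
  obtain ⟨t, rfl⟩ := c.exists_u hnD
  by_cases hsq : (ν : c.F) * ν = 1
  · -- `ν = -1`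
    have hcomm : Commute h (c.u t) := by
      show h * c.u t = c.u t * h
      rw [← mul_inv_eq_iff_eq_mul, c.tor_conj_u, hsq, one_mul]
    rw [hcomm.mul_pow, tor_pow_eq_one, one_mul] at hk
    have e : ∀ m : ℕ, c.u t ^ m = c.u (m * t) := fun m => by
      induction m with
      | zero => simp [c.u_zero]
      | succ m ih => rw [pow_succ, ih, ← c.u_add, Nat.cast_succ, add_mul, one_mul]
    rw [e, ← c.u_zero] at hk
    have ht := c.u_injective hk
    rw [Nat.cast_sub Nat.card_pos, ← c.cardF, FiniteField.cast_card_eq_zero, Nat.cast_one, zero_sub,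
      neg_one_mul, neg_eq_zero] at ht
    exact ⟨0, by rw [ht, c.u_zero]; simp⟩
  · obtain ⟨r, hr⟩ : ∃ r, r - (ν : c.F) * ν * r = (ν : c.F) * ν * t := by
      refine ⟨(ν : c.F) * ν * t / (1 - (ν : c.F) * ν), ?_⟩
      have : 1 - (ν : c.F) * ν ≠ 0 := sub_ne_zero.mpr (Ne.symm hsq)
      generalize (ν : c.F) * ν = w at this ⊢
      rw [show ∀ r, r - w * r = (1 - w) * r from fun r => by ring, mul_div_cancel₀ _ this]
    refine ⟨r, ?_⟩
    have e1 : h * (c.u r)⁻¹ = c.u (-((ν : c.F) * ν * r)) * h := by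
      rw [← c.u_neg, ← mul_inv_eq_iff_eq_mul, c.tor_conj_u, mul_neg]
    have e2 : h * c.u t = c.u ((ν : c.F) * ν * t) * h := by
      rw [← mul_inv_eq_iff_eq_mul, c.tor_conj_u]
    rw [mul_assoc, e1, e2, ← mul_assoc, ← c.u_add, ← sub_eq_add_neg, hr]

end Split

end Cfsg.Agent.PMinFF
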