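import Cfsg.Agent.Lib.PMinFF.Pair

/-!
# No over-offenders; critical offenders are root groups

`main`: in a configuration `Cfg p V X T M` no elementary abelian subgroup over-offends, and every critical
offender `A` satisfies `|A| |C_V(A)| = |V|` and generates an `SL₂(|A|)` on a natural section with a conjugate.
-/

set_option autoImplicit false

namespace Cfsg.Agent.PMinFF

open Subgroup Subnormal

universe u

variable {G : Type u} [Group G] {p : ℕ}

theorem le_normalizer_of_comm {V H N : Subgroup G} (hV : IsMulCommutative V) (hH : H ≤ V) (hN : N ≤ V) :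
    H ≤ normalizer (N : Set G) := fun _ hu => centralizer_le_normalizer _ fun _ hz =>
  Offender.commute_mem hV (hN hz) (hH hu)

theorem card_sup_mul {V H N : Subgroup G} (hV : IsMulCommutative V) (hH : H ≤ V) (hN : N ≤ V) :
    Nat.card ↥(H ⊔ N) * Nat.card ↥(H ⊓ N) = Nat.card H * Nat.card N :=
  Offender.card_sup_mul_card_inf (le_normalizer_of_comm hV hH hN)

theorem exists_mul_eq {V H N : Subgroup G} (hV : IsMulCommutative V) (hH : H ≤ V) (hN : N ≤ V) {v : G}
    (hv : v ∈ H ⊔ N) : ∃ u ∈ H, ∃ r ∈ N, u * r = v :=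
  (Coprime.mem_sup_iff_of_le_normalizer (le_normalizer_of_comm hV hH hN)).mp hv

theorem fx_inf {U V : Subgroup G} (hUV : U ≤ V) (B : Subgroup G) : U ⊓ fx V B = fx U B := by
  rw [fx, fx, ← inf_assoc, inf_eq_left.mpr hUV]

theorem fx_bot (V : Subgroup G) : fx V ⊥ = V :=
  inf_eq_left.mpr fun v _ g hg => by rw [mem_bot.mp hg, one_mul, mul_one]

variable [Finite G]

/-- A subgroup of an elementary abelian group has a complement. -/
theorem exists_complement [Fact p.Prime] {A A₀ : Subgroup G} (hA : IsElementaryAbelian p A) (h0 : A₀ ≤ A) :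
    ∃ A₁ ≤ A, A₁ ⊓ A₀ = ⊥ ∧ A₁ ⊔ A₀ = A := by
  obtain ⟨A₁, ⟨h1, h2⟩, hmax⟩ := (Set.toFinite {B : Subgroup G | B ≤ A ∧ B ⊓ A₀ = ⊥}).exists_maximal
    ⟨⊥, bot_le, bot_inf_eq _⟩
  refine ⟨A₁, h1, h2, le_antisymm (sup_le h1 h0) fun a ha => ?_⟩
  by_contra hna
  have hn : zpowers a ≤ normalizer (A₁ : Set G) :=
    le_normalizer_of_comm hA.1 (zpowers_le.mpr ha) h1
  have hbad : (zpowers a ⊔ A₁) ⊓ A₀ ≠ ⊥ := fun e => hna (mem_sup_left
    ((hmax (y := zpowers a ⊔ A₁) ⟨sup_le (zpowers_le.mpr ha) h1, e⟩ le_sup_right)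
      (mem_sup_left (mem_zpowers a))))
  obtain ⟨c, hc, hc1⟩ : ∃ c ∈ (zpowers a ⊔ A₁) ⊓ A₀, c ≠ 1 := by
    by_contra hcc
    push Not at hcc
    exact hbad ((eq_bot_iff_forall _).mpr hcc)
  obtain ⟨z, hz, b, hb, rfl⟩ := (Coprime.mem_sup_iff_of_le_normalizer hn).mp hc.1
  obtain ⟨n, rfl⟩ := mem_zpowers_iff.mp hz
  have hp : ¬ (p : ℤ) ∣ n := fun ⟨m, hm⟩ => by
    rw [hm, zpow_mul, zpow_natCast, hA.2 a ha, one_zpow, one_mul] at hc hc1
    have : b ∈ A₁ ⊓ A₀ := ⟨hb, hc.2⟩
    rw [h2, mem_bot] at this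
    exact hc1 this
  have hcop : IsCoprime n (p : ℤ) :=
    ((Nat.prime_iff_prime_int.mp (Fact.out : p.Prime)).coprime_iff_not_dvd.mpr hp).symm
  obtain ⟨u, w, huw⟩ := hcop
  have hz' : a ^ n ∈ A₁ ⊔ A₀ := by
    have := mul_mem (mem_sup_right hc.2 : a ^ n * b ∈ A₁ ⊔ A₀) (inv_mem (mem_sup_left hb : b ∈ A₁ ⊔ A₀))
    rwa [mul_inv_cancel_right] at this
  apply hna
  have e : a = (a ^ n) ^ u := by
    rw [← zpow_mul, mul_comm n u, show u * n = 1 - w * (p : ℤ) by linarith, zpow_sub, zpow_one,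
      mul_comm w, zpow_mul, zpow_natCast, hA.2 a ha, one_zpow, inv_one, mul_one]
  rw [e]
  exact zpow_mem hz' u

omit [Finite G] in
theorem Sec.card {V L : Subgroup G} {q : ℕ} (h : Sec V L q) :
    Nat.card V = q ^ 2 * Nat.card (fx V L) := by
  obtain ⟨F, _, _, hF, ⟨-, -, ρ, ψ, -, hψ, hker, -⟩, -⟩ := h
  have hk : ψ.ker = (fx V L).subgroupOf V := by
    ext u
    rw [MonoidHom.mem_ker, hker, mem_subgroupOf]
  rw [ψ.ker.card_eq_card_quotient_mul_card_subgroup,
    Nat.card_congr (QuotientGroup.quotientKerEquivOfSurjective ψ hψ).toEquiv, hk,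
    Nat.card_congr (subgroupOfEquivOfLe (inf_le_left : fx V L ≤ V)).toEquiv,
    Nat.card_congr Multiplicative.toAdd, Nat.card_eq_fintype_card, Fintype.card_fun, Fintype.card_fin, hF]

omit [Finite G] in
/-- Extend from a submodule covering the module modulo fixed points. -/
theorem Sec.extend {U V L : Subgroup G} {q : ℕ} (h : Sec U L q) (hV : IsMulCommutative V)
    (hUV : U ≤ V) (hLV : L ≤ normalizer (V : Set G)) (hgen : U ⊔ fx V L = V) : Sec V L q := by
  obtain ⟨F, _, _, hF, ⟨hLU, -, ρ, ψ, hρ, hψ, hker, hact⟩, hkern⟩ := h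
  set R := fx V L with hR
  have hsplit : ∀ v : ↥V, ∃ u : ↥U, ∃ r ∈ R, (u : G) * r = v := fun v => by
    obtain ⟨u, hu, r, hr, e⟩ := exists_mul_eq hV hUV (inf_le_left : R ≤ V) (hgen.ge v.2)
    exact ⟨⟨u, hu⟩, r, hr, e⟩
  choose σ r₀ hr₀ hσ using hsplit
  have key : ∀ (v : ↥V) (u : ↥U) (r : G), r ∈ R → (u : G) * r = v → ψ (σ v) = ψ u := by
    intro v u r hr e
    rw [← inv_mul_eq_one, ← map_inv, ← map_mul, hker, ← fx_inf hUV L]
    refine ⟨((σ v)⁻¹ * u).2, ?_⟩
    have : (((σ v)⁻¹ * u : ↥U) : G) = r₀ v * r⁻¹ := by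
      push_cast
      rw [inv_mul_eq_iff_eq_mul, ← mul_assoc, hσ v, ← e, mul_inv_cancel_right]
    rw [this]
    exact R.mul_mem (hr₀ v) (R.inv_mem hr)
  let ψ' : ↥V →* Multiplicative (Fin 2 → F) := MonoidHom.mk' (fun v => ψ (σ v)) fun v w => by
    rw [← map_mul]
    refine key (v * w) _ (r₀ v * r₀ w) (R.mul_mem (hr₀ v) (hr₀ w)) ?_
    have e1 := hσ v
    have e2 := hσ w
    push_cast
    rw [← e1, ← e2]
    have hrw := Offender.commute_mem hV (hr₀ v).1 (hUV (σ w).2)
    rw [mul_assoc, mul_assoc]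
    congr 1
    rw [← mul_assoc, ← hrw, mul_assoc]
  refine ⟨F, inferInstance, inferInstance, hF, ⟨hLV, inf_le_left, ρ, ψ', hρ, fun x => ?_, fun v => ?_,
    fun e v => ?_⟩, fun l hl htriv => ?_⟩
  · obtain ⟨u, rfl⟩ := hψ x
    exact ⟨⟨u, hUV u.2⟩, key _ u 1 (one_mem R) (mul_one _)⟩
  · show ψ (σ v) = 1 ↔ _
    have ev := hσ v
    rw [hker, ← fx_inf hUV L, mem_inf, ← ev]
    exact ⟨fun hu => R.mul_mem hu.2 (hr₀ v),
      fun hv => ⟨(σ v).2, (Subgroup.mul_mem_cancel_right R (hr₀ v)).mp hv⟩⟩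
  · obtain ⟨w, hw, hw'⟩ := hact e (σ v)
    refine ⟨⟨(e : G) * v * (e : G)⁻¹, (mem_normalizer_iff.mp (hLV e.2) _).mp v.2⟩, rfl, ?_⟩
    refine (congrArg Multiplicative.toAdd (key _ w (r₀ v) (hr₀ v) ?_)).trans hw'
    show (w : G) * r₀ v = (e : G) * v * (e : G)⁻¹
    have ev := hσ v
    rw [hw, ← ev]
    calc (e : G) * (σ v : G) * (e : G)⁻¹ * r₀ v
        = (e : G) * (σ v : G) * (e : G)⁻¹ * ((e : G) * r₀ v * (e : G)⁻¹) := by
          rw [(mem_fx_iff.mp (hr₀ v)).2 e e.2]
      _ = _ := by group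
  · have hUc : l ∈ centralizer (U : Set G) := hkern l hl fun u hu => by
      rw [← fx_inf hUV L]
      exact ⟨U.mul_mem ((mem_normalizer_iff.mp (hLU hl) u).mp hu) (U.inv_mem hu), htriv u (hUV hu)⟩
    intro v hv
    obtain ⟨u, hu, r, hr, e⟩ := exists_mul_eq hV hUV (inf_le_left : R ≤ V) (hgen.ge hv)
    rw [← e]
    calc u * r * l = u * (l * r) := by rw [mul_assoc, hr.2 l hl]
      _ = l * (u * r) := by rw [← mul_assoc, hUc u hu, mul_assoc]

variable [Fact p.Prime]

omit [Fact p.Prime] in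
/-- Equality for critical offenders excludes over-offenders. -/
theorem noOver_of_crit {V X : Subgroup G}
    (h : ∀ A, Crit p V X A → Nat.card A * Nat.card (fx V A) = Nat.card V) : NoOver p V X := by
  suffices ∀ n, ∀ B : Subgroup G, Nat.card B = n → B ≤ X → IsElementaryAbelian p B →
      B ⊓ centralizer (V : Set G) = ⊥ → Nat.card B * Nat.card (fx V B) ≤ Nat.card V from
    fun B h1 h2 h3 => this _ B rfl h1 h2 h3
  intro n
  induction n using Nat.strong_induction_on with
  | _ n ih =>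
    intro B hn hBX hB hi
    by_contra hlt
    rw [not_le] at hlt
    refine hlt.ne' (h B ⟨hBX, hB, hi, fun e => ?_, hlt.le, fun C hC _ hC1 => ?_⟩)
    · rw [e, card_bot, one_mul, fx_bot] at hlt
      exact lt_irrefl _ hlt
    · refine lt_of_le_of_lt (ih _ ?_ C rfl (hC.trans hBX) (PGroup.isElementaryAbelian_mono hB hC)
        (le_bot_iff.mp ((inf_le_inf_right _ hC).trans hi.le))) hlt
      exact hn ▸ lt_of_le_of_ne (card_le_of_le hC) fun e => hC1 (eq_of_le_of_card_ge hC e.ge)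

/-- A critical offender inside a smaller configuration that it moves: it is critical there, and an associated
group there serves in the larger configuration. -/
theorem lift_crit {V X U P A : Subgroup G} (hV : IsElementaryAbelian p V)
    (hXV : X ≤ normalizer (V : Set G)) (hUV : U ≤ V) (hPX : P ≤ X) (hA : Crit p V X A) (hAP : A ≤ P)
    (hmove : ¬ A ≤ centralizer (U : Set G)) (hno : NoOver p U P) :
    Crit p U P A ∧ Nat.card A * Nat.card (fx V A) = Nat.card V ∧
      ∀ g ∈ P, Sec U (A ⊔ cj g A) (Nat.card A) → Sec V (A ⊔ cj g A) (Nat.card A) := by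
  set a := Nat.card A with ha
  set c := Nat.card (fx V A) with hc
  set u := Nat.card U with hu
  set cu := Nat.card (fx U A) with hcu
  have hcu0 : 0 < cu := Nat.card_pos
  have hsum : Nat.card ↥(U ⊔ fx V A) * cu = u * c := by
    rw [hcu, ← fx_inf hUV A]
    exact card_sup_mul hV.1 hUV inf_le_left
  set A₀ := A ⊓ centralizer (U : Set G) with hA₀
  have hA₀0 : A₀ = ⊥ := by
    by_contra h0
    obtain ⟨A₁, hA₁, hdisj, hsup⟩ := exists_complement hA.hA (inf_le_left : A₀ ≤ A)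
    have hA₁i : A₁ ⊓ centralizer (U : Set G) = ⊥ :=
      le_bot_iff.mp ((le_inf inf_le_left (inf_le_inf_right _ hA₁)).trans hdisj.le)
    have h1 := hno A₁ (hA₁.trans hAP) (PGroup.isElementaryAbelian_mono hA.hA hA₁) hA₁i
    have hfix : fx U A₁ = fx U A := by
      refine le_antisymm (fun v hv => ⟨hv.1, ?_⟩) (inf_le_inf_left _
        (centralizer_le (SetLike.coe_subset_coe.mpr hA₁)))
      have : A ≤ centralizer ({v} : Set G) := by
        rw [← hsup]
        refine sup_le (fun x hx => mem_centralizer_singleton_iff.mpr (hv.2 x hx)) fun x hx => ?_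
        exact mem_centralizer_singleton_iff.mpr ((hx.2 v hv.1).symm)
      exact fun x hx => mem_centralizer_singleton_iff.mp (this hx)
    rw [hfix] at h1
    have h2 := hA.strict A₀ inf_le_left h0 fun e => hmove (inf_eq_left.mp e)
    have h3 : Nat.card ↥(U ⊔ fx V A) ≤ Nat.card (fx V A₀) := card_le_of_le
      (sup_le (le_inf hUV (le_centralizer_iff.mp inf_le_right))
        (inf_le_inf_left _ (centralizer_le (SetLike.coe_subset_coe.mpr inf_le_left))))
    have h4 : a = Nat.card A₁ * Nat.card A₀ := by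
      have := card_sup_mul hA.hA.1 hA₁ (inf_le_left : A₀ ≤ A)
      rwa [hsup, hdisj, card_bot, mul_one] at this
    have h5 : Nat.card A₀ * (u * c) < a * c * cu :=
      calc Nat.card A₀ * (u * c) = Nat.card A₀ * Nat.card ↥(U ⊔ fx V A) * cu := by rw [← hsum]; ring
        _ ≤ Nat.card A₀ * Nat.card (fx V A₀) * cu := by gcongr
        _ < a * c * cu := Nat.mul_lt_mul_of_pos_right h2 hcu0
    have h6 : a * c * cu ≤ Nat.card A₀ * (u * c) :=
      calc a * c * cu = Nat.card A₀ * (Nat.card A₁ * cu * c) := by rw [h4]; ring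
        _ ≤ _ := by gcongr
    omega
  have h1 : a * cu ≤ u := hno A hAP hA.hA hA₀0
  have h2 : u * c ≤ Nat.card V * cu := hsum ▸ Nat.mul_le_mul_right _ (card_le_of_le (sup_le hUV inf_le_left))
  have h3 : u ≤ a * cu := by
    refine Nat.le_of_mul_le_mul_right ?_ (Nat.card_pos (α := fx V A))
    calc u * c ≤ Nat.card V * cu := h2
      _ ≤ a * c * cu := Nat.mul_le_mul_right _ hA.le
      _ = a * cu * c := by ring
  have h4 : a * c = Nat.card V := by
    refine le_antisymm ?_ hA.le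
    refine Nat.le_of_mul_le_mul_right ?_ hcu0
    calc a * c * cu = a * cu * c := by ring
      _ ≤ u * c := Nat.mul_le_mul_right _ h1
      _ ≤ _ := h2
  have hcrit : Crit p U P A := ⟨hAP, hA.hA, hA₀0, hA.ne, h3, fun B hB hB0 hB1 => by
    have hBi : B ⊓ centralizer (U : Set G) = ⊥ := le_bot_iff.mp ((inf_le_inf_right _ hB).trans hA₀0.le)
    have hle := hno B (hB.trans hAP) (PGroup.isElementaryAbelian_mono hA.hA hB) hBi
    refine lt_of_le_of_ne (hle.trans h3) fun e => ?_
    have hs := hA.strict B hB hB0 hB1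
    have hy : Nat.card ↥(fx U B ⊔ fx V A) ≤ Nat.card (fx V B) := card_le_of_le
      (sup_le (inf_le_inf_right _ hUV) (inf_le_inf_left _ (centralizer_le (SetLike.coe_subset_coe.mpr hB))))
    have hint : fx U B ⊓ fx V A = fx U A := le_antisymm
      (fun v hv => ⟨hv.1.1, hv.2.2⟩)
      fun v hv => ⟨⟨hv.1, centralizer_le (SetLike.coe_subset_coe.mpr hB) hv.2⟩, hUV hv.1, hv.2⟩
    have hy' := card_sup_mul hV.1 (inf_le_left.trans hUV : fx U B ≤ V) (inf_le_left : fx V A ≤ V)
    rw [hint] at hy'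
    have h7 : Nat.card B * Nat.card (fx V B) * cu < a * c * cu := Nat.mul_lt_mul_of_pos_right hs hcu0
    have h8 : a * c * cu ≤ Nat.card B * Nat.card (fx V B) * cu :=
      calc a * c * cu = a * cu * c := by ring
        _ = Nat.card B * Nat.card (fx U B) * c := by rw [← e]
        _ = Nat.card B * (Nat.card ↥(fx U B ⊔ fx V A) * cu) := by rw [hy']; ring
        _ ≤ Nat.card B * (Nat.card (fx V B) * cu) := by gcongr
        _ = _ := by ring
    omega⟩
  refine ⟨hcrit, h4, fun g hg hsec => ?_⟩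
  set L := A ⊔ cj g A with hL
  have hLX : L ≤ X := sup_le hA.AX ((cj_mono hA.AX).trans (cj_eq_of_mem (hPX hg)).le)
  refine hsec.extend hV.1 hUV (hLX.trans hXV) ?_
  refine eq_of_le_of_card_ge (sup_le hUV inf_le_left) ?_
  have hLc : Nat.card (fx U L) * (a * a) = u := by rw [hu, hsec.card, sq, mul_comm]
  have hR : fx V L = fx V A ⊓ fx V (cj g A) := le_antisymm
    (le_inf (inf_le_inf_left _ (centralizer_le (SetLike.coe_subset_coe.mpr le_sup_left)))
      (inf_le_inf_left _ (centralizer_le (SetLike.coe_subset_coe.mpr le_sup_right))))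
    fun v hv => ⟨hv.1.1, fun x hx => mem_centralizer_singleton_iff.mp
      ((sup_le (fun x hx => mem_centralizer_singleton_iff.mpr (hv.1.2 x hx))
        (fun x hx => mem_centralizer_singleton_iff.mpr (hv.2.2 x hx)) : L ≤ centralizer ({v} : Set G)) hx)⟩
  have h5 := card_sup_mul hV.1 (inf_le_left : fx V A ≤ V) (inf_le_left : fx V (cj g A) ≤ V)
  rw [← hR, card_fx_cj (hXV (hPX hg))] at h5
  have h6 : c * c ≤ Nat.card V * Nat.card (fx V L) :=
    h5 ▸ Nat.mul_le_mul_right _ (card_le_of_le (sup_le inf_le_left inf_le_left))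
  have h7 : Nat.card ↥(U ⊔ fx V L) * Nat.card (fx U L) = u * Nat.card (fx V L) := by
    rw [← fx_inf hUV L]
    exact card_sup_mul hV.1 hUV inf_le_left
  have h8 : c ≤ a * Nat.card (fx V L) := by
    rw [← h4] at h6
    refine Nat.le_of_mul_le_mul_right ?_ (Nat.card_pos (α := fx V A))
    calc c * c ≤ a * c * Nat.card (fx V L) := h6
      _ = a * Nat.card (fx V L) * c := by ring
  refine Nat.le_of_mul_le_mul_right ?_ (Nat.card_pos (α := fx U L))
  rw [h7, ← h4, ← hLc]
  calc a * c * Nat.card (fx U L) ≤ a * (a * Nat.card (fx V L)) * Nat.card (fx U L) := by gcongr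
    _ = _ := by ring

/-- A critical offender inside a smaller configuration that it moves. -/
theorem good_lift {V X U P A : Subgroup G} (hV : IsElementaryAbelian p V)
    (hXV : X ≤ normalizer (V : Set G)) (hUV : U ≤ V) (hPX : P ≤ X) (hA : Crit p V X A) (hAP : A ≤ P)
    (hmove : ¬ A ≤ centralizer (U : Set G)) (hno : NoOver p U P)
    (hgood : ∀ B, Crit p U P B → Good U P B) : Good V X A := by
  obtain ⟨hcrit, h4, hl⟩ := lift_crit hV hXV hUV hPX hA hAP hmove hno
  obtain ⟨-, g, hg, hsec⟩ := hgood A hcrit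
  exact ⟨h4, g, hPX hg, hl g hg hsec⟩

/-- The theorem. -/
theorem main {V X T M : Subgroup G} (h : Cfg p V X T M) :
    NoOver p V X ∧ ∀ A, Crit p V X A → Good V X A := by
  suffices ∀ n, ∀ (V X T M : Subgroup G), Nat.card X = n → Cfg p V X T M → ∀ A, Crit p V X A → Good V X A from
    ⟨noOver_of_crit fun A hA => (this _ V X T M rfl h A hA).1, this _ V X T M rfl h⟩
  intro n
  induction n using Nat.strong_induction_on with
  | _ n ih =>
    intro V X T M hn h A hA
    by_cases hbad : ∃ H < X, ∃ z ∈ X, cj z A ≤ T ∧ cj z A ≤ H ∧ ¬ H ≤ M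
    · obtain ⟨H, hH, z, hz, hzT, hzH, hHM⟩ := hbad
      obtain ⟨P, U, T₁, y, hsub, hlt, hUV, hPX, hy, hyT, hyU, -⟩ := h.exists_sub hA hH hz hzT hzH hHM
      have hgood : ∀ B, Crit p U P B → Good U P B := ih _ (hn ▸ hlt) U P T₁ _ rfl hsub
      have h1 := good_lift h.hV h.hXV hUV hPX (hA.conj hy h.hXV) (hyT.trans hsub.hTX) hyU
        (noOver_of_crit fun B hB => (hgood B hB).1) hgood
      have h2 := h1.conj (X.inv_mem hy) h.hXV
      rwa [cj_inv_cj] at h2
    · push Not at hbad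
      obtain ⟨z, hz, hzT⟩ := h.exists_cj_le_T hA.AX hA.isPGroup
      have h1 := good_of_no_bad h (hA.conj hz h.hXV) hzT fun H hH hle => hbad H hH z hz hzT hle
      have h2 := h1.conj (X.inv_mem hz) h.hXV
      rwa [cj_inv_cj] at h2

end Cfsg.Agent.PMinFF
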