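import Cfsg.Agent.Lib.PMinFF.Config
import Cfsg.Agent.Lib.Offender.Model
import Cfsg.Agent.Lib.FFPair.Cover
import Cfsg.Agent.Lib.FFPair.Natural
import Cfsg.Prelude.Def_BaumannBlocks

/-!
# Root pairs

`Sec p V L q`: `L` acts on `V / C_V(L)` as `SL₂` over a field with `q` elements on its natural module, and
only `C_L(V)` acts trivially there. `good_of_no_bad`: without proper bad subgroups, a critical offender `A`
satisfies `|A| |C_V(A)| = |V|` and generates such a group with a conjugate.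
-/

set_option autoImplicit false

namespace Cfsg.Agent.PMinFF

open Subgroup Subnormal
open scoped MatrixGroups commutatorElement

variable {G : Type*} [Group G]

/-- `L` acts on `V / C_V(L)` as `SL₂(F)`, `|F| = q`, faithfully modulo `C(V)`. -/
def Sec (V L : Subgroup G) (q : ℕ) : Prop :=
  ∃ (F : Type) (_ : Field F) (_ : Fintype F), Fintype.card F = q ∧
    Cfsg.ActsAsSL2OnSection F ⊤ L V (fx V L) ∧
    ∀ l ∈ L, (∀ v ∈ V, l * v * l⁻¹ * v⁻¹ ∈ fx V L) → l ∈ centralizer (V : Set G)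

/-- The conclusion for a critical offender. -/
def Good (V X A : Subgroup G) : Prop :=
  Nat.card A * Nat.card (fx V A) = Nat.card V ∧ ∃ g ∈ X, Sec V (A ⊔ cj g A) (Nat.card A)

theorem mem_fx_iff {V L : Subgroup G} {v : G} :
    v ∈ fx V L ↔ v ∈ V ∧ ∀ l ∈ L, l * v * l⁻¹ = v := by
  simp only [mem_inf, mem_centralizer_iff, SetLike.mem_coe, mul_inv_eq_iff_eq_mul]

/-- Transport along compatible maps of the group and of the module. -/
theorem Sec.transport {V L : Subgroup G} {q : ℕ} (h : Sec V L q) {G' : Type*} [Group G']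
    {V' L' : Subgroup G'} (φ : ↥L' →* ↥L) (hφ : Function.Surjective φ) (θ : ↥V' ≃* ↥V)
    (hLV : L' ≤ normalizer (V' : Set G'))
    (heq : ∀ (l : ↥L') (v w : ↥V'), (w : G') = l * v * (l : G')⁻¹ →
      (θ w : G) = (φ l : G) * (θ v : G) * (φ l : G)⁻¹) : Sec V' L' q := by
  obtain ⟨F, _, _, hF, ⟨-, -, ρ, ψ, hρ, hψ, hker, hact⟩, hkern⟩ := h
  have hconj : ∀ (l : ↥L') (v : ↥V'), (l : G') * v * (l : G')⁻¹ ∈ V' := fun l v =>
    (mem_normalizer_iff.mp (hLV l.2) _).mp v.2
  have hfix : ∀ v : ↥V', (v : G') ∈ fx V' L' ↔ (θ v : G) ∈ fx V L := by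
    intro v
    constructor
    · intro hv
      refine mem_fx_iff.mpr ⟨(θ v).2, fun l hl => ?_⟩
      obtain ⟨l', hl'⟩ := hφ ⟨l, hl⟩
      have := heq l' v v ((mem_fx_iff.mp hv).2 l' l'.2).symm
      rw [hl'] at this
      exact this.symm
    · intro hv
      refine mem_fx_iff.mpr ⟨v.2, fun l hl => ?_⟩
      have h1 := heq ⟨l, hl⟩ v ⟨_, hconj ⟨l, hl⟩ v⟩ rfl
      rw [(mem_fx_iff.mp hv).2 _ (φ ⟨l, hl⟩).2] at h1
      exact congrArg Subtype.val (θ.injective (Subtype.ext h1))
  refine ⟨F, inferInstance, inferInstance, hF, ⟨hLV, inf_le_left, ρ.comp φ, ψ.comp θ.toMonoidHom, ?_,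
    hψ.comp θ.surjective, fun u => ?_, fun e u => ?_⟩, fun l hl htriv => ?_⟩
  · rw [MonoidHom.range_comp, MonoidHom.range_eq_top.mpr hφ, ← MonoidHom.range_eq_map, hρ]
  · exact (hker (θ u)).trans (hfix u).symm
  · obtain ⟨w, hw, hw'⟩ := hact (φ e) (θ u)
    refine ⟨⟨_, hconj e u⟩, rfl, ?_⟩
    have e' : w = θ ⟨_, hconj e u⟩ := Subtype.ext (hw.trans (heq e u ⟨_, hconj e u⟩ rfl).symm)
    subst e'
    exact hw'
  · have hc : (φ ⟨l, hl⟩ : G) ∈ centralizer (V : Set G) := by
      refine hkern _ (φ ⟨l, hl⟩).2 fun v hv => ?_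
      obtain ⟨v', hv'⟩ := θ.surjective ⟨v, hv⟩
      set w : ↥V' := ⟨_, hconj ⟨l, hl⟩ v'⟩
      have h1 : ((w * v'⁻¹ : ↥V') : G') ∈ fx V' L' := htriv _ v'.2
      have h2 := (hfix _).mp h1
      rw [map_mul, map_inv] at h2
      have h3 := heq ⟨l, hl⟩ v' w rfl
      rw [hv'] at h3 h2
      simpa [h3] using h2
    intro v hv
    have h3 := heq ⟨l, hl⟩ ⟨v, hv⟩ ⟨_, hconj ⟨l, hl⟩ ⟨v, hv⟩⟩ rfl
    rw [← hc _ (θ ⟨v, hv⟩).2, mul_inv_cancel_right] at h3
    exact (mul_inv_eq_iff_eq_mul.mp (congrArg Subtype.val (θ.injective (Subtype.ext h3)))).symm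

theorem Sec.conj {V A B : Subgroup G} {q : ℕ} (h : Sec V (A ⊔ B) q) {x : G}
    (hx : x ∈ normalizer (V : Set G)) : Sec V (cj x A ⊔ cj x B) q := by
  have hsup : cj x A ⊔ cj x B = cj x (A ⊔ B) := (Subgroup.map_sup _ _ _).symm
  have hle : cj x (A ⊔ B) ≤ normalizer (V : Set G) := by
    rintro _ ⟨l, hl, rfl⟩
    obtain ⟨_, _, _, _, ⟨hLV, -⟩, -⟩ := h
    exact mul_mem (mul_mem hx (hLV hl)) (inv_mem hx)
  rw [hsup]
  refine h.transport
    ((A ⊔ B).equivMapOfInjective (MulAut.conj x).toMonoidHom (MulAut.conj x).injective).symm.toMonoidHom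
    (MulEquiv.surjective _)
    { toFun := fun v => ⟨x⁻¹ * v * x, by simpa using (mem_normalizer_iff.mp (inv_mem hx) v).mp v.2⟩
      invFun := fun v => ⟨x * v * x⁻¹, (mem_normalizer_iff.mp hx v).mp v.2⟩
      left_inv := fun v => Subtype.ext (by simp [mul_assoc])
      right_inv := fun v => Subtype.ext (by simp [mul_assoc])
      map_mul' := fun v w => Subtype.ext (by simp [mul_assoc]) } hle fun l v w hw => ?_
  obtain ⟨k, rfl⟩ :=
    ((A ⊔ B).equivMapOfInjective (MulAut.conj x).toMonoidHom (MulAut.conj x).injective).surjective l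
  rw [MulEquiv.coe_toMonoidHom, MulEquiv.symm_apply_apply]
  show x⁻¹ * (w : G) * x = (k : G) * (x⁻¹ * v * x) * (k : G)⁻¹
  rw [hw]
  show x⁻¹ * (x * (k : G) * x⁻¹ * v * (x * (k : G) * x⁻¹)⁻¹) * x = _
  group

theorem Good.conj {V X A : Subgroup G} (h : Good V X A) {x : G} (hx : x ∈ X)
    (hXV : X ≤ normalizer (V : Set G)) : Good V X (cj x A) := by
  obtain ⟨h1, g, hg, h2⟩ := h
  refine ⟨by rw [card_cj, card_fx_cj (hXV hx)]; exact h1, x * g * x⁻¹,
    mul_mem (mul_mem hx hg) (inv_mem hx), ?_⟩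
  rw [card_cj, ← cj_mul (x * g * x⁻¹) x A, inv_mul_cancel_right, cj_mul]
  exact h2.conj (hXV hx)

/-! ### The faithful image -/

section Img

variable [Finite G] {p : ℕ} [Fact p.Prime] (V : Subgroup G)

/-- The image of a subgroup in the model. -/
noncomputable abbrev mimg (B : Subgroup G) :
    Subgroup (Offender.Model (V.subgroupOf (normalizer (V : Set G)))) :=
  (B.subgroupOf (normalizer (V : Set G))).map (Offender.toModel _)

omit [Finite G] [Fact p.Prime] in
theorem centralizer_subgroupOf {H N : Subgroup G} (hH : H ≤ N) :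
    centralizer ((H.subgroupOf N : Subgroup N) : Set N) = (centralizer (H : Set G)).subgroupOf N := by
  ext n
  rw [mem_subgroupOf, mem_centralizer_iff, mem_centralizer_iff]
  constructor
  · intro h x hx
    exact congrArg Subtype.val (h ⟨x, hH hx⟩ (mem_subgroupOf.mpr hx))
  · intro h x hx
    exact Subtype.ext (h x (mem_subgroupOf.mp hx))

omit [Finite G] in
theorem card_img {B : Subgroup G} (hB : B ≤ normalizer (V : Set G)) :
    Nat.card (mimg V B) * Nat.card ↥(B ⊓ centralizer (V : Set G)) = Nat.card B := by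
  have h := Offender.card_map_toModel (V.subgroupOf (normalizer (V : Set G)))
    (B.subgroupOf (normalizer (V : Set G)))
  rw [centralizer_subgroupOf le_normalizer,
    ← show (B ⊓ centralizer (V : Set G)).subgroupOf (normalizer (V : Set G)) =
      B.subgroupOf _ ⊓ (centralizer (V : Set G)).subgroupOf _ from Subgroup.comap_inf _ _ _,
    Nat.card_congr (subgroupOfEquivOfLe hB).toEquiv] at h
  rwa [Nat.card_congr (subgroupOfEquivOfLe (inf_le_left.trans hB : B ⊓ centralizer (V : Set G) ≤ _)).toEquiv] at h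

omit [Finite G] in
theorem card_fx_img {B : Subgroup G} (hB : B ≤ normalizer (V : Set G)) :
    Nat.card (fx (Offender.modelV (V.subgroupOf (normalizer (V : Set G)))) (mimg V B)) =
      Nat.card (fx V B) := by
  refine (Offender.card_inf_centralizer_map_toModel _ _).trans ?_
  rw [centralizer_subgroupOf hB,
    ← show (V ⊓ centralizer (B : Set G)).subgroupOf (normalizer (V : Set G)) =
      V.subgroupOf _ ⊓ (centralizer (B : Set G)).subgroupOf _ from Subgroup.comap_inf _ _ _,
    Nat.card_congr (subgroupOfEquivOfLe (inf_le_left.trans le_normalizer :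
      V ⊓ centralizer (B : Set G) ≤ _)).toEquiv]

omit [Finite G] in
theorem card_modelV' :
    Nat.card (Offender.modelV (V.subgroupOf (normalizer (V : Set G)))) = Nat.card V :=
  (Offender.card_modelV _).trans (Nat.card_congr (subgroupOfEquivOfLe le_normalizer).toEquiv)

variable {V} {X T M A : Subgroup G} (h : Cfg p V X T M) (hA : Crit p V X A)
include h hA

theorem good_gen_of_no_bad (hAT : A ≤ T) (hno : ∀ H : Subgroup G, H < X → A ≤ H → H ≤ M) :
    Nat.card A * Nat.card (fx V A) = Nat.card V ∧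
      ∃ g ∈ X, A ⊔ cj g A = X ∧ Sec V (A ⊔ cj g A) (Nat.card A) := by
  have hXN := h.hXV
  have hMX := h.hMX.le
  have hAN : A ≤ normalizer (V : Set G) := hA.AX.trans hXN
  set V' := V.subgroupOf (normalizer (V : Set G))
  set f := Offender.toModel V'
  set Vb := Offender.modelV V'
  have hVb : IsElementaryAbelian p Vb := by
    refine Offender.isElementaryAbelian_modelV V' ⟨PGroup.isMulCommutative_of_forall ?_, ?_⟩
    · exact fun v hv w hw => Subtype.ext (Offender.commute_mem h.hV.1 hv hw)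
    · exact fun v hv => Subtype.ext (h.hV.2 _ hv)
  have hMN : X ⊓ normalizer (M : Set G) ≤ M := h.normalizer_M_le hA
  have hmem : ∀ {x : G} (hx : x ∈ X), f ⟨x, hXN hx⟩ ∈ mimg V M → x ∈ M := by
    intro x hx ⟨m, hm, he⟩
    have h1 : (m⁻¹ * ⟨x, hXN hx⟩ : ↥(normalizer (V : Set G))) ∈ f.ker := by
      rw [MonoidHom.mem_ker, map_mul, map_inv, he, inv_mul_cancel]
    rw [Offender.ker_toModel, centralizer_subgroupOf le_normalizer, mem_subgroupOf] at h1
    have hm' : (m : G) ∈ M := hm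
    have h2 : (m : G)⁻¹ * x ∈ M := h.fix_le ⟨mul_mem (X.inv_mem (hMX hm')) hx,
      centralizer_le (SetLike.coe_subset_coe.mpr inf_le_left) h1⟩
    have := mul_mem hm' h2
    rwa [mul_inv_cancel_left] at this
  have hsub : ∀ {B C : Subgroup G}, B ≤ C → mimg V B ≤ mimg V C := fun hBC =>
    map_mono fun _ hb => hBC hb
  have hVn : ∀ {B : Subgroup G}, mimg V B ≤ normalizer (Vb : Set _) := fun {B} =>
    (map_le_range _ _).trans (Offender.range_toModel_le_normalizer _)
  have hfaith : mimg V X ⊓ centralizer (Vb : Set _) = ⊥ :=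
    le_bot_iff.mp ((inf_le_inf_right _ (map_le_range _ _)).trans (Offender.range_toModel_inf_centralizer _).le)
  -- the image of `T` is a Sylow subgroup of the image of `X`
  have hTi : ¬ p ∣ (mimg V T).relIndex (mimg V X) := by
    intro hd
    refine h.hTi ?_
    have h1 := card_img V (h.hTX.trans hXN)
    have h2 := card_img V hXN
    have h3 : (mimg V T).relIndex (mimg V X) * Nat.card (mimg V T) = Nat.card (mimg V X) := by
      rw [← relIndex_bot_left, ← relIndex_bot_left (mimg V X), mul_comm,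
        relIndex_mul_relIndex _ _ _ bot_le (hsub h.hTX)]
    have h4 : T.relIndex X * Nat.card T = Nat.card X := by
      rw [← relIndex_bot_left, ← relIndex_bot_left X, mul_comm, relIndex_mul_relIndex _ _ _ bot_le h.hTX]
    obtain ⟨c, hc⟩ := card_dvd_of_le (inf_le_inf_right _ h.hTX :
      T ⊓ centralizer (V : Set G) ≤ X ⊓ centralizer (V : Set G))
    obtain ⟨r, hr⟩ := hd
    refine ⟨r * c, Nat.eq_of_mul_eq_mul_right (Nat.card_pos (α := T)) ?_⟩
    rw [h4, ← h2, ← h3, hr, hc, ← h1]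
    ring
  have hTb : IsPGroup p (mimg V T) :=
    (h.hT.comap_of_injective _ (Subgroup.subtype_injective _) : IsPGroup p (T.subgroupOf _)).map _
  have hmoved : ⁅fx Vb (mimg V T), mimg V X⁆ ≠ ⊥ := by
    intro e
    rw [commutator_eq_bot_iff_le_centralizer] at e
    refine h.moved fun x hx v hv => ?_
    set v' : ↥V' := ⟨⟨v, le_normalizer hv.1⟩, hv.1⟩
    have hv' : Offender.ofV V' v' ∈ fx Vb (mimg V T) := by
      show _ ∈ Offender.modelV V' ⊓ _
      rw [Offender.inf_centralizer_map_toModel]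
      refine ⟨v', mem_subgroupOf.mpr ⟨v'.2, fun t ht => Subtype.ext (hv.2 (t : G) ht)⟩, rfl⟩
    have h1 := e hv' _ ⟨⟨x, hXN hx⟩, hx, rfl⟩
    have h2 := Offender.toModel_conj V' ⟨x, hXN hx⟩ v'
    rw [h1, mul_inv_cancel_right] at h2
    have h3 := congrArg (fun w : ↥V' => ((w : ↥(normalizer (V : Set G))) : G)) (Offender.ofV_injective V' h2)
    exact eq_mul_inv_iff_mul_eq.mp h3
  -- the setting
  have hcA : A ⊓ centralizer (V : Set G) = ⊥ := hA.inj
  have hcardA : Nat.card (mimg V A) = Nat.card A := by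
    have := card_img V hAN
    rwa [hcA, card_bot, mul_one] at this
  have hAimg : IsElementaryAbelian p (mimg V A) := by
    refine ⟨PGroup.isMulCommutative_of_forall ?_, ?_⟩
    · rintro _ ⟨a, ha, rfl⟩ _ ⟨b, hb, rfl⟩
      rw [← map_mul, ← map_mul, show a * b = b * a from Subtype.ext (Offender.commute_mem hA.hA.1 ha hb)]
    · rintro _ ⟨a, ha, rfl⟩
      rw [← map_pow, show a ^ p = 1 from Subtype.ext (hA.hA.2 _ ha), map_one]
  have hle : Nat.card Vb ≤ Nat.card (mimg V A) * Nat.card (fx Vb (mimg V A)) := by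
    rw [card_modelV', hcardA, card_fx_img V hAN]
    exact hA.le
  have hstrict : ∀ A₀ ≤ mimg V A, A₀ ≠ ⊥ → A₀ ≠ mimg V A →
      Nat.card A₀ * Nat.card (fx Vb A₀) < Nat.card (mimg V A) * Nat.card (fx Vb (mimg V A)) := by
    intro A₀ hA₀ h0 h1
    set B := ((A.subgroupOf (normalizer (V : Set G))) ⊓ A₀.comap f).map (Subgroup.subtype _)
    have hBA : B ≤ A := by rintro _ ⟨b, hb, rfl⟩; exact hb.1
    have hBi : mimg V B = A₀ := by
      refine le_antisymm ?_ fun y hy => ?_
      · rintro _ ⟨b, hb, rfl⟩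
        obtain ⟨b', hb', e⟩ := (hb : (b : G) ∈ B)
        rw [show b = b' from Subtype.ext e.symm]
        exact hb'.2
      · obtain ⟨a, ha, rfl⟩ := hA₀ hy
        exact ⟨a, ⟨a, ⟨ha, hy⟩, rfl⟩, rfl⟩
    have hBc : B ⊓ centralizer (V : Set G) = ⊥ := le_bot_iff.mp ((inf_le_inf_right _ hBA).trans hcA.le)
    have hcB : Nat.card A₀ = Nat.card B := by
      have := card_img V (hBA.trans hAN)
      rwa [hBc, card_bot, mul_one, hBi] at this
    rw [hcardA, card_fx_img V hAN, hcB, ← hBi, card_fx_img V (hBA.trans hAN)]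
    refine hA.strict B hBA (fun e => h0 ?_) (fun e => h1 ?_)
    · rw [← hBi, e, mimg, bot_subgroupOf, Subgroup.map_bot]
    · rw [← hBi, e]
  have hgen : ∀ x ∈ X, x ∉ M → A ⊔ cj x A = X := by
    intro x hx hxM
    by_contra hne
    have hlt : A ⊔ cj x A < X :=
      lt_of_le_of_ne (sup_le hA.AX ((cj_mono hA.AX).trans (cj_eq_of_mem hx).le)) hne
    have h1 : cj x A ≤ M := le_sup_right.trans (hno _ hlt le_sup_left)
    have hlt2 : cj x⁻¹ M < X := lt_of_le_of_ne
      ((cj_mono hMX).trans (cj_eq_of_mem (inv_mem hx)).le) fun e => h.hMX.ne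
        (cj_injective x⁻¹ (e.trans (cj_eq_of_mem (inv_mem hx)).symm))
    have h2 := hno _ hlt2 (by rw [← cj_inv_cj x A]; exact cj_mono h1)
    have h3 : x⁻¹ ∈ M := hMN ⟨X.inv_mem hx, mem_normalizer_of_cj_le h2⟩
    exact hxM (by simpa using inv_mem h3)
  have S : FFPair.Setting p Vb (mimg V X) (mimg V M) (mimg V A) (fx Vb (mimg V T)) := {
    hV := hVb
    hPV := hVn
    faith := hfaith
    AM := hsub (hAT.trans h.hTM)
    MP := hsub hMX
    Mne := fun e => by
      obtain ⟨x, hx, hxM⟩ := SetLike.exists_of_lt h.hMX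
      exact hxM (hmem hx (e.ge ⟨⟨x, hXN hx⟩, hx, rfl⟩))
    hA := hAimg
    le := hle
    max := FFPair.max_of_strict hle hstrict
    strict := fun A₀ h1 _ => hstrict A₀ h1
    W0V := inf_le_left
    W0A := inf_le_right.trans (centralizer_le (SetLike.coe_subset_coe.mpr (hsub hAT)))
    moved := hmoved
    gen := fun y ⟨⟨x, hxN⟩, hx, e⟩ hy => by
      subst e
      have hx : x ∈ X := hx
      have hxM : x ∉ M := fun hm => hy ⟨⟨x, hxN⟩, hm, rfl⟩
      conv_rhs => rw [← hgen x hx hxM]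
      rw [mimg, mimg, subgroupOf_sup hAN ((cj_mono hA.AX).trans (cj_eq_of_mem hx).le |>.trans hXN),
        Subgroup.map_sup]
      congr 1
      ext z
      rw [mem_cj]
      constructor
      · rintro ⟨a, ha, e⟩
        refine ⟨⟨x, hxN⟩ * a * ⟨x, hxN⟩⁻¹,
          show x * (a : G) * x⁻¹ ∈ cj x A from conj_mem_cj ha, ?_⟩
        rw [map_mul, map_mul, map_inv, e]
        group
      · rintro ⟨b, hb, rfl⟩
        refine ⟨⟨x, hxN⟩⁻¹ * b * ⟨x, hxN⟩, ?_, by rw [map_mul, map_mul, map_inv]⟩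
        have hb' : (b : G) ∈ cj x A := hb
        show x⁻¹ * (b : G) * x ∈ A
        exact mem_cj.mp hb'
    core := fun a ha hall => by
      obtain ⟨⟨b, hbN⟩, hb, rfl⟩ := ha
      set K : Subgroup G := ⨅ g : ↥X, cj (g : G) M
      have hKM : K ≤ M := (iInf_le _ (1 : ↥X)).trans (cj_one M).le
      have hKn : X ≤ normalizer (K : Set G) := fun g hg => by
        refine mem_normalizer_of_cj_le (le_iInf fun k => ?_)
        refine (cj_mono (iInf_le _ (⟨g⁻¹, inv_mem hg⟩ * k : ↥X))).trans (le_of_eq ?_)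
        rw [← cj_mul]
        simp
      have hbK : b ∈ K := mem_iInf.mpr fun g => by
        rw [mem_cj]
        refine hmem (mul_mem (mul_mem (inv_mem g.2) (hA.AX hb)) g.2) ?_
        have := hall _ ⟨⟨(g : G)⁻¹, hXN (inv_mem g.2)⟩, inv_mem g.2, rfl⟩
        rw [← map_inv, ← map_mul, ← map_mul] at this
        refine Eq.mpr ?_ this
        congr 2
        exact Subtype.ext (by simp)
      have h1 : b ∈ A ⊓ centralizer (V : Set G) :=
        ⟨hb, h.inf_le_centralizer hKn hKM ⟨hAT hb, hbK⟩⟩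
      rw [hcA, mem_bot] at h1
      subst h1
      rw [show (⟨1, hbN⟩ : ↥(normalizer (V : Set G))) = 1 from rfl, map_one]
      exact one_mem _
    pnormal := fun K hK hKn hKp => by
      have hKT : K ≤ mimg V T := by
        obtain ⟨u, hu, huK⟩ := exists_cj_le (hsub h.hTX) hTb hTi hK hKp
        rwa [cj_eq_of_mem_normalizer (hKn hu)] at huK
      set K' : Subgroup G := ((X.subgroupOf (normalizer (V : Set G))) ⊓ K.comap f).map (Subgroup.subtype _)
      have hK'n : X ≤ normalizer (K' : Set G) := by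
        intro g hg
        refine mem_normalizer_of_cj_le ?_
        rintro _ ⟨_, ⟨k, hk, rfl⟩, rfl⟩
        refine ⟨⟨g, hXN hg⟩ * k * ⟨g, hXN hg⟩⁻¹, ⟨?_, ?_⟩, rfl⟩
        · exact X.mul_mem (X.mul_mem hg hk.1) (X.inv_mem hg)
        show f _ ∈ K
        rw [map_mul, map_mul, map_inv]
        exact (mem_normalizer_iff.mp (hKn ⟨_, hg, rfl⟩) _).mp hk.2
      have hK'M : K' ≤ M := by
        intro k' ⟨k, hk, e⟩
        obtain ⟨t, ht, hte⟩ := hKT hk.2
        subst e
        exact hmem hk.1 ⟨t, h.hTM ht, hte⟩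
      intro y hy
      obtain ⟨t, ht, rfl⟩ := hKT hy
      have h1 : (t : G) ∈ centralizer (V : Set G) :=
        h.inf_le_centralizer hK'n hK'M ⟨ht, t, ⟨h.hTX ht, hy⟩, rfl⟩
      have h2 : t ∈ f.ker := by
        rw [Offender.ker_toModel, centralizer_subgroupOf le_normalizer]; exact h1
      rw [MonoidHom.mem_ker.mp h2]
      exact one_mem _ }
  obtain ⟨x, hx, hxM⟩ := SetLike.exists_of_lt h.hMX
  refine ⟨?_, x, hx, hgen x hx hxM, ?_⟩
  · have h1 := S.card_V
    rw [S.card_meet, card_modelV'] at h1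
    have h2 : Nat.card (fx V A) =
        Nat.card A * Nat.card (fx Vb (mimg V X)) := by
      rw [← card_fx_img V hAN, ← hcardA]; exact S.card_meet
    rw [h2]
    refine Nat.eq_of_mul_eq_mul_right (Nat.card_pos (α := fx Vb (mimg V X))) ?_
    rw [h1, hcardA]
    ring
  · rw [hgen x hx hxM]
    obtain ⟨F, iF, iFt, hF, -, hact⟩ := S.exists_sl_two
    have hsec : Sec Vb (mimg V X) (Nat.card A) := ⟨F, iF, iFt, hF.trans hcardA, hact, fun l hl htriv => by
      rw [S.eq_one_of_trivial hl htriv]; exact one_mem _⟩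
    refine hsec.transport ((f.subgroupMap _).comp (subgroupOfEquivOfLe hXN).symm.toMonoidHom)
      ((f.subgroupMap_surjective _).comp (MulEquiv.surjective _))
      ((subgroupOfEquivOfLe le_normalizer).symm.trans (MonoidHom.ofInjective (Offender.ofV_injective V')))
      hXN fun l v w hw => ?_
    show Offender.ofV V' _ = f ⟨l, hXN l.2⟩ * Offender.ofV V' _ * (f ⟨l, hXN l.2⟩)⁻¹
    rw [Offender.toModel_conj]
    congr 1
    exact Subtype.ext (Subtype.ext hw)

theorem good_of_no_bad (hAT : A ≤ T) (hno : ∀ H : Subgroup G, H < X → A ≤ H → H ≤ M) :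
    Good V X A :=
  let ⟨h1, g, hg, _, h2⟩ := good_gen_of_no_bad h hA hAT hno
  ⟨h1, g, hg, h2⟩

end Img

end Cfsg.Agent.PMinFF
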