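import Cfsg.Agent.Lib.PMinFF.Inner

/-!
# Four-element root groups against a wall

`Wall c M z`: `M` contains `D` and the torus but not `L`, and contains the stabilizer of a vector `z` fixed by
`D` and moved by `L`. `Wall.false_of_root` forbids a root group whose fixed points are carried onto those of the
opposite root group by a computable element of `M`; `Wall.twist_eq_zero` is the application to semilinear
twists.
-/

set_option autoImplicit false

namespace Cfsg.Agent.PMinFF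

open Subgroup Subnormal
open scoped Matrix

variable {H : Type*} [Group H] {W : Type*} [AddCommGroup W] [DistribMulAction H W] {p : ℕ}
  {D : Subgroup H}

/-- The wall. -/
structure Wall (c : Coord W D) (M : Subgroup H) (z : W) : Prop where
  D_le : D ≤ M
  tor_mem : ∀ μ, c.tor μ ∈ M
  not_le : ¬ c.L ≤ M
  stab : ∀ g : H, g • z = z → g ∈ M
  fix : z ∈ fixA W D
  move : c.ψ z 0 ≠ 0

theorem Coord.l_add (c : Coord W D) (s t : c.F) : c.l (s + t) = c.l s * c.l t := by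
  rw [show s + t = -(-s + -t) by ring, ← c.wy_conj_u, c.u_add]
  conv_rhs => rw [← neg_neg s, ← neg_neg t, ← c.wy_conj_u, ← c.wy_conj_u]
  group

theorem Coord.l_zero (c : Coord W D) : c.l 0 = 1 := by
  have h := c.l_add 0 0
  rw [add_zero] at h
  exact left_eq_mul.mp h

theorem Coord.l_neg (c : Coord W D) (t : c.F) : c.l (-t) = (c.l t)⁻¹ := by
  rw [eq_inv_iff_mul_eq_one, ← c.l_add, neg_add_cancel, c.l_zero]

variable [Finite H] [Finite W]

/-- Root groups of equal order with nested fixed points are equal. -/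
theorem IsRoot.eq_of_fixA_le (hd : Datum W p H) {A B : Subgroup H} (hA : IsRoot W p A) (hB : IsRoot W p B)
    (hcard : Nat.card A = Nat.card B) (hle : fixA W A ≤ fixA W B) : A = B := by
  refine hA.eq_of_fixA hd hB (AddSubgroup.eq_of_le_of_card_ge hle (le_of_eq ?_))
  refine Nat.eq_of_mul_eq_mul_left (Nat.card_pos (α := B)) ?_
  rw [hB.card_eq, ← hcard, hA.card_eq]

variable [Fact p.Prime]

omit [Fact p.Prime] in
/-- The common end of the four-element cases. -/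
theorem Wall.false_of_root {c : Coord W D} {M : Subgroup H} {z : W} (w : Wall c M z) (hd : Datum W p H)
    (hD : IsRoot W p D) {E : Subgroup H} (hE : IsRoot W p E) (hcard : Nat.card E = Nat.card D) {r : c.F}
    (hz : (c.l r)⁻¹ • z ∈ fixA W E) {g : H} (hg : g ∈ E) {μ : c.Fˣ}
    (hmap : ∀ v ∈ fixA W E, c.ψ (g • ((c.l r)⁻¹ • ((c.tor μ)⁻¹ • (c.l r • v)))) 0 = 0) : False := by
  set e := c.l r
  set G := cj e E with hG
  have hGM : G ≤ M := by
    have h1 : z ∈ fixA W G := by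
      have := (smul_mem_fixA_cj e).mpr hz
      rwa [smul_inv_smul] at this
    exact fun x hx => w.stab x (h1 x hx)
  set m := c.tor μ * (e * g * e⁻¹) * (c.tor μ)⁻¹ with hm
  have hmM : m ∈ M :=
    mul_mem (mul_mem (w.tor_mem μ) (hGM (conj_mem_cj hg))) (inv_mem (w.tor_mem μ))
  have hopp : cj m G = c.opp := by
    refine (isRoot_cj (isRoot_cj hE e) m).eq_of_fixA_le hd (isRoot_cj hD c.wy) ?_ fun v hv => ?_
    · rw [card_cj, card_cj, hcard]
      exact (card_cj _ _).symm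
    · have h1 := (smul_mem_fixA_cj m (W := W) (D := G) (v := m⁻¹ • v)).mp (by rwa [smul_inv_smul])
      have h2 : e⁻¹ • (m⁻¹ • v) ∈ fixA W E :=
        (smul_mem_fixA_cj e).mp (by rwa [smul_inv_smul])
      have h3 := hmap _ h2
      rw [smul_inv_smul] at h3
      have h4 : v = c.tor μ • (e • (g • (e⁻¹ • ((c.tor μ)⁻¹ • (m⁻¹ • v))))) := by
        conv_lhs => rw [← smul_inv_smul m v, hm]
        simp only [mul_smul, hm]
      change v ∈ fixA W c.opp
      rw [c.mem_fixA_opp_iff hD, h4, c.psi_tor, Matrix.cons_val_zero,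
        show e = c.l r from rfl, c.psi_l, Matrix.cons_val_zero]
      rw [show e = c.l r from rfl] at h3
      rw [h3, mul_zero]
  refine w.not_le ?_
  rw [c.L_eq]
  refine sup_le w.D_le ?_
  rw [← hopp]
  rintro _ ⟨x, hx, rfl⟩
  exact mul_mem (mul_mem hmM (hGM hx)) (inv_mem hmM)

namespace Split

variable {c : Coord W D} (s : Split c)

omit [Finite H] [Finite W] in
/-- The nonzero scalars of the field with four elements. -/
theorem four_facts (hd : Datum W p H) (hp : p = 2) (h4 : Nat.card D = 4) :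
    (2 : c.F) = 0 ∧ (∀ x : c.F, x ^ 4 = x) ∧
      (s.μ₀ : c.F) * s.μ₀ = s.μ₀ + 1 ∧ ((s.μ₀⁻¹ : c.Fˣ) : c.F) = s.μ₀ + 1 := by
  subst hp
  have h2 : (2 : c.F) = 0 := by simpa using c.natCast_eq_zero hd
  have hpow : ∀ x : c.F, x ^ 4 = x := fun x => by
    have := FiniteField.pow_card x
    rwa [c.cardF, h4] at this
  have hμ : (s.μ₀ : c.F) * s.μ₀ = s.μ₀ + 1 := by
    have h3 : ((s.μ₀ : c.F) - 1) * ((s.μ₀ : c.F) * s.μ₀ - s.μ₀ - 1) = 0 := by
      have h := hpow (s.μ₀ : c.F)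
      have h3 : (s.μ₀ : c.F) ^ 3 = 1 := mul_right_cancel₀ (Units.ne_zero s.μ₀)
        (by rw [← pow_succ, h, one_mul])
      linear_combination h3 + (1 - (s.μ₀ : c.F) * s.μ₀) * h2
    linear_combination (mul_eq_zero.mp h3).resolve_left s.sub_ne
  refine ⟨h2, hpow, hμ, ?_⟩
  refine mul_left_cancel₀ (Units.ne_zero s.μ₀) ?_
  rw [← Units.val_mul, mul_inv_cancel, Units.val_one]
  linear_combination -hμ - (s.μ₀ : c.F) * h2

/-- No quadratic twist. -/
theorem twist_eq_zero (hd : Datum W p H) (hD : IsRoot W p D) {M : Subgroup H} {z : W} (w : Wall c M z)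
    (hp : p = 2) (h4 : Nat.card D = 4) {g : H} (τ : c.F →+* c.F) {α ξ k : c.F} (hα : α ≠ 0)
    (hξ : ξ ≠ 0) (hsy : ∀ a, g • s.sy a = s.sy (α * τ a))
    (hsx : ∀ x, g • s.sx x = s.sy (k * (τ x * τ x)) + s.sx (ξ * τ x))
    (hC : ∀ v ∈ fixA W c.L, g • v ∈ fixA W c.L) : k = 0 := by
  by_contra hk
  obtain ⟨h2, hpow, hμ, hμi⟩ := s.four_facts hd hp h4
  have hτs : Function.Surjective τ := Finite.surjective_of_injective τ.injective
  have hψ : ∀ u : W, c.ψ (g • u) =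
      ![α * τ (c.ψ u 0) + k * (τ (c.ψ u 1) * τ (c.ψ u 1)), ξ * τ (c.ψ u 1)] := by
    intro u
    obtain ⟨v, hv, e⟩ := s.exists_eq u
    conv_lhs => rw [e]
    rw [smul_add, smul_add, hsy, hsx, map_add, map_add, map_add, (c.ker _).mpr (hC v hv), s.psi_sy, s.psi_sy,
      s.psi_sx]
    funext i
    fin_cases i <;> simp
  obtain ⟨a, ha0, hka⟩ : ∃ a, a ≠ 0 ∧ k = a * (ξ * ξ) :=
    ⟨k / (ξ * ξ), div_ne_zero hk (mul_ne_zero hξ hξ), (div_mul_cancel₀ k (mul_ne_zero hξ hξ)).symm⟩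
  have hΦ : ∀ v : W, α * τ (c.ψ (g⁻¹ • v) 0) = c.ψ v 0 + a * (c.ψ v 1 * c.ψ v 1) := by
    intro v
    conv_rhs => rw [← smul_inv_smul g v, hψ]
    simp only [Matrix.cons_val_zero, Matrix.cons_val_one]
    rw [hka]
    linear_combination -(a * ξ * ξ * τ (c.ψ (g⁻¹ • v) 1) * τ (c.ψ (g⁻¹ • v) 1)) * h2
  set E := cj g c.opp with hEdef
  have hE : IsRoot W p E := isRoot_cj (isRoot_cj hD _) _
  have hfix : ∀ v, v ∈ fixA W E ↔ c.ψ v 0 + a * (c.ψ v 1 * c.ψ v 1) = 0 := by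
    intro v
    rw [← hΦ, mul_eq_zero, or_iff_right hα, map_eq_zero]
    conv_lhs => rw [← smul_inv_smul g v, hEdef, smul_mem_fixA_cj, c.mem_fixA_opp_iff hD]
  have helt : ∀ t : c.F, ∀ v, c.ψ ((g * c.l t * g⁻¹) • v) 0 = c.ψ v 0 +
      k * (τ t * τ (c.ψ (g⁻¹ • v) 0) * (τ t * τ (c.ψ (g⁻¹ • v) 0))) := by
    intro t v
    rw [smul_eq (g * c.l t * g⁻¹), dlt_conj, s.dlt_l hD, map_add, smul_add, map_add,
      (c.ker _).mpr (hC _ (s.θ_mem _ _)), add_zero, hψ, s.psi_sx]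
    simp
  have : CharP c.F p := c.charP hd
  obtain ⟨r, hr⟩ := FiniteField.isSquare_of_char_two (F := c.F)
    ((ringChar.eq c.F p).trans hp) (a * c.ψ z 0)⁻¹
  have hr' : r * r * (a * c.ψ z 0) = 1 := by
    rw [← hr, inv_mul_cancel₀ (mul_ne_zero ha0 w.move)]
  have hr0 : r ≠ 0 := fun e => by rw [e, zero_mul, zero_mul] at hr'; exact zero_ne_one hr'
  obtain ⟨t, ht⟩ := hτs ((s.μ₀ : c.F) / (a * a * a * (r * r)) * α / ξ)
  refine w.false_of_root hd hD hE (by rw [hEdef, card_cj, Coord.opp, card_cj]) (r := r) ?_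
    (g := g * c.l t * g⁻¹) (conj_mem_cj (c.l_mem_opp t)) (μ := s.μ₀) fun v hv => ?_
  · rw [hfix, ← c.l_neg, c.psi_l, (c.mem_fixA_iff hD z).mp w.fix]
    simp only [Matrix.cons_val_zero, Matrix.cons_val_one]
    linear_combination (c.ψ z 0) * hr' + c.ψ z 0 * h2
  · have hv' := (hfix v).mp hv
    rw [← c.l_neg, ← c.tor_inv]
    set u := c.l (-r) • (c.tor s.μ₀⁻¹ • (c.l r • v)) with hu
    have hu0 : c.ψ u 0 = ((s.μ₀ : c.F) + 1) * c.ψ v 0 := by
      rw [hu, c.psi_l, c.psi_tor, c.psi_l]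
      simp only [Matrix.cons_val_zero, hμi]
    have hu1 : c.ψ u 1 = (s.μ₀ : c.F) * c.ψ v 1 + r * c.ψ v 0 := by
      rw [hu, c.psi_l, c.psi_tor, c.psi_l]
      simp only [Matrix.cons_val_zero, Matrix.cons_val_one, inv_inv, hμi]
      linear_combination -(r * c.ψ v 0) * h2
    have hY : c.ψ v 0 = a * (c.ψ v 1 * c.ψ v 1) := by
      linear_combination hv' - a * (c.ψ v 1 * c.ψ v 1) * h2
    have hΦu : c.ψ u 0 + a * (c.ψ u 1 * c.ψ u 1) = a * a * a * (r * r) * c.ψ v 1 := by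
      rw [hu0, hu1, hY]
      linear_combination a * c.ψ v 1 * c.ψ v 1 * hμ + a * a * a * r * r * hpow (c.ψ v 1) +
        (a * a * r * (s.μ₀ : c.F) * c.ψ v 1 * c.ψ v 1 * c.ψ v 1 +
          a * c.ψ v 1 * c.ψ v 1 * ((s.μ₀ : c.F) + 1)) * h2
    have hterm : τ t * τ (c.ψ (g⁻¹ • u) 0) = (s.μ₀ : c.F) / ξ * c.ψ v 1 := by
      have h := hΦ u
      rw [hΦu] at h
      rw [ht]
      field_simp
      linear_combination h
    rw [helt, hterm, hu0, hY, hka]
    field_simp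
    linear_combination a * c.ψ v 1 ^ 2 * hμ + a * c.ψ v 1 ^ 2 * ((s.μ₀ : c.F) + 1) * h2

end Split

end Cfsg.Agent.PMinFF
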