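import Cfsg.Agent.Lib.PMinFF.Coord

/-!
# The torus complement of a root group of order at least three

`Split c`: a generator `μ₀ ≠ 1` of `Fˣ` and the complement `range (tor μ₀ - 1) = sy F + sx F` to `C_W(L)`;
`θ t x` is the part of `u t • sx x` in `C_W(L)`.
-/

set_option autoImplicit false

namespace Cfsg.Agent.PMinFF

open Subgroup Subnormal
open scoped Matrix

variable {H : Type*} [Group H] {W : Type*} [AddCommGroup W] [DistribMulAction H W] {p : ℕ}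
  {D : Subgroup H}

/-- The complement data. -/
structure Split (c : Coord W D) where
  /-- a generator of the torus -/
  μ₀ : c.Fˣ
  gen : ∀ μ : c.Fˣ, μ ∈ zpowers μ₀
  ne : μ₀ ≠ 1
  /-- first axis -/
  sy : c.F →+ W
  /-- second axis -/
  sx : c.F →+ W
  psi_sy : ∀ a, c.ψ (sy a) = ![a, 0]
  psi_sx : ∀ a, c.ψ (sx a) = ![0, a]
  range_eq : ∀ v, dlt W (c.tor μ₀) v =
    sy (((μ₀ : c.F) - 1) * c.ψ v 0) + sx ((((μ₀⁻¹ : c.Fˣ) : c.F) - 1) * c.ψ v 1)

theorem Coord.nonempty_split (c : Coord W D) (hq : 2 < Nat.card D) : Nonempty (Split c) := by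
  classical
  obtain ⟨g, hg⟩ := IsCyclic.exists_generator (α := c.Fˣ)
  have hne : g ≠ 1 := by
    intro e
    have h1 : Fintype.card c.Fˣ ≤ 1 := Fintype.card_le_one_iff.mpr fun a b => by
      have ha := hg a
      have hb := hg b
      rw [e, zpowers_one_eq_bot, mem_bot] at ha hb
      rw [ha, hb]
    rw [Fintype.card_units, c.cardF] at h1
    omega
  have h1 : (g : c.F) - 1 ≠ 0 := sub_ne_zero.mpr fun e => hne (Units.ext e)
  have h2 : ((g⁻¹ : c.Fˣ) : c.F) - 1 ≠ 0 :=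
    sub_ne_zero.mpr fun e => hne (inv_eq_one.mp (Units.ext e))
  choose pre hpre using c.surj
  have key : ∀ v w : W, c.ψ v = c.ψ w → dlt W (c.tor g) v = dlt W (c.tor g) w := fun v w h => by
    rw [← sub_eq_zero, ← map_sub, dlt_eq_zero_iff]
    exact c.psi_smul_ker (c.tor_mem_L g) (by rw [map_sub, h, sub_self])
  let sy : c.F →+ W := AddMonoidHom.mk' (fun a => dlt W (c.tor g) (pre ![((g : c.F) - 1)⁻¹ * a, 0]))
    fun a b => by
      rw [← map_add]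
      exact key _ _ (by rw [map_add, hpre, hpre, hpre]; funext i; fin_cases i <;> simp [mul_add])
  let sx : c.F →+ W :=
    AddMonoidHom.mk' (fun a => dlt W (c.tor g) (pre ![0, (((g⁻¹ : c.Fˣ) : c.F) - 1)⁻¹ * a]))
    fun a b => by
      rw [← map_add]
      exact key _ _ (by rw [map_add, hpre, hpre, hpre]; funext i; fin_cases i <;> simp [mul_add])
  refine ⟨⟨g, hg, hne, sy, sx, fun a => ?_, fun a => ?_, fun v => ?_⟩⟩
  · show c.ψ (dlt W (c.tor g) _) = _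
    rw [dlt_apply, map_sub, c.psi_tor, hpre]
    funext i
    fin_cases i
    · simp only [Fin.zero_eta, Matrix.cons_val_zero, Pi.sub_apply]
      rw [show (g : c.F) * (((g : c.F) - 1)⁻¹ * a) - ((g : c.F) - 1)⁻¹ * a =
        ((g : c.F) - 1) * ((g : c.F) - 1)⁻¹ * a by ring, mul_inv_cancel₀ h1, one_mul]
    · simp
  · show c.ψ (dlt W (c.tor g) _) = _
    rw [dlt_apply, map_sub, c.psi_tor, hpre]
    funext i
    fin_cases i
    · simp
    · simp only [Fin.mk_one, Matrix.cons_val_one, Matrix.cons_val_zero, Pi.sub_apply]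
      set e := ((g⁻¹ : c.Fˣ) : c.F)
      rw [show e * ((e - 1)⁻¹ * a) - (e - 1)⁻¹ * a = (e - 1) * (e - 1)⁻¹ * a by ring,
        mul_inv_cancel₀ h2, one_mul]
  · show _ = dlt W (c.tor g) _ + dlt W (c.tor g) _
    rw [← map_add]
    refine key _ _ ?_
    rw [map_add, hpre, hpre, ← mul_assoc, inv_mul_cancel₀ h1, ← mul_assoc, inv_mul_cancel₀ h2]
    funext i
    fin_cases i <;> simp

namespace Split

variable {c : Coord W D} (s : Split c)

theorem sub_ne : (s.μ₀ : c.F) - 1 ≠ 0 := sub_ne_zero.mpr fun e => s.ne (Units.ext e)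

theorem sub_ne' : ((s.μ₀⁻¹ : c.Fˣ) : c.F) - 1 ≠ 0 :=
  sub_ne_zero.mpr fun e => s.ne (inv_eq_one.mp (Units.ext e))

/-- The part in the fixed points of `L`. -/
theorem psi_rest (v : W) : c.ψ (v - s.sy (c.ψ v 0) - s.sx (c.ψ v 1)) = 0 := by
  rw [map_sub, map_sub, s.psi_sy, s.psi_sx]
  funext i
  fin_cases i <;> simp [Matrix.vecHead, Matrix.vecTail]

theorem rest_mem (v : W) : v - s.sy (c.ψ v 0) - s.sx (c.ψ v 1) ∈ fixA W c.L :=
  (c.ker _).mp (s.psi_rest v)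

theorem exists_eq (v : W) : ∃ z ∈ fixA W c.L, v = s.sy (c.ψ v 0) + s.sx (c.ψ v 1) + z :=
  ⟨_, s.rest_mem v, by abel⟩

theorem tor_sy (μ : c.Fˣ) (a : c.F) : c.tor μ • s.sy a = s.sy ((μ : c.F) * a) := by
  obtain ⟨v, hv⟩ := c.surj ![((s.μ₀ : c.F) - 1)⁻¹ * a, 0]
  have e : dlt W (c.tor s.μ₀) v = s.sy a := by
    rw [s.range_eq, hv]
    simp [mul_inv_cancel_left₀ s.sub_ne]
  rw [← e]
  have e2 : c.tor μ • dlt W (c.tor s.μ₀) v = dlt W (c.tor s.μ₀) (c.tor μ • v) := by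
    rw [dlt_apply, dlt_apply, smul_sub, ← mul_smul, ← mul_smul, c.tor_comm]
  rw [e2, s.range_eq, c.psi_tor, hv]
  simp only [Matrix.cons_val_zero, Matrix.cons_val_one, mul_zero, map_zero, add_zero]
  congr 1
  field_simp [s.sub_ne]

theorem tor_sx (μ : c.Fˣ) (a : c.F) : c.tor μ • s.sx a = s.sx (((μ⁻¹ : c.Fˣ) : c.F) * a) := by
  obtain ⟨v, hv⟩ := c.surj ![0, (((s.μ₀⁻¹ : c.Fˣ) : c.F) - 1)⁻¹ * a]
  have e : dlt W (c.tor s.μ₀) v = s.sx a := by
    rw [s.range_eq, hv]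
    simp only [Matrix.cons_val_zero, Matrix.cons_val_one, mul_zero, map_zero, zero_add]
    rw [mul_inv_cancel_left₀ s.sub_ne']
  rw [← e]
  have e2 : c.tor μ • dlt W (c.tor s.μ₀) v = dlt W (c.tor s.μ₀) (c.tor μ • v) := by
    rw [dlt_apply, dlt_apply, smul_sub, ← mul_smul, ← mul_smul, c.tor_comm]
  rw [e2, s.range_eq, c.psi_tor, hv]
  simp only [Matrix.cons_val_zero, Matrix.cons_val_one, mul_zero, map_zero, zero_add]
  congr 1
  generalize ((μ⁻¹ : c.Fˣ) : c.F) = m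
  have := s.sub_ne'
  generalize ((s.μ₀⁻¹ : c.Fˣ) : c.F) = n at this ⊢
  field_simp

theorem wy_key (v : W) :
    c.wy • dlt W (c.tor s.μ₀) v = -((c.tor s.μ₀)⁻¹ • dlt W (c.tor s.μ₀) (c.wy • v)) := by
  have e : c.wy * c.tor s.μ₀ = (c.tor s.μ₀)⁻¹ * c.wy := by
    rw [← c.tor_inv, ← c.wy_conj_tor s.μ₀, inv_mul_cancel_right]
  rw [dlt_apply, dlt_apply, smul_sub, smul_sub, inv_smul_smul, neg_sub, ← mul_smul, e, mul_smul]

theorem wy_sy (a : c.F) : c.wy • s.sy a = s.sx a := by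
  obtain ⟨v, hv⟩ := c.surj ![((s.μ₀ : c.F) - 1)⁻¹ * a, 0]
  have e : dlt W (c.tor s.μ₀) v = s.sy a := by
    rw [s.range_eq, hv]
    simp [mul_inv_cancel_left₀ s.sub_ne]
  rw [← e, s.wy_key, s.range_eq (c.wy • v), c.psi_wy, hv, ← c.tor_inv]
  simp only [Matrix.cons_val_zero, Matrix.cons_val_one, neg_zero, mul_zero, map_zero, zero_add]
  rw [s.tor_sx, ← map_neg]
  congr 1
  rw [inv_inv, ← mul_assoc, mul_sub, ← Units.val_mul, mul_inv_cancel, Units.val_one, mul_one, ← neg_mul,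
    neg_sub, mul_inv_cancel_left₀ s.sub_ne]

theorem wy_sx (a : c.F) : c.wy • s.sx a = s.sy (-a) := by
  obtain ⟨v, hv⟩ := c.surj ![0, (((s.μ₀⁻¹ : c.Fˣ) : c.F) - 1)⁻¹ * a]
  have e : dlt W (c.tor s.μ₀) v = s.sx a := by
    rw [s.range_eq, hv]
    simp only [Matrix.cons_val_zero, Matrix.cons_val_one, mul_zero, map_zero, zero_add]
    rw [mul_inv_cancel_left₀ s.sub_ne']
  rw [← e, s.wy_key, s.range_eq (c.wy • v), c.psi_wy, hv, ← c.tor_inv]
  simp only [Matrix.cons_val_zero, Matrix.cons_val_one, mul_zero, map_zero, add_zero]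
  rw [s.tor_sy, ← map_neg]
  congr 1
  have h3 := s.sub_ne'
  have h5 : ((s.μ₀⁻¹ : c.Fˣ) : c.F) * (s.μ₀ : c.F) = 1 := by
    rw [← Units.val_mul, inv_mul_cancel, Units.val_one]
  generalize ((s.μ₀⁻¹ : c.Fˣ) : c.F) = n at h3 h5 ⊢
  generalize (s.μ₀ : c.F) = m at h5 ⊢
  rw [show -(n * ((m - 1) * -((n - 1)⁻¹ * a))) = (n * m - n) * ((n - 1)⁻¹ * a) by ring, h5,
    show (1 - n) = -(n - 1) by ring, neg_mul, mul_inv_cancel_left₀ h3]

/-- The `C_W(L)`-part of `u t • sx x`. -/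
def θ (t x : c.F) : W := dlt W (c.u t) (s.sx x) - s.sy (t * x)

theorem θ_mem (t x : c.F) : s.θ t x ∈ fixA W c.L := by
  refine (c.ker _).mp ?_
  rw [θ, dlt_apply, map_sub, map_sub, c.psi_u, s.psi_sx, s.psi_sy]
  funext i
  fin_cases i <;> simp

theorem θ_add_right (t x y : c.F) : s.θ t (x + y) = s.θ t x + s.θ t y := by
  rw [θ, θ, θ, mul_add, map_add, map_add, map_add]
  abel

theorem θ_zero_right (t : c.F) : s.θ t 0 = 0 := by
  rw [θ, map_zero, map_zero, mul_zero, map_zero, sub_zero]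

theorem θ_neg_right (t x : c.F) : s.θ t (-x) = -s.θ t x := by
  rw [θ, θ, map_neg, map_neg, mul_neg, map_neg]
  abel

variable [Finite W] (hD : IsRoot W p D)
include hD

theorem sy_mem_fixA (a : c.F) : s.sy a ∈ fixA W D :=
  (c.mem_fixA_iff hD _).mpr (by rw [s.psi_sy]; rfl)

theorem dlt_u (t : c.F) (v : W) :
    dlt W (c.u t) v = s.sy (t * c.ψ v 1) + s.θ t (c.ψ v 1) := by
  obtain ⟨z, hz, e⟩ := s.exists_eq v
  conv_lhs => rw [e, map_add, map_add, dlt_eq_zero_iff.mpr (c.u_smul_L hz t),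
    dlt_eq_zero_iff.mpr (s.sy_mem_fixA hD _ _ (c.u_mem t)), add_zero, zero_add]
  rw [θ, add_sub_cancel]

theorem θ_add_left (t t' x : c.F) : s.θ (t + t') x = s.θ t x + s.θ t' x := by
  have h0 : c.ψ (dlt W (c.u t') (s.sx x)) 1 = 0 := by
    rw [dlt_apply, map_sub, c.psi_u, s.psi_sx]; simp
  have h := dlt_mul (c.u t) (c.u t') (s.sx x)
  rw [← c.u_add, s.dlt_u hD t (dlt W _ _), h0, mul_zero, map_zero, s.θ_zero_right, add_zero, add_zero] at h
  rw [θ, θ, θ, h, add_mul, map_add]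
  abel

omit [Finite W] hD in
theorem θ_zero_left (x : c.F) : s.θ 0 x = 0 := by
  rw [θ, c.u_zero, dlt_one, zero_mul, map_zero, sub_zero]

theorem θ_neg_left (t x : c.F) : s.θ (-t) x = -s.θ t x := by
  refine eq_neg_of_add_eq_zero_left ?_
  rw [← s.θ_add_left hD, neg_add_cancel, s.θ_zero_left]

theorem θ_tor (μ : c.Fˣ) (t x : c.F) : s.θ ((μ : c.F) * μ * t) x = s.θ t ((μ : c.F) * x) := by
  rw [θ, ← c.tor_conj_u, dlt_conj, ← c.tor_inv, s.tor_sx, inv_inv, s.dlt_u hD, s.psi_sx]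
  simp only [Matrix.cons_val_one, Matrix.cons_val_zero, smul_add]
  rw [s.tor_sy, s.θ_mem t _ _ (c.tor_mem_L μ),
    show (μ : c.F) * (t * ((μ : c.F) * x)) = (μ : c.F) * μ * t * x by ring]
  abel

theorem dlt_l (t : c.F) (v : W) :
    dlt W (c.l t) v = s.sx (t * c.ψ v 0) + s.θ t (c.ψ v 0) := by
  have e : c.l t = c.wy * c.u (-t) * c.wy⁻¹ := by rw [c.wy_conj_u, neg_neg]
  have hy : c.ψ (c.wy⁻¹ • v) 1 = -c.ψ v 0 := by
    conv_rhs => rw [← smul_inv_smul c.wy v, c.psi_wy]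
    simp
  rw [e, dlt_conj, s.dlt_u hD, hy, neg_mul_neg, s.θ_neg_left hD, s.θ_neg_right, neg_neg, smul_add,
    s.wy_sy, s.θ_mem t _ _ c.wy_mem_L]

/-- An additive subgroup containing all `u t • v - v` contains both components. -/
theorem sy_θ_mem {K : AddSubgroup W} (h : ∀ t v, dlt W (c.u t) v ∈ K) :
    (∀ a, s.sy a ∈ K) ∧ ∀ t x, s.θ t x ∈ K := by
  have h' : ∀ t x, s.sy (t * x) + s.θ t x ∈ K := fun t x => by
    have := h t (s.sx x)
    rw [s.dlt_u hD, s.psi_sx] at this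
    simpa using this
  have hsy : ∀ a, s.sy a ∈ K := fun a => by
    have key : ∀ x, s.sy (((s.μ₀ : c.F) - 1) * x) ∈ K := fun x => by
      have h1 := sub_mem (h' ((s.μ₀ : c.F) * s.μ₀) (((s.μ₀⁻¹ : c.Fˣ) : c.F) * x)) (h' 1 x)
      rw [show s.θ ((s.μ₀ : c.F) * s.μ₀) (((s.μ₀⁻¹ : c.Fˣ) : c.F) * x) = s.θ 1 x by
          rw [← mul_one ((s.μ₀ : c.F) * s.μ₀), s.θ_tor hD, ← mul_assoc, ← Units.val_mul, mul_inv_cancel,
            Units.val_one, one_mul],
        show (s.μ₀ : c.F) * s.μ₀ * (((s.μ₀⁻¹ : c.Fˣ) : c.F) * x) = (s.μ₀ : c.F) * x by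
          rw [mul_assoc, ← mul_assoc (s.μ₀ : c.F) ((s.μ₀⁻¹ : c.Fˣ) : c.F), ← Units.val_mul, mul_inv_cancel,
            Units.val_one, one_mul],
        add_sub_add_right_eq_sub, ← map_sub] at h1
      rwa [sub_mul]
    have := key (((s.μ₀ : c.F) - 1)⁻¹ * a)
    rwa [mul_inv_cancel_left₀ s.sub_ne] at this
  refine ⟨hsy, fun t x => ?_⟩
  have := sub_mem (h' t x) (hsy (t * x))
  rwa [add_sub_cancel_left] at this

theorem θ_eq_zero_of_odd [Fact p.Prime] (hexp : ∀ v : W, p • v = 0) (hp : p ≠ 2) (t x : c.F) : s.θ t x = 0 := by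
  have h := s.θ_tor hD (-1) t x
  simp only [Units.val_neg, Units.val_one, one_mul, neg_mul, neg_neg, s.θ_neg_right] at h
  obtain ⟨k, hk⟩ := (Fact.out : p.Prime).odd_of_ne_two hp
  have h2 : (2 : ℕ) • s.θ t x = 0 := by rw [two_nsmul]; exact eq_neg_iff_add_eq_zero.mp h
  have := hexp (s.θ t x)
  rwa [hk, add_nsmul, mul_comm 2 k, mul_nsmul', h2, smul_zero, one_nsmul, zero_add] at this

end Split

/-- Fixed points of the opposite root group. -/
theorem Coord.mem_fixA_opp_iff [Finite W] {c : Coord W D} (hD : IsRoot W p D) (v : W) :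
    v ∈ fixA W c.opp ↔ c.ψ v 0 = 0 := by
  have e : c.ψ (c.wy⁻¹ • v) 1 = -c.ψ v 0 := by
    conv_rhs => rw [← smul_inv_smul c.wy v, c.psi_wy]
    simp
  rw [← smul_inv_smul c.wy v, Coord.opp, smul_mem_fixA_cj, c.mem_fixA_iff hD, e, neg_eq_zero,
    smul_inv_smul]

end Cfsg.Agent.PMinFF
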