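import Cfsg.Agent.Lib.PMinFF.Quartic

/-!
# Elements normalizing a root group, in coordinates

`Split.exists_twist`: the induced additive maps `φ` on `D` and `ξ` on `W / C_W(D)`; `Split.dich`: the two types;
`Split.exists_conj`: after a factor in `D` such an element carries the torus to the torus; `Split.maps_of_conj`:
then it preserves the complement.
-/

set_option autoImplicit false

namespace Cfsg.Agent.PMinFF

open Subgroup Subnormal
open scoped Matrix

variable {H : Type*} [Group H] {W : Type*} [AddCommGroup W] [DistribMulAction H W] {p : ℕ}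
  {D : Subgroup H}

namespace Split

variable {c : Coord W D} (s : Split c)

/-- A combination of the two axes is determined by `ψ`. -/
theorem axes_eq {w : W} (h : ∃ a b, w = s.sy a + s.sx b) :
    w = s.sy (c.ψ w 0) + s.sx (c.ψ w 1) := by
  obtain ⟨a, b, rfl⟩ := h
  rw [map_add, s.psi_sy, s.psi_sx]
  simp

theorem exists_dlt_sy (μ : c.Fˣ) (hμ : μ ≠ 1) (a : c.F) : ∃ v, dlt W (c.tor μ) v = s.sy a := by
  obtain ⟨v, hv⟩ := c.surj ![((μ : c.F) - 1)⁻¹ * a, 0]
  refine ⟨v, ?_⟩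
  rw [s.dlt_tor, hv]
  simp [mul_inv_cancel_left₀ (sub_ne_zero.mpr fun e : (μ : c.F) = 1 => hμ (Units.ext e))]

theorem exists_dlt_sx (μ : c.Fˣ) (hμ : μ ≠ 1) (a : c.F) : ∃ v, dlt W (c.tor μ) v = s.sx a := by
  have hne : ((μ⁻¹ : c.Fˣ) : c.F) - 1 ≠ 0 :=
    sub_ne_zero.mpr fun e => hμ (inv_eq_one.mp (Units.ext e))
  obtain ⟨v, hv⟩ := c.surj ![0, (((μ⁻¹ : c.Fˣ) : c.F) - 1)⁻¹ * a]
  refine ⟨v, ?_⟩
  rw [s.dlt_tor, hv]
  simp only [Matrix.cons_val_zero, Matrix.cons_val_one, mul_zero, map_zero, zero_add]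
  rw [mul_inv_cancel_left₀ hne]

variable [Finite H] [Finite W] (hD : IsRoot W p D)
include hD

include s in
omit [Finite H] in
/-- The maps induced on `D` and on `W / C_W(D)`. -/
theorem exists_twist {g : H} (hg : g ∈ normalizer (D : Set H)) :
    ∃ φ ξ : c.F →+ c.F, (∀ t, g * c.u t * g⁻¹ = c.u (φ t)) ∧
      (∀ v, c.ψ (g • v) 1 = ξ (c.ψ v 1)) ∧ Function.Bijective φ ∧ Function.Bijective ξ := by
  have h : ∀ t, ∃ t', c.u t' = g * c.u t * g⁻¹ := fun t =>
    c.exists_u ((mem_normalizer_iff.mp hg _).mp (c.u_mem t))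
  choose f hf using h
  let φ : c.F →+ c.F := AddMonoidHom.mk' f fun a b => c.u_injective (by
    rw [c.u_add, hf, hf, hf, c.u_add]; group)
  let ξ : c.F →+ c.F := AddMonoidHom.mk' (fun x => c.ψ (g • s.sx x) 1) fun a b => by
    rw [map_add, smul_add, map_add, Pi.add_apply]
  have hξ : ∀ v, c.ψ (g • v) 1 = ξ (c.ψ v 1) := fun v => by
    obtain ⟨z, hz, e⟩ := s.exists_eq v
    show _ = c.ψ (g • s.sx (c.ψ v 1)) 1
    conv_lhs => rw [e]
    have h1 := (c.mem_fixA_iff hD _).mp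
      (smul_mem_fixA_of_normalizer W hg (add_mem (s.sy_mem_fixA hD (c.ψ v 0)) (c.fixA_L_le hz)))
    rw [add_right_comm, smul_add, map_add, Pi.add_apply, h1, zero_add]
  refine ⟨φ, ξ, fun t => (hf t).symm, hξ, ?_, ?_⟩
  · have hi : Function.Injective φ := fun a b e => c.u_injective (by
      have e' : g * c.u a * g⁻¹ = g * c.u b * g⁻¹ := by rw [← hf, ← hf]; exact congrArg c.u e
      simpa using e')
    exact ⟨hi, Finite.surjective_of_injective hi⟩
  · have hi : Function.Injective ξ := by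
      rw [injective_iff_map_eq_zero]
      intro x hx
      have h1 : s.sx x ∈ fixA W D := by
        have h2 : g • s.sx x ∈ fixA W D := (c.mem_fixA_iff hD _).mpr hx
        have h3 := smul_mem_fixA_of_normalizer W (inv_mem hg) h2
        rwa [inv_smul_smul] at h3
      simpa [s.psi_sx] using (c.mem_fixA_iff hD _).mp h1
    exact ⟨hi, Finite.surjective_of_injective hi⟩

omit [Finite H] in
/-- Transport of a commutator with `D`. -/
theorem twist_rel {g : H} {φ ξ : c.F →+ c.F} (hφ : ∀ t, g * c.u t * g⁻¹ = c.u (φ t))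
    (hξ : ∀ v, c.ψ (g • v) 1 = ξ (c.ψ v 1)) (t x : c.F) :
    s.sy (φ t * ξ x) + s.θ (φ t) (ξ x) = g • s.sy (t * x) + g • s.θ t x := by
  have e := dlt_conj (W := W) g (c.u t) (g • s.sx x)
  rw [hφ, inv_smul_smul, s.dlt_u hD, s.dlt_u hD, hξ, s.psi_sx, smul_add] at e
  simpa using e

omit [Finite H] in
theorem twist_rel0 {g : H} {φ ξ : c.F →+ c.F} (hφ : ∀ t, g * c.u t * g⁻¹ = c.u (φ t))
    (hξ : ∀ v, c.ψ (g • v) 1 = ξ (c.ψ v 1)) (t x : c.F) :
    φ t * ξ x = c.ψ (g • s.sy (t * x)) 0 + c.ψ (g • s.θ t x) 0 := by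
  have e := congrFun (congrArg c.ψ (s.twist_rel hD hφ hξ t x)) 0
  simpa [s.psi_sy, (c.ker _).mpr (s.θ_mem _ _)] using e

variable [Fact p.Prime] (hd : Datum W p H)
include hd

omit [Finite H] [Fact p.Prime] hd in
/-- In characteristic two `θ` reduces to `θ 1`. -/
theorem θ_eq_one {t r : c.F} (hr : r * r = t) (x : c.F) : s.θ t x = s.θ 1 (r * x) := by
  subst hr
  by_cases hr0 : r = 0
  · rw [hr0, zero_mul, zero_mul, s.θ_zero_left, s.θ_zero_right]
  · have := s.θ_tor hD (Units.mk0 r hr0) 1 x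
    rwa [Units.val_mk0, mul_one] at this

/-- The two types. -/
theorem dich {g : H} (hg : g ∈ normalizer (D : Set H)) :
    (∀ t x, c.ψ (g • s.θ t x) 0 = 0) ∨
      (p = 2 ∧ (∀ a, c.ψ (g • s.sy a) 0 = 0) ∧ ∀ u, u ≠ 0 → c.ψ (g • s.θ 1 u) 0 ≠ 0) := by
  obtain ⟨φ, ξ, hφ, hξ, hφb, hξb⟩ := s.exists_twist hD hg
  by_cases hp : p = 2
  swap
  · exact Or.inl fun t x => by
      rw [s.θ_eq_zero_of_odd hD hd.exp hp, smul_zero, map_zero]; rfl
  have := c.charP hd
  let A : c.F →+ c.F := AddMonoidHom.mk' (fun a => c.ψ (g • s.sy a) 0) fun a b => by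
    rw [map_add, smul_add, map_add, Pi.add_apply]
  let B : c.F →+ c.F := AddMonoidHom.mk' (fun a => c.ψ (g • s.θ 1 a) 0) fun a b => by
    rw [s.θ_add_right, smul_add, map_add, Pi.add_apply]
  have hB : ∀ t x, ∀ r, r * r = t → c.ψ (g • s.θ t x) 0 = B (r * x) := fun t x r hr => by
    rw [s.θ_eq_one hD hr]; rfl
  have key : ∀ u v, u ≠ 0 → v ≠ 0 → A v + B u ≠ 0 := by
    intro u v hu hv h
    obtain ⟨t, ht⟩ : ∃ t, t = v / u * (v / u) := ⟨_, rfl⟩
    have h1 := s.twist_rel0 hD hφ hξ t (u * u / v)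
    rw [hB t _ (v / u) ht.symm, show t * (u * u / v) = v by rw [ht]; field_simp,
      show v / u * (u * u / v) = u by field_simp, show c.ψ (g • s.sy v) 0 = A v from rfl, h] at h1
    rcases mul_eq_zero.mp h1 with h2 | h2
    · rw [← map_zero φ] at h2
      exact mul_ne_zero (div_ne_zero hv hu) (div_ne_zero hv hu) (ht ▸ hφb.1 h2)
    · rw [← map_zero ξ] at h2
      exact div_ne_zero (mul_ne_zero hu hu) hv (hξb.1 h2)
  by_cases hB0 : ∀ u, B u = 0
  · refine Or.inl fun t x => ?_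
    obtain ⟨r, hr⟩ := FiniteField.isSquare_of_char_two ((ringChar.eq c.F p).trans hp) t
    rw [hB t x r hr.symm, hB0]
  push Not at hB0
  obtain ⟨u₁, hu₁⟩ := hB0
  have hu₁0 : u₁ ≠ 0 := fun e => hu₁ (by rw [e, map_zero])
  have hA : ∀ v, A v = 0 := by
    by_contra hA0
    push Not at hA0
    obtain ⟨v₀, hv₀⟩ := hA0
    have hv₀0 : v₀ ≠ 0 := fun e => hv₀ (by rw [e, map_zero])
    have hBinj : Function.Injective B := by
      rw [injective_iff_map_eq_zero]
      intro u hu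
      by_contra hu0
      have hAinj : Function.Injective A := by
        rw [injective_iff_map_eq_zero]
        intro v hv
        by_contra hv0
        exact key u v hu0 hv0 (by rw [hv, hu, add_zero])
      obtain ⟨v, hv⟩ := Finite.surjective_of_injective hAinj (-B u₁)
      refine key u₁ v hu₁0 (fun e => hu₁ ?_) (by rw [hv, neg_add_cancel])
      rw [e, map_zero] at hv
      exact neg_eq_zero.mp hv.symm
    obtain ⟨u, hu⟩ := Finite.surjective_of_injective hBinj (-A v₀)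
    refine key u v₀ (fun e => hv₀ ?_) hv₀0 (by rw [hu, add_neg_cancel])
    rw [e, map_zero] at hu
    exact neg_eq_zero.mp hu.symm
  refine Or.inr ⟨hp, hA, fun u hu h => ?_⟩
  exact key u 1 hu one_ne_zero (by rw [hA, zero_add]; exact h)

omit [Finite H] [Fact p.Prime] hd in
omit s in
/-- The images of fixed points modulo `[W, D]`. -/
theorem conj_tor_sub_mem {g : H} (hg : g ∈ normalizer (D : Set H)) (s : Split c) (μ : c.Fˣ) {v : W}
    (hv : v ∈ fixA W D) : dlt W (g * c.tor μ * g⁻¹) v ∈ img W D := by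
  rw [dlt_conj, s.dlt_tor, (c.mem_fixA_iff hD _).mp (smul_mem_fixA_of_normalizer W (inv_mem hg) hv), mul_zero,
    map_zero, add_zero]
  exact smul_mem_img hg (s.sy_mem_img hD _)

include s in
/-- A factor in `D` makes `g` carry the torus element `μ` to `ν`. -/
theorem exists_conj {g : H} (hg : g ∈ normalizer (D : Set H)) {φ ξ : c.F →+ c.F}
    (hφ : ∀ t, g * c.u t * g⁻¹ = c.u (φ t)) (hξ : ∀ v, c.ψ (g • v) 1 = ξ (c.ψ v 1))
    (hφb : Function.Bijective φ) {μ ν : c.Fˣ} (hν : ν ≠ 1)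
    (hφμ : ∀ t, φ ((μ : c.F) * μ * t) = (ν : c.F) * ν * φ t)
    (hξμ : ∀ x, ξ (((μ⁻¹ : c.Fˣ) : c.F) * x) = ((ν⁻¹ : c.Fˣ) : c.F) * ξ x) :
    ∃ r, c.u r * g * c.tor μ * (c.u r * g)⁻¹ = c.tor ν := by
  set k := g * c.tor μ * g⁻¹ with hk
  set n := (c.tor ν)⁻¹ * k with hn
  have hkn : c.tor ν * n = k := by rw [hn, mul_inv_cancel_left]
  have hnI : n ∈ inner W D := by
    refine ⟨fun d hd' => ?_, fun v => ?_, fun v hv => ?_⟩
    · obtain ⟨t, rfl⟩ := c.exists_u hd'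
      obtain ⟨t', rfl⟩ := hφb.2 t
      have e : k * c.u (φ t') * k⁻¹ = c.tor ν * c.u (φ t') * (c.tor ν)⁻¹ := by
        rw [c.tor_conj_u, ← hφμ, ← hφ, ← hφ, ← c.tor_conj_u, hk]
        group
      calc c.u (φ t') * n = (c.tor ν)⁻¹ * (c.tor ν * c.u (φ t') * (c.tor ν)⁻¹) * k := by rw [hn]; group
        _ = (c.tor ν)⁻¹ * (k * c.u (φ t') * k⁻¹) * k := by rw [e]
        _ = n * c.u (φ t') := by rw [hn]; group
    · refine (c.mem_fixA_iff hD _).mpr ?_
      rw [dlt_apply, map_sub, Pi.sub_apply, sub_eq_zero, hn, mul_smul, ← c.tor_inv, c.psi_tor, inv_inv]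
      simp only [Matrix.cons_val_one, Matrix.cons_val_zero]
      conv_rhs => rw [← smul_inv_smul g v, hξ]
      rw [hk, mul_smul, mul_smul, hξ, c.psi_tor]
      simp only [Matrix.cons_val_one, Matrix.cons_val_zero]
      rw [hξμ, ← mul_assoc, ← Units.val_mul, mul_inv_cancel, Units.val_one, one_mul]
    · have h1 : dlt W k v ∈ img W D := conj_tor_sub_mem hD hg s μ hv
      have h2 : dlt W (c.tor ν⁻¹) v ∈ img W D := by
        have := conj_tor_sub_mem hD (g := 1) (one_mem _) s ν⁻¹ hv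
        simpa using this
      rw [hn, dlt_mul, ← c.tor_inv]
      refine add_mem (add_mem h2 h1) ?_
      rw [dlt_apply (c.tor ν⁻¹) (dlt W k v)]
      exact sub_mem (smul_mem_img (tor_mem_normalizer hD ν⁻¹) h1) h1
  have hpow : (c.tor ν * n) ^ (Nat.card D - 1) = 1 := by
    rw [hkn, hk, conj_pow, tor_pow_eq_one]
    group
  obtain ⟨r, hr⟩ := s.exists_conj_tor hD hd hν hnI hpow
  refine ⟨-r, ?_⟩
  rw [hkn] at hr
  calc c.u (-r) * g * c.tor μ * (c.u (-r) * g)⁻¹ = (c.u r)⁻¹ * k * c.u r := by rw [c.u_neg, hk]; group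
    _ = c.tor ν := by rw [← hr]; group

omit [Finite H] [Fact p.Prime] hd in
/-- What a torus-compatible element does. -/
theorem maps_of_conj {g : H} (hg : g ∈ normalizer (D : Set H)) {μ ν : c.Fˣ} (hμ : μ ≠ 1) (hν : ν ≠ 1)
    (hconj : g * c.tor μ * g⁻¹ = c.tor ν) :
    (∀ z ∈ fixA W c.L, g • z ∈ fixA W c.L) ∧ (∀ a, g • s.sy a = s.sy (c.ψ (g • s.sy a) 0)) ∧
      (∀ x, g • s.sx x = s.sy (c.ψ (g • s.sx x) 0) + s.sx (c.ψ (g • s.sx x) 1)) ∧
      ∀ x, c.ψ (g • s.sx (((μ⁻¹ : c.Fˣ) : c.F) * x)) 0 = (ν : c.F) * c.ψ (g • s.sx x) 0 := by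
  have hcomm : c.tor ν * g = g * c.tor μ := by rw [← hconj, inv_mul_cancel_right]
  have hfix : ∀ z ∈ fixA W c.L, g • z ∈ fixA W c.L := fun z hz => eq_zero_of_fix (c := c) hν (by
    rw [← mul_smul, hcomm, mul_smul, hz _ (c.tor_mem_L μ)])
  have hrange : ∀ v, g • dlt W (c.tor μ) v = dlt W (c.tor ν) (g • v) := fun v => by
    rw [dlt_apply, dlt_apply, smul_sub, ← mul_smul, ← mul_smul, hcomm]
  have hax : ∀ v, g • dlt W (c.tor μ) v =
      s.sy (c.ψ (g • dlt W (c.tor μ) v) 0) + s.sx (c.ψ (g • dlt W (c.tor μ) v) 1) := fun v =>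
    s.axes_eq ⟨_, _, by rw [hrange, s.dlt_tor]⟩
  refine ⟨hfix, fun a => ?_, fun x => ?_, fun x => ?_⟩
  · obtain ⟨v, hv⟩ := s.exists_dlt_sy μ hμ a
    have h := hax v
    rw [hv] at h
    have h1 := (c.mem_fixA_iff hD _).mp (smul_mem_fixA_of_normalizer W hg (s.sy_mem_fixA hD a))
    rwa [h1, map_zero, add_zero] at h
  · obtain ⟨v, hv⟩ := s.exists_dlt_sx μ hμ x
    have h := hax v
    rwa [hv] at h
  · rw [← s.tor_sx, ← mul_smul, ← hcomm, mul_smul, c.psi_tor]
    simp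

end Split

end Cfsg.Agent.PMinFF
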