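import Cfsg.Agent.Lib.PMinFF.TwoPerm

/-!
# The components of transvections in a configuration

In a configuration with all root groups of order two all components are conjugate under the Sylow subgroup
`T`, meet it in a maximum matching, have `2ⁿ + 1` points, and `T` is transitive on its transvections.
-/

set_option autoImplicit false
set_option linter.style.haveILetI false
set_option linter.unusedSectionVars false

namespace Cfsg.Agent.PMinFF.Two

open Subgroup Subnormal

variable {H : Type*} [Group H] {W : Type*} [AddCommGroup W] [DistribMulAction H W] [Module (ZMod 2) W]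
  [Finite H] [Finite W] {T M : Subgroup H}

/-- A base component: closed, outside `M`, with its standard maximum matching inside `T`. -/
structure Good (T M : Subgroup H) (S : PS H W) : Prop where
  closed : S.Closed
  out : ∃ x ∈ S.tvs, x ∉ M
  matchT : ∀ a b : Fin S.k, a ≠ b → a.val / 2 = b.val / 2 → S.τ a b ∈ T

variable (hs : Sys W 2 T M) (h2 : ∀ E : Subgroup H, IsRoot W 2 E → Nat.card E = 2)
include hs h2

/-- A group generated by transvections preserves every closed system. -/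
theorem preserves {S : PS H W} (hS : S.Closed) {X : Set H} (hX : ∀ x ∈ X, IsTv W x) {k : H}
    (hk : k ∈ closure X) : ∀ x ∈ S.tvs, k * x * k⁻¹ ∈ S.tvs ∧ k⁻¹ * x * k ∈ S.tvs := by
  induction hk using closure_induction with
  | mem g hg =>
    intro x hx
    have hi : g⁻¹ = g := (hX g hg).inv_eq hs.toDatum
    have h : g * x * g⁻¹ ∈ S.tvs := by
      by_cases hgS : g ∈ S.tvs
      · obtain ⟨a, b, hab, rfl⟩ := hgS
        exact S.tau_conj_mem hs.toDatum h2 hab hx
      · rw [← hS.commute hs.toDatum h2 hx (hX g hg) hgS, mul_inv_cancel_right]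
        exact hx
    exact ⟨h, by rwa [hi] at h ⊢⟩
  | one => intro x hx; simpa using hx
  | mul a b _ _ ea eb =>
    intro x hx
    refine ⟨?_, ?_⟩
    · rw [show a * b * x * (a * b)⁻¹ = a * (b * x * b⁻¹) * a⁻¹ by group]
      exact (ea _ (eb x hx).1).1
    · rw [show (a * b)⁻¹ * x * (a * b) = b⁻¹ * (a⁻¹ * x * a) * b by group]
      exact (eb _ (ea x hx).2).2
  | inv a _ ea =>
    intro x hx
    refine ⟨(ea x hx).2 |> fun h => by rwa [inv_inv], ?_⟩
    rw [inv_inv]
    exact (ea x hx).1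

/-- The subgroup generated by the `T`-conjugates of a system. -/
def orbK (T : Subgroup H) (S : PS H W) : Subgroup H :=
  closure {g | ∃ t ∈ T, ∃ x ∈ S.tvs, g = t * x * t⁻¹}

theorem orbK_facts {S : PS H W} (hout : ∃ x ∈ S.tvs, x ∉ M) :
    orbK T S ⊔ T = ⊤ ∧ (orbK T S).Normal := by
  have hn : T ≤ normalizer ((orbK T S : Subgroup H) : Set H) := by
    intro t ht
    refine mem_normalizer_of_cj_le ?_
    rw [orbK, cj, MonoidHom.map_closure, closure_le]
    rintro _ ⟨_, ⟨t', ht', x, hx, rfl⟩, rfl⟩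
    refine subset_closure ⟨t * t', mul_mem ht ht', x, hx, ?_⟩
    simp [mul_assoc]
  have htop : orbK T S ⊔ T = ⊤ := by
    by_contra hne
    obtain ⟨x, hx, hxM⟩ := hout
    exact hxM (hs.huniq _ hne le_sup_right
      (mem_sup_left (subset_closure ⟨1, one_mem T, x, hx, by group⟩)))
  refine ⟨htop, normalizer_eq_top_iff.mp (top_le_iff.mp ?_)⟩
  rw [← htop]
  exact sup_le le_normalizer hn

/-- A transvection has a conjugate in `T`. -/
theorem exists_conj_T {Q : Subgroup H} (hQ : IsPGroup 2 Q) : ∃ g : H, ∀ x ∈ Q, g * x * g⁻¹ ∈ T := by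
  haveI : Fact (Nat.Prime 2) := ⟨Nat.prime_two⟩
  obtain ⟨g, -, hg⟩ := exists_cj_le (H := ⊤) le_top hs.hT
    (by rw [relIndex_top_right]; exact hs.hTi) le_top hQ
  exact ⟨g, fun x hx => hg (Subnormal.conj_mem_cj hx)⟩

theorem isPGroup_zpowers {d : H} (h : IsTv W d) : IsPGroup 2 (zpowers d) := by
  haveI : Fact (Nat.Prime 2) := ⟨Nat.prime_two⟩
  exact PGroup.isPGroup_of_elementaryAbelian (h.isRoot hs.toDatum).hD

/-- Every transvection lies in a `T`-conjugate of the system. -/
theorem orbit {S : PS H W} (hS : S.Closed) (hout : ∃ x ∈ S.tvs, x ∉ M) {e : H} (he : IsTv W e) :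
    ∃ t ∈ T, ∃ x ∈ S.tvs, e = t * x * t⁻¹ := by
  obtain ⟨htop, hKn⟩ := orbK_facts hs h2 hout
  obtain ⟨g, hg⟩ := exists_conj_T hs h2 (isPGroup_zpowers hs h2 he)
  have hsT : g * e * g⁻¹ ∈ T := hg e (mem_zpowers e)
  set s := g * e * g⁻¹ with hsdef
  have hsv : IsTv W s := (he.conj hs.toDatum g).1
  have hmain : ∃ t ∈ T, ∃ x ∈ S.tvs, s = t * x * t⁻¹ := by
    by_contra hc
    push Not at hc
    have hcomm : orbK T S ≤ centralizer {g | ∃ t ∈ T, g = t * s * t⁻¹} := by
      rw [orbK, closure_le]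
      rintro _ ⟨t, ht, x, hx, rfl⟩ _ ⟨t', ht', rfl⟩
      have hv : IsTv W (t⁻¹ * (t' * s * t'⁻¹) * t) := by
        have := (hsv.conj hs.toDatum (t⁻¹ * t')).1
        convert this using 1
        group
      have hne : t⁻¹ * (t' * s * t'⁻¹) * t ∉ S.tvs := fun h =>
        hc (t'⁻¹ * t) (mul_mem (inv_mem ht') ht) _ h (by group)
      have h := hS.commute hs.toDatum h2 hx hv hne
      calc t' * s * t'⁻¹ * (t * x * t⁻¹) = t * ((t⁻¹ * (t' * s * t'⁻¹) * t) * x) * t⁻¹ := by group
        _ = t * (x * (t⁻¹ * (t' * s * t'⁻¹) * t)) * t⁻¹ := by rw [h]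
        _ = _ := by group
    set J := closure {g | ∃ t ∈ T, g = t * s * t⁻¹} with hJ
    have hJT : J ≤ T := by
      rw [hJ, closure_le]
      rintro _ ⟨t, ht, rfl⟩
      exact mul_mem (mul_mem ht hsT) (inv_mem ht)
    have hJn : J.Normal := by
      rw [← normalizer_eq_top_iff, eq_top_iff, ← htop]
      refine sup_le ?_ fun t ht => mem_normalizer_of_cj_le ?_
      · refine le_trans ?_ (centralizer_le_normalizer _)
        rw [hJ, centralizer_closure]
        exact hcomm
      · rw [hJ, cj, MonoidHom.map_closure, closure_le]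
        rintro _ ⟨_, ⟨t', ht', rfl⟩, rfl⟩
        refine subset_closure ⟨t * t', mul_mem ht ht', ?_⟩
        simp [mul_assoc]
    have hb := hs.pker J hJn (hs.hT.to_le hJT)
    refine hsv.1 ?_
    have : s ∈ J := subset_closure ⟨1, one_mem T, by group⟩
    rwa [hb, mem_bot] at this
  obtain ⟨t, ht, x, hx, hst⟩ := hmain
  haveI := hKn
  have hmem : g⁻¹ * t ∈ T ⊔ orbK T S := by rw [sup_comm, htop]; exact mem_top _
  obtain ⟨t', ht', k, hk, htk⟩ := mem_sup_of_normal_right.mp hmem
  refine ⟨t', ht', k * x * k⁻¹, (preserves hs h2 hS ?_ hk x hx).1, ?_⟩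
  · rintro _ ⟨t, -, x, hx, rfl⟩
    exact ((S.isTv_of_mem hx).conj hs.toDatum t).1
  · calc e = g⁻¹ * s * g := by rw [hsdef]; group
      _ = (g⁻¹ * t) * x * (g⁻¹ * t)⁻¹ := by rw [hst]; group
      _ = _ := by rw [← htk]; group

/-- Transvections of `T` commute. -/
theorem commute_T {d e : H} (h : IsTv W d) (he : IsTv W e) (hdT : d ∈ T) (heT : e ∈ T) :
    phi W d (ctr W e) = 0 := by
  haveI : Fact (Nat.Prime 2) := ⟨Nat.prime_two⟩
  exact (h.commute_iff hs.toDatum h2 he).mp ((h.isRoot hs.toDatum).commute_of_pGroup hs.toDatum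
    (he.isRoot hs.toDatum) hs.hT (zpowers_le.mpr hdT) (zpowers_le.mpr heT) d (mem_zpowers d) e
    (mem_zpowers e))

/-- A base component exists. -/
theorem exists_good {D : Subgroup H} (hD : IsRoot W 2 D) : ∃ S : PS H W, Good T M S := by
  haveI : Fact (Nat.Prime 2) := ⟨Nat.prime_two⟩
  obtain ⟨y, hyT, c, hcM⟩ := hs.out D hD
  have hD' := isRoot_cj hD y
  obtain ⟨d, hd, hDd⟩ := exists_tv_of_isRoot hs.toDatum h2 hD'
  revert c hyT
  rw [hDd]
  intro hyT c hcM
  obtain ⟨x, hx, -, ha, -, hL⟩ := hd.exists_partner hs.toDatum h2 c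
  have hxM : x ∉ M := fun h => hcM (hL.trans (sup_le (hyT.trans hs.hTM) (zpowers_le.mpr h)))
  obtain ⟨S₀, hd₀, hS₀⟩ := exists_closed hs.toDatum h2 hd
  have hout₀ : ∃ x ∈ S₀.tvs, x ∉ M := ⟨x, hS₀.mem hd₀ hx ha, hxM⟩
  set Q := closure {g | ∃ a b : Fin S₀.k, a ≠ b ∧ a.val / 2 = b.val / 2 ∧ S₀.τ a b = g} with hQ
  have hcomm : ∀ u ∈ {g | ∃ a b : Fin S₀.k, a ≠ b ∧ a.val / 2 = b.val / 2 ∧ S₀.τ a b = g},
      ∀ v ∈ {g | ∃ a b : Fin S₀.k, a ≠ b ∧ a.val / 2 = b.val / 2 ∧ S₀.τ a b = g}, u * v = v * u := by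
    rintro _ ⟨a, b, hab, hab2, rfl⟩ _ ⟨c, e, hce, hce2, rfl⟩
    refine ((S₀.tv a b hab).commute_iff hs.toDatum h2 (S₀.tv c e hce)).mpr ?_
    rw [S₀.incid hab hce]
    have ha : a.val ≠ b.val := fun e => hab (Fin.ext e)
    have hc : c.val ≠ e.val := fun e' => hce (Fin.ext e')
    by_cases h : a.val / 2 = c.val / 2
    · rcases (show (a.val = c.val ∧ b.val = e.val) ∨ (a.val = e.val ∧ b.val = c.val) by omega) with
        ⟨e1, e2⟩ | ⟨e1, e2⟩
      · rw [Fin.ext e1, Fin.ext e2]; simp [dl, hce, Ne.symm hce]; rfl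
      · rw [Fin.ext e1, Fin.ext e2]; simp [dl, hce, Ne.symm hce]; rfl
    · have n1 : a ≠ c := fun e => h (by rw [e])
      have n2 : a ≠ e := fun e' => h (by rw [e', hce2])
      have n3 : b ≠ c := fun e => h (by rw [hab2, e])
      have n4 : b ≠ e := fun e' => h (by rw [hab2, e', hce2])
      simp [dl, n1, n2, n3, n4]
  have hQc : ∀ u ∈ Q, ∀ v ∈ Q, u * v = v * u := fun u hu v hv => by
    haveI := Subgroup.isMulCommutative_closure hcomm
    exact congrArg Subtype.val (mul_comm' (⟨u, hu⟩ : Q) ⟨v, hv⟩)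
  have hQ2 : IsPGroup 2 Q := by
    refine PGroup.isPGroup_of_elementaryAbelian (PGroup.isElementaryAbelian_of_forall hQc fun u hu => ?_)
    induction hu using closure_induction with
    | mem g hg =>
      obtain ⟨a, b, hab, -, rfl⟩ := hg
      rw [pow_two, (S₀.tv a b hab).mul_self hs.toDatum]
    | one => exact one_pow 2
    | mul a b ha hb ea eb => rw [(show Commute a b from hQc a ha b hb).mul_pow, ea, eb, one_mul]
    | inv a _ ea => rw [inv_pow, ea, inv_one]
  obtain ⟨g, hg⟩ := exists_conj_T hs h2 hQ2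
  refine ⟨S₀.conj hs.toDatum g, PS.closed_conj hs.toDatum hS₀ g, ?_, fun a b hab hab2 =>
    hg _ (subset_closure ⟨a, b, hab, hab2, rfl⟩)⟩
  obtain ⟨t, ht, z, hz, hxz⟩ := orbit hs h2 hS₀ hout₀ ((S₀.isTv_of_mem hd₀).conj hs.toDatum g).1
  -- the conjugate is the `t`-translate of `S₀`
  have heq : (S₀.conj hs.toDatum g).tvs = (S₀.conj hs.toDatum t).tvs := by
    refine PS.tvs_eq_of_mem (PS.closed_conj hs.toDatum hS₀ g) (PS.closed_conj hs.toDatum hS₀ t)
      (e := g * d * g⁻¹) ?_ ?_
    · rw [PS.conj_tvs]; exact ⟨d, hd₀, rfl⟩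
    · rw [PS.conj_tvs]; exact ⟨z, hz, hxz.symm⟩
  obtain ⟨x₀, hx₀, hx₀M⟩ := hout₀
  refine ⟨t * x₀ * t⁻¹, by rw [heq, PS.conj_tvs]; exact ⟨x₀, hx₀, rfl⟩, fun h => hx₀M ?_⟩
  have htM := hs.hTM ht
  have := mul_mem (mul_mem (inv_mem htM) h) htM
  simpa [mul_assoc] using this

variable {S : PS H W} (hg : Good T M S)
include hg

theorem good_conj {t : H} (ht : t ∈ T) : Good T M (S.conj hs.toDatum t) := by
  refine ⟨PS.closed_conj hs.toDatum hg.closed t, ?_, fun a b hab hab2 =>
    mul_mem (mul_mem ht (hg.matchT a b hab hab2)) (inv_mem ht)⟩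
  obtain ⟨x, hx, hxM⟩ := hg.out
  refine ⟨t * x * t⁻¹, by rw [PS.conj_tvs]; exact ⟨x, hx, rfl⟩, fun h => hxM ?_⟩
  have htM := hs.hTM ht
  have := mul_mem (mul_mem (inv_mem htM) h) htM
  simpa [mul_assoc] using this

/-- The transvections of the system inside `T` are the matched pairs. -/
theorem mem_T_iff {a b : Fin S.k} (hab : a ≠ b) : S.τ a b ∈ T ↔ a.val / 2 = b.val / 2 := by
  refine ⟨fun hT => ?_, hg.matchT a b hab⟩
  by_contra hne
  have key : ∀ a b : Fin S.k, a ≠ b → S.τ a b ∈ T → a.val / 2 ≠ b.val / 2 → a.val / 2 < S.k / 2 →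
      False := by
    intro a b hab hT hne hlt
    let a' : Fin S.k := ⟨2 * (a.val / 2) + (1 - a.val % 2), by omega⟩
    have haa' : a ≠ a' := fun e => by have := congrArg Fin.val e; simp only [a'] at this; omega
    have hba' : b ≠ a' := fun e => hne (by rw [e]; simp only [a']; omega)
    have h0 := commute_T hs h2 (S.tv a b hab) (S.tv a a' haa') hT
      (hg.matchT a a' haa' (by simp only [a']; omega))
    rw [S.incid hab haa'] at h0
    simp [dl, haa', hab.symm, hba'] at h0
  have ha : a.val ≠ b.val := fun e => hab (Fin.ext e)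
  by_cases hlt : a.val / 2 < S.k / 2
  · exact key a b hab hT hne hlt
  · refine key b a hab.symm (S.tau_symm hs.toDatum hab ▸ hT) (Ne.symm hne) ?_
    have := a.isLt
    have := b.isLt
    omega

/-- The product realising the exchange of two matched pairs lies in `M`. -/
theorem swap_mem_M {a a' b b' : Fin S.k} (haa : a ≠ a') (ha2 : a.val / 2 = a'.val / 2) (hbb : b ≠ b')
    (hb2 : b.val / 2 = b'.val / 2) (hne : a.val / 2 ≠ b.val / 2) : S.τ a b * S.τ a' b' ∈ M := by
  set TT : Set H := {g | g ∈ T ∧ IsTv W g} with hTT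
  have hNT : T ≤ normalizer TT := by
    intro t ht
    refine mem_set_normalizer_iff.mpr fun n => ⟨fun hn => ⟨mul_mem (mul_mem ht hn.1) (inv_mem ht),
      (hn.2.conj hs.toDatum t).1⟩, fun hn => ?_⟩
    have h1 := mul_mem (mul_mem (inv_mem ht) hn.1) ht
    have h3 := (hn.2.conj hs.toDatum t⁻¹).1
    rw [show t⁻¹ * (t * n * t⁻¹) * t = n by group] at h1
    rw [show t⁻¹ * (t * n * t⁻¹) * t⁻¹⁻¹ = n by group] at h3
    exact ⟨h1, h3⟩
  have hNne : normalizer TT ≠ ⊤ := by
    intro htop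
    have hn : (closure TT).Normal := by
      rw [← normalizer_eq_top_iff, eq_top_iff, ← htop]
      intro g hg'
      refine mem_normalizer_of_cj_le ?_
      rw [cj, MonoidHom.map_closure, closure_le]
      rintro _ ⟨n, hn, rfl⟩
      exact subset_closure ((mem_set_normalizer_iff.mp hg' n).mp hn)
    have hb := hs.pker _ hn (hs.hT.to_le (by rw [closure_le]; exact fun g h => h.1))
    have hmem : S.τ a a' ∈ closure TT := subset_closure ⟨hg.matchT a a' haa ha2, S.tv a a' haa⟩
    rw [hb, mem_bot] at hmem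
    exact (S.tv a a' haa).1 hmem
  refine hs.huniq _ hNne hNT ?_
  have n1 : a ≠ b := fun e => hne (by rw [e])
  have n2 : a' ≠ b' := fun e => hne (by rw [ha2, hb2, e])
  set x := S.τ a b * S.τ a' b' with hx
  -- conjugation by `x`
  have hcj : ∀ c e, c ≠ e → x * S.τ c e * x⁻¹ =
      S.τ (Equiv.swap a b (Equiv.swap a' b' c)) (Equiv.swap a b (Equiv.swap a' b' e)) := fun c e hce => by
    rw [hx, show S.τ a b * S.τ a' b' * S.τ c e * (S.τ a b * S.τ a' b')⁻¹ =
      S.τ a b * (S.τ a' b' * S.τ c e * (S.τ a' b')⁻¹) * (S.τ a b)⁻¹ by group,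
      S.conj_tau hs.toDatum h2 n2 hce, S.conj_tau hs.toDatum h2 n1
        fun e' => hce ((Equiv.swap a' b').injective e')]
  have hxx : ∀ n ∈ TT, x * n * x⁻¹ ∈ TT := by
    rintro n ⟨hnT, hnv⟩
    refine ⟨?_, (hnv.conj hs.toDatum x).1⟩
    by_cases hnS : n ∈ S.tvs
    · obtain ⟨c, e, hce, rfl⟩ := hnS
      have hce2 := (mem_T_iff hs h2 hg hce).mp hnT
      rw [hcj c e hce, mem_T_iff hs h2 hg fun e' => hce
        ((Equiv.swap a' b').injective ((Equiv.swap a b).injective e'))]
      have := fun u : Fin S.k => (show u.val / 2 = a.val / 2 → u = a ∨ u = a' from fun h => by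
        have : a.val ≠ a'.val := fun e => haa (Fin.ext e)
        rcases (show u.val = a.val ∨ u.val = a'.val by omega) with h | h
        · exact Or.inl (Fin.ext h)
        · exact Or.inr (Fin.ext h))
      have := fun u : Fin S.k => (show u.val / 2 = b.val / 2 → u = b ∨ u = b' from fun h => by
        have : b.val ≠ b'.val := fun e => hbb (Fin.ext e)
        rcases (show u.val = b.val ∨ u.val = b'.val by omega) with h | h
        · exact Or.inl (Fin.ext h)
        · exact Or.inr (Fin.ext h))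
      have img : ∀ u : Fin S.k, (Equiv.swap a b (Equiv.swap a' b' u)).val / 2 =
          if u.val / 2 = a.val / 2 then b.val / 2 else if u.val / 2 = b.val / 2 then a.val / 2
          else u.val / 2 := by
        intro u
        have hab' : a ≠ b' := fun e => hne (by rw [e, hb2])
        have ha'b : a' ≠ b := fun e => hne (by rw [ha2, e])
        by_cases h1 : u = a
        · subst h1; rw [if_pos rfl, Equiv.swap_apply_of_ne_of_ne haa hab', Equiv.swap_apply_left]
        by_cases h3 : u = a'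
        · subst h3
          rw [if_pos ha2.symm, Equiv.swap_apply_left, Equiv.swap_apply_of_ne_of_ne hab'.symm hbb.symm, hb2]
        by_cases h4 : u = b
        · subst h4
          rw [if_neg (Ne.symm hne), if_pos rfl, Equiv.swap_apply_of_ne_of_ne ha'b.symm hbb,
            Equiv.swap_apply_right]
        by_cases h5 : u = b'
        · subst h5
          rw [if_neg (fun e => hne (by rw [hb2, e])), if_pos hb2.symm, Equiv.swap_apply_right,
            Equiv.swap_apply_of_ne_of_ne haa.symm ha'b, ha2]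
        rw [Equiv.swap_apply_of_ne_of_ne h3 h5, Equiv.swap_apply_of_ne_of_ne h1 h4, if_neg, if_neg]
        · intro h; rcases this u h with e | e
          · exact h4 e
          · exact h5 e
        · intro h
          rename_i f
          rcases f u h with e | e
          · exact h1 e
          · exact h3 e
      rw [img, img, hce2]
    · have c1 := hg.closed.commute hs.toDatum h2 (S.mem_tvs n1) hnv hnS
      have c2 := hg.closed.commute hs.toDatum h2 (S.mem_tvs n2) hnv hnS
      have : x * n = n * x := by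
        rw [hx, mul_assoc, c2, ← mul_assoc, c1, mul_assoc]
      rw [this, mul_inv_cancel_right]
      exact hnT
  refine mem_set_normalizer_iff.mpr fun n => ⟨hxx n, fun hn => ?_⟩
  have hc : Commute (S.τ a b) (S.τ a' b') := by
    refine ((S.tv a b n1).commute_iff hs.toDatum h2 (S.tv a' b' n2)).mpr ?_
    rw [S.incid n1 n2]
    have e1 : a ≠ b' := fun e => hne (by rw [e, hb2])
    have e2 : b ≠ a' := fun e => hne (by rw [ha2, e])
    simp [dl, haa, hbb, e1, e2]
  have hxi : x * x = 1 := by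
    rw [hx, mul_assoc, ← mul_assoc (S.τ a' b'), ← hc.eq, mul_assoc (S.τ a b) (S.τ a' b'),
      (S.tv a' b' n2).mul_self hs.toDatum, mul_one, (S.tv a b n1).mul_self hs.toDatum]
  have h := hxx _ hn
  rwa [show x * (x * n * x⁻¹) * x⁻¹ = (x * x) * n * (x * x)⁻¹ by group, hxi, one_mul, inv_one,
    mul_one] at h

/-- Some fixed vector of `T` is moved by the system. -/
theorem exists_moved : ∃ w ∈ fixA W T, ∃ g ∈ S.tvs, g • w ≠ w := by
  obtain ⟨z, hz, g₀, hg₀⟩ := hs.moved
  by_contra hc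
  push Not at hc
  refine hg₀ ?_
  have hle : orbK T S ⊔ T ≤ MulAction.stabilizer H z := by
    refine sup_le ?_ fun t ht => hz t ht
    rw [orbK, closure_le]
    rintro _ ⟨t, ht, x, hx, rfl⟩
    show (t * x * t⁻¹) • z = z
    rw [mul_smul, mul_smul, hz _ (inv_mem ht), hc z hz x hx, hz t ht]
  rw [(orbK_facts hs h2 hg.out).1] at hle
  exact hle (mem_top g₀)

/-- A fixed vector of `T` moved by the system separates the transvections outside `M`. -/
theorem cut {w : W} (hw : w ∈ fixA W T) {g : H} (_hgS : g ∈ S.tvs) (hgw : g • w ≠ w) {c e : Fin S.k}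
    (hce : c ≠ e) : S.τ c e ∈ M ↔ phi W (S.τ c e) w = 0 := by
  have hst : MulAction.stabilizer H w ≤ M := by
    refine hs.huniq _ (fun h => hgw ?_) fun t ht => hw t ht
    exact (h.ge (mem_top g) : g ∈ MulAction.stabilizer H w)
  refine ⟨fun hM => ?_, fun h => hst ((S.tv c e hce).fix h)⟩
  by_contra hne
  have h1 := (zmod2_cases _).resolve_left hne
  rw [S.phi_tau hce] at h1
  -- then every transvection of the system is in `M`
  have hin : ∀ u v, u ≠ v → S.f u w = S.f v w → S.τ u v ∈ M := fun u v huv h =>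
    hst ((S.tv u v huv).fix (by rw [S.phi_tau huv, h, CharTwo.add_self_eq_zero]))
  have hchain : ∀ u v x, u ≠ v → v ≠ x → u ≠ x → S.τ u v ∈ M → S.τ v x ∈ M → S.τ u x ∈ M := by
    intro u v x huv hvx hux a b
    have := mul_mem (mul_mem a b) (inv_mem a)
    rwa [S.conj_tau hs.toDatum h2 huv hvx, Equiv.swap_apply_right,
      Equiv.swap_apply_of_ne_of_ne (Ne.symm hux) (Ne.symm hvx)] at this
  have hto : ∀ u, u ≠ c → S.τ u c ∈ M := by
    intro u huc
    rcases zmod2_cases (S.f u w + S.f c w) with a | a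
    · exact hin u c huc (CharTwo.add_eq_zero.mp a)
    · by_cases hue : u = e
      · subst hue; rwa [S.tau_symm hs.toDatum huc]
      · refine hchain u e c hue hce.symm huc (hin u e hue ?_) (by rwa [S.tau_symm hs.toDatum hce.symm])
        revert a h1
        generalize S.f u w = x; generalize S.f c w = y; generalize S.f e w = z
        revert x y z; decide
  obtain ⟨x, ⟨u, v, huv, rfl⟩, hxM⟩ := hg.out
  refine hxM ?_
  by_cases hu : u = c
  · subst hu; rw [S.tau_symm hs.toDatum huv]; exact hto v huv.symm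
  by_cases hv : v = c
  · subst hv; exact hto u hu
  exact hchain u c v hu (Ne.symm hv) huv (hto u hu)
    (by rw [S.tau_symm hs.toDatum (Ne.symm hv)]; exact hto v hv)

/-- Four points are impossible. -/
theorem k_ne_four : S.k ≠ 4 := by
  intro hk
  -- products of two commuting transvections of a common component
  set V : Set H := {g | ∃ y z x : H, IsTv W y ∧ IsTv W z ∧ IsTv W x ∧ y ≠ z ∧ phi W y (ctr W z) = 0 ∧
    phi W y (ctr W x) = 1 ∧ phi W z (ctr W x) = 1 ∧ g = y * z} with hV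
  have hloc : ∀ y z x : H, IsTv W y → IsTv W z → IsTv W x → phi W y (ctr W x) = 1 → phi W z (ctr W x) = 1 →
      ∃ t ∈ T, y ∈ (S.conj hs.toDatum t).tvs ∧ z ∈ (S.conj hs.toDatum t).tvs := by
    intro y z x hy hz hx hyx hzx
    obtain ⟨t, ht, y₀, hy₀, rfl⟩ := orbit hs h2 hg.closed hg.out hy
    have hc := PS.closed_conj hs.toDatum hg.closed t
    have hyt : t * y₀ * t⁻¹ ∈ (S.conj hs.toDatum t).tvs := by
      rw [PS.conj_tvs]; exact ⟨y₀, hy₀, rfl⟩
    refine ⟨t, ht, hyt, hc.mem (hc.mem hyt hx hyx) hz ?_⟩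
    rwa [hx.incid_comm hs.toDatum h2 hz]
  have hsys : ∀ (R : PS H W), R.k = 4 → ∀ y ∈ R.tvs, ∀ z ∈ R.tvs, y ≠ z → phi W y (ctr W z) = 0 →
      ∀ y' ∈ R.tvs, ∀ z' ∈ R.tvs, y' ≠ z' → phi W y' (ctr W z') = 0 →
      (y * z) * (y' * z') = (y' * z') * (y * z) := by
    intro R hR
    obtain ⟨k, three, τ, f, q, α, β, tv, phi_eq, ctr_eq, pair, inj⟩ := R
    subst hR
    set R : PS H W := ⟨4, three, τ, f, q, α, β, tv, phi_eq, ctr_eq, pair, inj⟩
    rintro _ ⟨(a : Fin 4), (b : Fin 4), hab, rfl⟩ _ ⟨(c : Fin 4), (e : Fin 4), hce, rfl⟩ hne h0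
      y' ⟨(a' : Fin 4), (b' : Fin 4), hab', rfl⟩ z' ⟨(c' : Fin 4), (e' : Fin 4), hce', rfl⟩ hne' h0'
    have hdis : ∀ (a b c e : Fin 4), a ≠ b → c ≠ e → τ a b ≠ τ c e →
        phi W (τ a b) (ctr W (τ c e)) = 0 → a ≠ c ∧ a ≠ e ∧ b ≠ c ∧ b ≠ e := by
      intro a b c e hab hce hne h0
      rw [R.incid hab hce] at h0
      refine ⟨?_, ?_, ?_, ?_⟩ <;> intro e1 <;> subst e1
      · have : b ≠ e := fun e2 => hne (by rw [e2])
        simp [dl, hab.symm, hce, this] at h0
      · have : b ≠ c := fun e2 => hne (by subst e2; exact R.tau_symm hs.toDatum hab)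
        simp [dl, hab.symm, hce.symm, this] at h0
      · have : a ≠ e := fun e2 => hne (by subst e2; exact R.tau_symm hs.toDatum hab)
        simp [dl, hab, hce, this] at h0
      · have : a ≠ c := fun e2 => hne (by rw [e2])
        simp [dl, hab, hce.symm, this] at h0
    obtain ⟨n1, n2, n3, n4⟩ := hdis a b c e hab hce hne h0
    obtain ⟨m1, m2, m3, m4⟩ := hdis a' b' c' e' hab' hce' hne' h0'
    set x := R.τ a b * R.τ c e with hx
    have hcj : ∀ u v, u ≠ v → x * R.τ u v * x⁻¹ =
        R.τ (Equiv.swap a b (Equiv.swap c e u)) (Equiv.swap a b (Equiv.swap c e v)) := fun u v huv => by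
      rw [hx, show R.τ a b * R.τ c e * R.τ u v * (R.τ a b * R.τ c e)⁻¹ =
        R.τ a b * (R.τ c e * R.τ u v * (R.τ c e)⁻¹) * (R.τ a b)⁻¹ by group,
        R.conj_tau hs.toDatum h2 hce huv, R.conj_tau hs.toDatum h2 hab
          fun e' => huv ((Equiv.swap c e).injective e')]
    -- two disjoint pairs of four points determine each other
    have comp : ∀ u v p r s t : Fin 4, (u ≠ v ∧ p ≠ r ∧ u ≠ p ∧ u ≠ r ∧ v ≠ p ∧ v ≠ r) →
        (s ≠ t ∧ s ≠ u ∧ s ≠ v ∧ t ≠ u ∧ t ≠ v) → (s = p ∧ t = r) ∨ (s = r ∧ t = p) := by decide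
    have perm4 : ∀ a b c e : Fin 4, a ≠ b → c ≠ e → a ≠ c → a ≠ e → b ≠ c → b ≠ e →
        ∀ u v : Fin 4, u ≠ v →
        (let s := Equiv.swap a b (Equiv.swap c e u); let t := Equiv.swap a b (Equiv.swap c e v);
        (s = u ∧ t = v) ∨ (s = v ∧ t = u) ∨ (s ≠ u ∧ s ≠ v ∧ t ≠ u ∧ t ≠ v)) := by decide
    have himg : ∀ u v p r : Fin 4, u ≠ v → p ≠ r → u ≠ p → u ≠ r → v ≠ p → v ≠ r →
        x * R.τ u v * x⁻¹ = R.τ u v ∨ x * R.τ u v * x⁻¹ = R.τ p r := by
      intro u v p r huv hpr k1 k2 k3 k4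
      rw [hcj u v huv]
      have hst : Equiv.swap a b (Equiv.swap c e u) ≠ Equiv.swap a b (Equiv.swap c e v) := fun e1 =>
        huv ((Equiv.swap c e).injective ((Equiv.swap a b).injective e1))
      rcases perm4 a b c e hab hce n1 n2 n3 n4 u v huv with ⟨e1, e2⟩ | ⟨e1, e2⟩ | ⟨s1, s2, t1, t2⟩
      · left; rw [e1, e2]
      · left; rw [e1, e2]; exact (R.tau_symm hs.toDatum huv).symm
      · right
        rcases comp u v p r _ _ ⟨huv, hpr, k1, k2, k3, k4⟩ ⟨hst, s1, s2, t1, t2⟩ with ⟨e1, e2⟩ | ⟨e1, e2⟩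
        · rw [e1, e2]
        · rw [e1, e2]; exact (R.tau_symm hs.toDatum hpr).symm
    have hyz : R.τ a' b' * R.τ c' e' = R.τ c' e' * R.τ a' b' :=
      ((R.tv _ _ hab').commute_iff hs.toDatum h2 (R.tv _ _ hce')).mpr h0'
    have hfix : x * (R.τ a' b' * R.τ c' e') * x⁻¹ = R.τ a' b' * R.τ c' e' := by
      rw [show x * (R.τ a' b' * R.τ c' e') * x⁻¹ =
        (x * R.τ a' b' * x⁻¹) * (x * R.τ c' e' * x⁻¹) by group]
      rcases himg a' b' c' e' hab' hce' m1 m2 m3 m4 with e1 | e1 <;>
        rcases himg c' e' a' b' hce' hab' m1.symm m3.symm m2.symm m4.symm with e2 | e2 <;> rw [e1, e2]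
      · exfalso
        exact hne' (mul_left_cancel (mul_right_cancel (e1.trans e2.symm)))
      · exfalso
        exact hne' (mul_left_cancel (mul_right_cancel (e1.trans e2.symm)))
      · exact hyz.symm
    exact mul_inv_eq_iff_eq_mul.mp hfix
  have hcomm : ∀ g ∈ V, ∀ h ∈ V, g * h = h * g := by
    rintro _ ⟨y, z, x, hy, hz, hx, hne, h0, hyx, hzx, rfl⟩ _ ⟨y', z', x', hy', hz', hx', hne', h0', hyx',
      hzx', rfl⟩
    obtain ⟨t, ht, m1, m2⟩ := hloc y z x hy hz hx hyx hzx
    obtain ⟨t', ht', m1', m2'⟩ := hloc y' z' x' hy' hz' hx' hyx' hzx'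
    have hc := PS.closed_conj hs.toDatum hg.closed t
    by_cases hmem : y' ∈ (S.conj hs.toDatum t).tvs
    · have heq := PS.tvs_eq_of_mem hc (PS.closed_conj hs.toDatum hg.closed t') hmem m1'
      exact hsys (S.conj hs.toDatum t) hk y m1 z m2 hne h0 y' hmem z' (heq.symm ▸ m2') hne' h0'
    · have hmem' : z' ∉ (S.conj hs.toDatum t).tvs := fun h => hmem (by
        rw [PS.tvs_eq_of_mem hc (PS.closed_conj hs.toDatum hg.closed t') h m2']
        exact m1')
      have c1 : Commute y y' := hc.commute hs.toDatum h2 m1 hy' hmem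
      have c2 : Commute y z' := hc.commute hs.toDatum h2 m1 hz' hmem'
      have c3 : Commute z y' := hc.commute hs.toDatum h2 m2 hy' hmem
      have c4 : Commute z z' := hc.commute hs.toDatum h2 m2 hz' hmem'
      exact ((c1.mul_right c2).mul_left (c3.mul_right c4)).eq
  have hsq : ∀ g ∈ V, g * g = 1 := by
    rintro _ ⟨y, z, x, hy, hz, hx, hne, h0, -, -, rfl⟩
    have hc : Commute y z := (hy.commute_iff hs.toDatum h2 hz).mpr h0
    rw [mul_assoc y z (y * z), ← mul_assoc z y z, ← hc.eq,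
      mul_assoc y z z, hz.mul_self hs.toDatum, mul_one, hy.mul_self hs.toDatum]
  have hnorm : (closure V).Normal := by
    rw [← normalizer_eq_top_iff, eq_top_iff]
    intro g _
    refine mem_normalizer_of_cj_le ?_
    rw [cj, MonoidHom.map_closure, closure_le]
    rintro _ ⟨_, ⟨y, z, x, hy, hz, hx, hne, h0, hyx, hzx, rfl⟩, rfl⟩
    obtain ⟨gy, py, cy⟩ := hy.conj hs.toDatum g
    obtain ⟨gz, pz, cz⟩ := hz.conj hs.toDatum g
    obtain ⟨gx, px, cx⟩ := hx.conj hs.toDatum g
    refine subset_closure ⟨_, _, _, gy, gz, gx,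
      fun e => hne (mul_left_cancel (mul_right_cancel e)), ?_, ?_, ?_, ?_⟩
    · rw [cz, py, inv_smul_smul, h0]
    · rw [cx, py, inv_smul_smul, hyx]
    · rw [cx, pz, inv_smul_smul, hzx]
    · simp [mul_assoc]
  have hel : Cfsg.IsElementaryAbelian 2 (closure V) := by
    haveI := Subgroup.isMulCommutative_closure hcomm
    have hc : ∀ a ∈ closure V, ∀ b ∈ closure V, a * b = b * a := fun a ha b hb =>
      congrArg Subtype.val (mul_comm' (⟨a, ha⟩ : closure V) ⟨b, hb⟩)
    refine PGroup.isElementaryAbelian_of_forall hc fun a ha => ?_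
    induction ha using closure_induction with
    | mem g hg' => rw [pow_two, hsq g hg']
    | one => exact one_pow 2
    | mul u v hu hv eu ev => rw [(show Commute u v from hc u hu v hv).mul_pow, eu, ev, one_mul]
    | inv u _ eu => rw [inv_pow, eu, inv_one]
  haveI : Fact (Nat.Prime 2) := ⟨Nat.prime_two⟩
  have hbot := hs.pker _ hnorm (PGroup.isPGroup_of_elementaryAbelian hel)
  let p0 : Fin S.k := ⟨0, by omega⟩
  let p1 : Fin S.k := ⟨1, by omega⟩
  let p2 : Fin S.k := ⟨2, by omega⟩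
  let p3 : Fin S.k := ⟨3, by omega⟩
  have h01 : p0 ≠ p1 := by simp [p0, p1, Fin.ext_iff]
  have h23 : p2 ≠ p3 := by simp [p2, p3, Fin.ext_iff]
  have h02 : p0 ≠ p2 := by simp [p0, p2, Fin.ext_iff]
  have hne : S.τ p0 p1 ≠ S.τ p2 p3 := fun e => by
    rcases S.inj _ _ _ _ h01 h23 e with ⟨h, -⟩ | ⟨h, -⟩ <;> simp [p0, p2, p3, Fin.ext_iff] at h
  have hmem : S.τ p0 p1 * S.τ p2 p3 ∈ closure V := by
    refine subset_closure ⟨_, _, S.τ p0 p2, S.tv _ _ h01, S.tv _ _ h23, S.tv _ _ h02, hne, ?_, ?_, ?_,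
      rfl⟩ <;>
    · rw [S.incid (by assumption) (by assumption)]
      simp [dl, p0, p1, p2, p3, Fin.ext_iff]
  rw [hbot, mem_bot, mul_eq_one_iff_eq_inv, (S.tv _ _ h23).inv_eq hs.toDatum] at hmem
  exact hne hmem

/-- The number of points is odd; exactly the pairs through the unmatched point avoid `M`. -/
theorem odd_and_out : Odd S.k ∧
    ∀ u : Fin S.k, ∀ last : Fin S.k, last.val + 1 = S.k → u ≠ last → S.τ u last ∉ M := by
  obtain ⟨w, hw, g, hgS, hgw⟩ := exists_moved hs h2 hg
  have hcut := fun (c e : Fin S.k) (h : c ≠ e) => cut hs h2 hg hw hgS hgw h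
  have hpair : ∀ a b : Fin S.k, a.val / 2 = b.val / 2 → S.f a w = S.f b w := by
    intro a b h
    by_cases hab : a = b
    · rw [hab]
    · have h0 := ((S.tv a b hab).fix_iff hs.toDatum w).mp (hw _ (hg.matchT a b hab h))
      rwa [S.phi_tau hab, CharTwo.add_eq_zero] at h0
  -- matched points have equal values
  have hmatched : ∀ a b : Fin S.k, a.val / 2 < S.k / 2 → b.val / 2 < S.k / 2 →
      S.f a w = S.f b w := by
    intro a b ha hb
    by_contra hne
    have hne2 : a.val / 2 ≠ b.val / 2 := fun e => hne (hpair a b e)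
    let a' : Fin S.k := ⟨2 * (a.val / 2) + (1 - a.val % 2), by omega⟩
    let b' : Fin S.k := ⟨2 * (b.val / 2) + (1 - b.val % 2), by omega⟩
    have haa : a ≠ a' := fun e => by have := congrArg Fin.val e; simp only [a'] at this; omega
    have hbb : b ≠ b' := fun e => by have := congrArg Fin.val e; simp only [b'] at this; omega
    have ha2 : a.val / 2 = a'.val / 2 := by simp only [a']; omega
    have hb2 : b.val / 2 = b'.val / 2 := by simp only [b']; omega
    have hx := swap_mem_M hs h2 hg haa ha2 hbb hb2 hne2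
    obtain ⟨c, hca, hca', hcb, hcb'⟩ : ∃ c : Fin S.k, c ≠ a ∧ c ≠ a' ∧ c ≠ b ∧ c ≠ b' := by
      obtain ⟨c, hc⟩ : ∃ c, c ∉ ({a, a', b, b'} : Finset (Fin S.k)) := by
        by_contra hall
        push Not at hall
        have h1 : (Finset.univ : Finset (Fin S.k)).card ≤ ({a, a', b, b'} : Finset (Fin S.k)).card :=
          Finset.card_le_card fun x _ => hall x
        have h3 := (Finset.card_le_four (a := a) (b := a') (c := b) (d := b'))
        have h4 := k_ne_four hs h2 hg
        simp at h1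
        omega
      exact ⟨c, by simpa using hc⟩
    have n1 : a ≠ b := fun e => hne2 (by rw [e])
    have n2 : a' ≠ b' := fun e => hne2 (by rw [ha2, hb2, e])
    have hab' : a ≠ b' := fun e => hne2 (by rw [e, ← hb2])
    have ha'b : a' ≠ b := fun e => hne2 (by rw [ha2, e])
    have conjx : ∀ u v, u ≠ v → S.τ u v ∈ M →
        S.τ (Equiv.swap a b (Equiv.swap a' b' u)) (Equiv.swap a b (Equiv.swap a' b' v)) ∈ M := by
      intro u v huv hM
      have := mul_mem (mul_mem hx hM) (inv_mem hx)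
      rwa [show S.τ a b * S.τ a' b' * S.τ u v * (S.τ a b * S.τ a' b')⁻¹ =
        S.τ a b * (S.τ a' b' * S.τ u v * (S.τ a' b')⁻¹) * (S.τ a b)⁻¹ by group,
        S.conj_tau hs.toDatum h2 n2 huv, S.conj_tau hs.toDatum h2 n1
          fun e' => huv ((Equiv.swap a' b').injective e')] at this
    have inM : ∀ u v, u ≠ v → (S.τ u v ∈ M ↔ S.f u w = S.f v w) := fun u v huv => by
      rw [hcut u v huv, S.phi_tau huv, CharTwo.add_eq_zero]
    rcases eq_or_ne (S.f c w) (S.f a w) with hc | hc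
    · have := conjx a c hca.symm ((inM a c hca.symm).mpr hc.symm)
      rw [Equiv.swap_apply_of_ne_of_ne haa hab', Equiv.swap_apply_left,
        Equiv.swap_apply_of_ne_of_ne hca' hcb', Equiv.swap_apply_of_ne_of_ne hca hcb, inM b c hcb.symm,
        hc] at this
      exact hne this.symm
    · have hcb2 : S.f c w = S.f b w := by
        revert hc hne
        generalize S.f a w = x; generalize S.f b w = y; generalize S.f c w = z
        revert x y z; decide
      have := conjx b c hcb.symm ((inM b c hcb.symm).mpr hcb2.symm)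
      rw [Equiv.swap_apply_of_ne_of_ne ha'b.symm hbb, Equiv.swap_apply_right,
        Equiv.swap_apply_of_ne_of_ne hca' hcb', Equiv.swap_apply_of_ne_of_ne hca hcb, inM a c hca.symm,
        hcb2] at this
      exact hne this
  obtain ⟨a, b, hab, rfl⟩ := hgS
  have hgab : S.f a w ≠ S.f b w := fun e => hgw ((S.tv a b hab).fix (by
    rw [S.phi_tau hab, e, CharTwo.add_self_eq_zero]))
  have hodd : Odd S.k := by
    by_contra hev
    rw [Nat.not_odd_iff_even] at hev
    obtain ⟨m, hm⟩ := hev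
    exact hgab (hmatched a b (by have := a.isLt; omega) (by have := b.isLt; omega))
  refine ⟨hodd, fun u last hlast hu => ?_⟩
  obtain ⟨m, hm⟩ := hodd
  have hval : ∀ x : Fin S.k, x ≠ last → x.val / 2 < S.k / 2 := fun x hx => by
    have : x.val ≠ last.val := fun e => hx (Fin.ext e)
    omega
  rw [hcut u last hu, S.phi_tau hu, CharTwo.add_eq_zero]
  intro e
  apply hgab
  have hall : ∀ x, S.f x w = S.f last w := fun x => by
    by_cases hx : x = last
    · rw [hx]
    · rw [hmatched x u (hval x hx) (hval u hu), e]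
  rw [hall a, hall b]

/-- `T` is transitive on its transvections. -/
theorem transitive {d : H} (hd : IsTv W d) (hdT : d ∈ T) {p q : Fin S.k} (hpq : p ≠ q)
    (hpq2 : p.val / 2 = q.val / 2) : ∃ t ∈ T, S.τ p q = t * d * t⁻¹ := by
  classical
  obtain ⟨hodd, hout⟩ := odd_and_out hs h2 hg
  obtain ⟨m, hm⟩ := hodd
  let last : Fin S.k := ⟨S.k - 1, by omega⟩
  haveI : Fintype H := Fintype.ofFinite H
  set B : Finset H := Finset.univ.filter fun e => ∃ t ∈ T, e = t * d * t⁻¹ with hB
  have hBtv : ∀ e ∈ B, IsTv W e ∧ e ∈ T := by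
    intro e he
    obtain ⟨t, ht, rfl⟩ := (Finset.mem_filter.mp he).2
    exact ⟨(hd.conj hs.toDatum t).1, mul_mem (mul_mem ht hdT) (inv_mem ht)⟩
  have hBT : ∀ t ∈ T, ∀ e ∈ B, t * e * t⁻¹ ∈ B := by
    intro t ht e he
    obtain ⟨t', ht', rfl⟩ := (Finset.mem_filter.mp he).2
    exact Finset.mem_filter.mpr ⟨Finset.mem_univ _, t * t', mul_mem ht ht', by group⟩
  set w : W := ∑ e ∈ B, ctr W e with hw
  have hwT : w ∈ fixA W T := by
    intro t ht
    rw [hw, Finset.smul_sum]
    refine Finset.sum_bij' (fun e _ => t * e * t⁻¹) (fun e _ => t⁻¹ * e * t) (fun e he => hBT t ht e he)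
      (fun e he => by simpa using hBT t⁻¹ (inv_mem ht) e he) (fun e _ => by group) (fun e _ => by group) ?_
    intro e he
    rw [((hBtv e he).1.conj hs.toDatum t).2.2]
  -- the value of the cut
  have hval : ∀ u v : Fin S.k, u ≠ v → u.val / 2 = v.val / 2 →
      phi W (S.τ u last) w = if S.τ u v ∈ B then 1 else 0 := by
    intro u v huv huv2
    have hul : u ≠ last := fun e => by
      have h1 := congrArg Fin.val e
      have h3 : v.val ≠ u.val := fun e => huv (Fin.ext e.symm)
      have := v.isLt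
      simp only [last] at h1; omega
    have hvl : v ≠ last := fun e => by
      have h1 := congrArg Fin.val e
      have h3 : v.val ≠ u.val := fun e => huv (Fin.ext e.symm)
      have := u.isLt
      simp only [last] at h1; omega
    have hterm : ∀ e ∈ B, phi W (S.τ u last) (ctr W e) = if S.τ u v = e then 1 else 0 := by
      intro e he
      obtain ⟨hev, heT⟩ := hBtv e he
      by_cases heS : e ∈ S.tvs
      · obtain ⟨c, c', hcc, rfl⟩ := heS
        have hc2 := (mem_T_iff hs h2 hg hcc).mp heT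
        have n3 : c.val ≠ c'.val := fun e => hcc (Fin.ext e)
        have n4 : u.val ≠ v.val := fun e => huv (Fin.ext e)
        rw [S.incid hul hcc]
        have hcl : c ≠ last := fun e => by
          have h1 := congrArg Fin.val e; have := c'.isLt; simp only [last] at h1; omega
        have hcl' : c' ≠ last := fun e => by
          have h1 := congrArg Fin.val e; have := c.isLt; simp only [last] at h1; omega
        by_cases hcu : u.val / 2 = c.val / 2
        · rcases (show (c.val = u.val ∧ c'.val = v.val) ∨ (c.val = v.val ∧ c'.val = u.val) by omega) with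
            ⟨e1, e2⟩ | ⟨e1, e2⟩
          · rw [Fin.ext e1, Fin.ext e2, if_pos rfl]
            simp [dl, huv, hul.symm, Ne.symm hvl]
          · rw [Fin.ext e1, Fin.ext e2, if_pos (S.tau_symm hs.toDatum huv)]
            simp [dl, huv, hul.symm, Ne.symm hvl]
        · have n1 : u ≠ c := fun e => hcu (by rw [e])
          have n2 : u ≠ c' := fun e => hcu (by rw [e, hc2])
          rw [if_neg fun e => by
            rcases S.inj _ _ _ _ huv hcc e with ⟨h, -⟩ | ⟨h, -⟩
            · exact n1 h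
            · exact n2 h]
          simp [dl, n1, n2, Ne.symm hcl, Ne.symm hcl']
      · rw [if_neg fun e' : S.τ u v = e => heS (e' ▸ S.mem_tvs huv)]
        exact (hg.closed e hev).resolve_left heS _ (S.mem_tvs hul)
    rw [hw, map_sum, Finset.sum_congr rfl hterm, Finset.sum_ite_eq]
  -- `d` is conjugate to some matched pair of `S`
  have hdB : d ∈ B := Finset.mem_filter.mpr ⟨Finset.mem_univ _, 1, one_mem T, by group⟩
  obtain ⟨t, ht, x, ⟨u, v, huv, rfl⟩, hdx⟩ := orbit hs h2 hg.closed hg.out hd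
  have hxB : S.τ u v ∈ B := by
    have h := hBT t⁻¹ (inv_mem ht) d hdB
    rw [hdx] at h
    simpa [mul_assoc] using h
  have huv2 := (mem_T_iff hs h2 hg huv).mp (hBtv _ hxB).2
  have hne : ∀ u v : Fin S.k, u ≠ v → u.val / 2 = v.val / 2 → u ≠ last := fun u v huv huv2 e => by
    have h1 := congrArg Fin.val e
    have h3 : v.val ≠ u.val := fun e => huv (Fin.ext e.symm)
    have := v.isLt
    simp only [last] at h1; omega
  have hul := hne u v huv huv2
  have hmov : S.τ u last • w ≠ w := fun e => by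
    have h0 := ((S.tv u last hul).fix_iff hs.toDatum w).mp e
    rw [hval u v huv huv2, if_pos hxB] at h0
    exact one_ne_zero h0
  have hpl := hne p q hpq hpq2
  have hpv := hout p last (by simp [last]; omega) hpl
  rw [cut hs h2 hg hwT (S.mem_tvs hul) hmov hpl, hval p q hpq hpq2] at hpv
  by_cases hpB : S.τ p q ∈ B
  · exact (Finset.mem_filter.mp hpB).2
  · rw [if_neg hpB] at hpv
    exact absurd rfl hpv

/-- The number of points is `2ⁿ + 1`. -/
theorem exists_pow : ∃ n : ℕ, 1 ≤ n ∧ S.k = 2 ^ n + 1 := by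
  haveI : Fact (Nat.Prime 2) := ⟨Nat.prime_two⟩
  obtain ⟨hodd, -⟩ := odd_and_out hs h2 hg
  obtain ⟨m, hm⟩ := hodd
  have hk3 := S.three
  let P : Subgroup H := T ⊓ normalizer S.tvs
  letI : MulAction ↥P H := MulAction.compHom H ((MulAut.conj : H →* MulAut H).comp P.subtype)
  let lo : Fin m → Fin S.k := fun i => ⟨2 * i.val, by omega⟩
  let hi : Fin m → Fin S.k := fun i => ⟨2 * i.val + 1, by omega⟩
  have hlh : ∀ i, lo i ≠ hi i := fun i e => by simp [lo, hi, Fin.ext_iff] at e
  have hlh2 : ∀ i, (lo i).val / 2 = (hi i).val / 2 := fun i => by simp only [lo, hi]; omega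
  let i0 : Fin m := ⟨0, by omega⟩
  set x₀ := S.τ (lo i0) (hi i0) with hx₀
  have hmemP : ∀ t ∈ T, t * x₀ * t⁻¹ ∈ S.tvs → t ∈ P := by
    intro t ht hmem
    refine ⟨ht, ?_⟩
    have heq := PS.tvs_eq_of_mem (PS.closed_conj hs.toDatum hg.closed t) hg.closed (e := t * x₀ * t⁻¹)
      (by rw [PS.conj_tvs]; exact ⟨x₀, S.mem_tvs (hlh i0), rfl⟩) hmem
    rw [PS.conj_tvs] at heq
    refine mem_set_normalizer_iff.mpr fun n => ⟨fun hn => heq ▸ ⟨n, hn, rfl⟩, fun hn => ?_⟩
    rw [← heq] at hn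
    obtain ⟨n', hn', e⟩ := hn
    rwa [← mul_left_cancel (mul_right_cancel e)]
  have hbij : Nat.card (MulAction.orbit ↥P x₀) = m := by
    refine ((Nat.card_eq_of_bijective (fun i : Fin m => (⟨S.τ (lo i) (hi i), ?_⟩ :
      MulAction.orbit ↥P x₀)) ⟨?_, ?_⟩).symm.trans (Nat.card_fin m))
    · obtain ⟨t, ht, e⟩ := transitive hs h2 hg (S.tv _ _ (hlh i0)) (hg.matchT _ _ (hlh i0) (hlh2 i0))
        (hlh i) (hlh2 i)
      exact ⟨⟨t, hmemP t ht (e ▸ S.mem_tvs (hlh i))⟩, e.symm⟩
    · intro i j e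
      rcases S.inj _ _ _ _ (hlh i) (hlh j) (congrArg Subtype.val e) with ⟨h, -⟩ | ⟨h, -⟩ <;>
        simp [lo, hi, Fin.ext_iff] at h <;> omega
    · rintro ⟨y, ⟨t, ht⟩, rfl⟩
      have hm1 : t * x₀ * t⁻¹ ∈ S.tvs := (mem_set_normalizer_iff.mp ht.2 x₀).mp (S.mem_tvs (hlh i0))
      have hmT : t * x₀ * t⁻¹ ∈ T :=
        mul_mem (mul_mem ht.1 (hg.matchT _ _ (hlh i0) (hlh2 i0))) (inv_mem ht.1)
      obtain ⟨a, b, hab, he⟩ := hm1
      rw [← he] at hmT
      have hab2 := (mem_T_iff hs h2 hg hab).mp hmT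
      have hne : a.val ≠ b.val := fun e => hab (Fin.ext e)
      refine ⟨⟨a.val / 2, by have := a.isLt; have := b.isLt; omega⟩, Subtype.ext ?_⟩
      show S.τ _ _ = t * x₀ * t⁻¹
      rw [← he]
      rcases Nat.lt_or_ge a.val b.val with h | h
      · congr 1 <;> ext <;> simp only [lo, hi] <;> omega
      · rw [S.tau_symm hs.toDatum hab]
        congr 1 <;> ext <;> simp only [lo, hi] <;> omega
  obtain ⟨j, hj⟩ := (hs.hT.to_le (inf_le_left : P ≤ T)).card_orbit (p := 2) x₀
  refine ⟨j + 1, by omega, ?_⟩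
  rw [hbij] at hj
  rw [pow_succ, ← hj]
  omega

end Cfsg.Agent.PMinFF.Two
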