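import Cfsg.Agent.Lib.PMinFF.TwoSystem
import Cfsg.Agent.Lib.PMinFF.Shape

/-!
# The group of a point system

Generators of a system permute its points; for an odd number of points the group is the full symmetric group,
acting on the even-weight section.
-/

set_option autoImplicit false
set_option linter.style.haveILetI false
set_option linter.unusedSectionVars false

namespace Cfsg.Agent.PMinFF.Two

open Subgroup

variable {H : Type*} [Group H] {W : Type*} [AddCommGroup W] [DistribMulAction H W] [Module (ZMod 2) W]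

namespace PS

variable (S : PS H W)

theorem natCast_k (hk : Odd S.k) : (S.k : ZMod 2) = 1 := ZMod.natCast_eq_one_iff_odd.mpr hk

/-- The coordinates of a system. -/
def psi : W →+ (Fin S.k → ZMod 2) :=
  AddMonoidHom.mk' (fun v a => S.f a v + ∑ b, S.f b v) fun v w => by
    funext a
    simp only [map_add, Finset.sum_add_distrib, Pi.add_apply]
    abel

theorem psi_apply (v : W) (a : Fin S.k) : S.psi v a = S.f a v + ∑ b, S.f b v := rfl

theorem phi_eq_psi {a b : Fin S.k} (hab : a ≠ b) (v : W) :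
    phi W (S.τ a b) v = S.psi v a + S.psi v b := by
  rw [S.phi_tau hab, psi_apply, psi_apply]
  generalize S.f a v = x; generalize S.f b v = y; generalize ∑ b, S.f b v = z
  revert x y z; decide

theorem sum_psi (hk : Odd S.k) (v : W) : ∑ a, S.psi v a = 0 := by
  simp only [psi_apply, Finset.sum_add_distrib, Finset.sum_const, Finset.card_univ, Fintype.card_fin]
  rw [nsmul_eq_mul, S.natCast_k hk, one_mul, CharTwo.add_self_eq_zero]

theorem eq_psi (hk : Odd S.k) {v : W} {y : Fin S.k → ZMod 2} (hsum : ∑ a, y a = 0)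
    (hy : ∀ a b, a ≠ b → phi W (S.τ a b) v = y a + y b) : S.psi v = y := by
  have hc : ∀ a, S.psi v a + y a = S.psi v S.zero + y S.zero := by
    intro a
    by_cases ha : a = S.zero
    · rw [ha]
    · have h1 := (S.phi_eq_psi ha v).symm.trans (hy a _ ha)
      revert h1
      generalize S.psi v a = x; generalize S.psi v S.zero = x0; generalize y a = z; generalize y S.zero = z0
      revert x x0 z z0; decide
  have h0 : S.psi v S.zero + y S.zero = 0 := by
    have := congrArg (fun g : Fin S.k → ZMod 2 => ∑ a, g a) (funext hc)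
    simp only [Finset.sum_add_distrib, S.sum_psi hk, hsum, add_zero, Finset.sum_const, Finset.card_univ,
      Fintype.card_fin, nsmul_eq_mul, S.natCast_k hk, one_mul] at this
    exact this.symm
  funext a
  have := (hc a).trans h0
  revert this
  generalize S.psi v a = x; generalize y a = z
  revert x z; decide

theorem psi_add_q (hk : Odd S.k) (c d a : Fin S.k) : S.psi (S.q c + S.q d) a = dl a c + dl a d := by
  rw [psi_apply]
  simp only [map_add, S.pair, Finset.sum_add_distrib, Finset.sum_const, Finset.card_univ,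
    Fintype.card_fin, nsmul_eq_mul, S.natCast_k hk, one_mul]
  rw [show ∑ b, dl b c = (1 : ZMod 2) by simp [dl], show ∑ b, dl b d = (1 : ZMod 2) by simp [dl]]
  generalize dl a c = x; generalize dl a d = y; generalize S.α a = p; generalize S.β c = r
  generalize S.β d = t; generalize ∑ b, S.α b = u
  revert x y p r t u; decide

/-- The projection on the span of the centres. -/
def proj (v : W) : W := ∑ c, S.psi v c • (S.q c + S.q S.zero)

theorem psi_proj (hk : Odd S.k) (v : W) : S.psi (S.proj v) = S.psi v := by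
  funext a
  rw [proj, map_sum, Finset.sum_apply]
  simp only [ZMod.map_smul, Pi.smul_apply, smul_eq_mul, S.psi_add_q hk, mul_add, Finset.sum_add_distrib]
  rw [← Finset.sum_mul, S.sum_psi hk, zero_mul, add_zero]
  simp [dl]

/-- The span of the centres. -/
def P : AddSubgroup W := AddSubgroup.closure (ctr W '' S.tvs)

theorem q_add_mem (c : Fin S.k) : S.q c + S.q S.zero ∈ S.P := by
  by_cases hc : c = S.zero
  · rw [hc, ZModModule.add_self]; exact zero_mem _
  · rw [← S.ctr_eq _ _ hc]
    exact AddSubgroup.subset_closure ⟨_, S.mem_tvs hc, rfl⟩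

theorem proj_mem (v : W) : S.proj v ∈ S.P :=
  sum_mem fun c _ => ZMod.smul_mem (S.q_add_mem c) _

theorem P_le_img : S.P ≤ PMinFF.img W S.E := by
  rw [P, AddSubgroup.closure_le]
  rintro _ ⟨g, hg, rfl⟩
  obtain ⟨a, b, hab, rfl⟩ := hg
  obtain ⟨c, hca, hcb⟩ := S.exists_other a b
  refine AddSubgroup.subset_closure ⟨_, S.tau_mem_E hab, S.q a + S.q c, ?_⟩
  rw [(S.tv a b hab).dlt_eq, map_add, S.phi_tau_q hab, S.phi_tau_q hab,
    show dl a a = 1 by simp [dl], show dl b a = 0 by simp [dl, hab.symm],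
    show dl a c = 0 by simp [dl, Ne.symm hca], show dl b c = 0 by simp [dl, Ne.symm hcb]]
  rw [show (1 : ZMod 2) + 0 + (S.α a + S.α b) + (0 + 0 + (S.α a + S.α b)) = 1 by
    generalize S.α a + S.α b = u; revert u; decide, one_smul]

variable [Finite H]

theorem img_le_P : PMinFF.img W S.E ≤ S.P := by
  rw [PMinFF.img, AddSubgroup.closure_le]
  rintro _ ⟨g, hg, v, rfl⟩
  revert v
  induction hg using closure_induction with
  | mem x hx =>
    intro v
    rw [(S.isTv_of_mem hx).dlt_eq]
    exact ZMod.smul_mem (AddSubgroup.subset_closure ⟨x, hx, rfl⟩ : ctr W x ∈ S.P) _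
  | one =>
    intro v
    rw [dlt_one]
    exact zero_mem _
  | mul x y _ _ ex ey =>
    intro v
    rw [dlt_mul]
    exact add_mem (add_mem (ex v) (ey v)) (ex _)
  | inv x _ ex =>
    intro v
    have h : dlt W x⁻¹ v = -dlt W x (x⁻¹ • v) := by
      rw [dlt_apply, dlt_apply, smul_inv_smul, neg_sub]
    rw [h]
    exact neg_mem (ex _)

variable [Finite W] (hd : Datum W 2 H) (h2 : ∀ E : Subgroup H, IsRoot W 2 E → Nat.card E = 2)
include hd h2

/-- Elements of the group permute the points. -/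
theorem exists_perm {g : H} (hg : g ∈ S.E) :
    ∃ σ : Equiv.Perm (Fin S.k), ∀ a b, a ≠ b → g * S.τ a b * g⁻¹ = S.τ (σ a) (σ b) := by
  induction hg using closure_induction with
  | mem x hx =>
    obtain ⟨a, b, hab, rfl⟩ := hx
    exact ⟨Equiv.swap a b, fun c e hce => S.conj_tau hd h2 hab hce⟩
  | one => exact ⟨1, fun a b _ => by simp⟩
  | mul x y _ _ ex ey =>
    obtain ⟨σ, hσ⟩ := ex
    obtain ⟨π, hπ⟩ := ey
    refine ⟨σ * π, fun a b hab => ?_⟩
    rw [show x * y * S.τ a b * (x * y)⁻¹ = x * (y * S.τ a b * y⁻¹) * x⁻¹ by group, hπ a b hab,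
      hσ _ _ fun e => hab (π.injective e)]
    rfl
  | inv x _ ex =>
    obtain ⟨σ, hσ⟩ := ex
    refine ⟨σ⁻¹, fun a b hab => ?_⟩
    have := hσ (σ⁻¹ a) (σ⁻¹ b) fun e => hab (σ⁻¹.injective e)
    rw [Equiv.Perm.coe_inv, Equiv.apply_symm_apply, Equiv.apply_symm_apply] at this
    rw [← this, Equiv.Perm.coe_inv]
    group

omit h2 in
theorem perm_unique {g : H} {σ π : Equiv.Perm (Fin S.k)}
    (hσ : ∀ a b, a ≠ b → g * S.τ a b * g⁻¹ = S.τ (σ a) (σ b))
    (hπ : ∀ a b, a ≠ b → g * S.τ a b * g⁻¹ = S.τ (π a) (π b)) : σ = π := by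
  ext1 a
  obtain ⟨b, hba, -⟩ := S.exists_other a a
  obtain ⟨c, hca, hcb⟩ := S.exists_other a b
  have h : ∀ x, x ≠ a → (σ a = π a ∧ σ x = π x) ∨ (σ a = π x ∧ σ x = π a) := fun x hx =>
    S.inj _ _ _ _ (fun e => hx (σ.injective e).symm) (fun e => hx (π.injective e).symm)
      ((hσ a x hx.symm).symm.trans (hπ a x hx.symm))
  rcases h b hba with ⟨e, -⟩ | ⟨e, -⟩
  · exact e
  rcases h c hca with ⟨e', -⟩ | ⟨e', -⟩
  · exact e'
  · exact absurd (π.injective (e'.symm.trans e)) hcb

/-- The permutation of the points. -/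
noncomputable def perm : ↥S.E →* Equiv.Perm (Fin S.k) :=
  MonoidHom.mk' (fun g => (S.exists_perm hd h2 g.2).choose) fun g g' => by
    refine S.perm_unique hd (S.exists_perm hd h2 (g * g').2).choose_spec fun a b hab => ?_
    rw [Subgroup.coe_mul, show (g : H) * g' * S.τ a b * ((g : H) * g')⁻¹ =
        (g : H) * ((g' : H) * S.τ a b * (g' : H)⁻¹) * (g : H)⁻¹ by group,
      (S.exists_perm hd h2 g'.2).choose_spec a b hab,
      (S.exists_perm hd h2 g.2).choose_spec _ _ fun e => hab (Equiv.injective _ e)]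
    rfl

theorem perm_spec (g : ↥S.E) {a b : Fin S.k} (hab : a ≠ b) :
    (g : H) * S.τ a b * (g : H)⁻¹ = S.τ (S.perm hd h2 g a) (S.perm hd h2 g b) :=
  (S.exists_perm hd h2 g.2).choose_spec a b hab

theorem perm_tau {a b : Fin S.k} (hab : a ≠ b) :
    S.perm hd h2 ⟨S.τ a b, S.tau_mem_E hab⟩ = Equiv.swap a b :=
  S.perm_unique hd (S.exists_perm hd h2 (S.tau_mem_E hab)).choose_spec fun _ _ h =>
    S.conj_tau hd h2 hab h

theorem perm_surjective : Function.Surjective (S.perm hd h2) := by
  rw [← MonoidHom.range_eq_top, eq_top_iff, ← Equiv.Perm.closure_isSwap, closure_le]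
  rintro _ ⟨a, b, hab, rfl⟩
  exact ⟨_, S.perm_tau hd h2 hab⟩

theorem conj_mem_tvs {g : H} (hg : g ∈ S.E) {x : H} (hx : x ∈ S.tvs) : g * x * g⁻¹ ∈ S.tvs := by
  obtain ⟨σ, hσ⟩ := S.exists_perm hd h2 hg
  obtain ⟨a, b, hab, rfl⟩ := hx
  rw [hσ a b hab]
  exact S.mem_tvs fun e => hab (σ.injective e)

variable (hk : Odd S.k)
include hk

theorem psi_smul (g : ↥S.E) (v : W) (a : Fin S.k) :
    S.psi ((g : H) • v) (S.perm hd h2 g a) = S.psi v a := by
  have h : S.psi v = fun a => S.psi ((g : H) • v) (S.perm hd h2 g a) := by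
    refine S.eq_psi hk ?_ fun a b hab => ?_
    · rw [Equiv.sum_comp (S.perm hd h2 g) (fun a => S.psi ((g : H) • v) a), S.sum_psi hk]
    · rw [← S.phi_eq_psi (fun e => hab (Equiv.injective _ e)), ← S.perm_spec hd h2 g hab,
        ((S.tv a b hab).conj hd (g : H)).2.1, inv_smul_smul]
  exact (congrFun h a).symm

theorem psi_eq_zero_iff (v : W) : S.psi v = 0 ↔ v ∈ fixA W S.E := by
  constructor
  · intro h
    have hle : S.E ≤ MulAction.stabilizer H v := by
      rw [E, closure_le]
      rintro _ ⟨a, b, hab, rfl⟩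
      refine (S.tv a b hab).fix ?_
      rw [S.phi_eq_psi hab, h]
      exact add_zero _
    exact fun g hg => hle hg
  · intro hv
    refine S.eq_psi hk (by simp) fun a b hab => ?_
    rw [Pi.zero_apply, Pi.zero_apply, add_zero, ← (S.tv a b hab).fix_iff hd]
    exact hv _ (S.tau_mem_E hab)

/-- An element fixing the centres is trivial. -/
theorem eq_one_of_fix {g : H} (hg : g ∈ S.E) (h : ∀ v ∈ S.P, g • v = v) : g = 1 := by
  refine hd.faithful g fun v => ?_
  have h1 : v + S.proj v ∈ fixA W S.E := by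
    rw [← S.psi_eq_zero_iff hd h2 hk, map_add, S.psi_proj hk]
    funext a
    exact CharTwo.add_self_eq_zero _
  have e : v = (v + S.proj v) + S.proj v := by rw [add_assoc, ZModModule.add_self, add_zero]
  rw [e, smul_add, h1 g hg, h _ (S.proj_mem v)]

theorem perm_injective : Function.Injective (S.perm hd h2) := by
  rw [injective_iff_map_eq_one]
  intro g hg
  refine Subtype.ext (S.eq_one_of_fix hd h2 hk g.2 fun v hv => ?_)
  induction hv using AddSubgroup.closure_induction with
  | mem x hx =>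
    obtain ⟨_, ⟨a, b, hab, rfl⟩, rfl⟩ := hx
    rw [← ((S.tv a b hab).conj hd (g : H)).2.2, S.perm_spec hd h2 g hab, hg]
    rfl
  | zero => exact smul_zero _
  | add x y _ _ ex ey => rw [smul_add, ex, ey]
  | neg x _ ex => rw [smul_neg, ex]

/-- The shape of the group of a system with `2ⁿ + 1` points. -/
theorem symShape {n : ℕ} (hn : 1 ≤ n) (hkn : S.k = 2 ^ n + 1) : SymShape W 2 S.E := by
  let e := finCongr hkn
  let ρ₀ : ↥S.E ≃* Equiv.Perm (Fin S.k) :=
    MulEquiv.ofBijective (S.perm hd h2) ⟨S.perm_injective hd h2 hk, S.perm_surjective hd h2⟩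
  let ρ : ↥S.E ≃* Equiv.Perm (Fin (2 ^ n + 1)) := ρ₀.trans (e.permCongrHom)
  let ψ : W →+ (Fin (2 ^ n + 1) → ZMod 2) := AddMonoidHom.mk' (fun v i => S.psi v (e.symm i))
    fun v w => by funext i; simp
  refine ⟨rfl, n, hn, ρ, ψ, fun v => ?_, fun v => ?_, fun x hx => ?_, fun g v i => ?_⟩
  · rw [← S.psi_eq_zero_iff hd h2 hk]
    constructor
    · intro h
      funext a
      simpa [ψ] using congrFun h (e a)
    · intro h
      funext i
      simp [ψ, h]
  · show ∑ i, S.psi v (e.symm i) = 0
    rw [Equiv.sum_comp e.symm (fun a => S.psi v a), S.sum_psi hk]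
  · refine ⟨∑ c, x (e c) • (S.q c + S.q S.zero),
      S.P_le_img (sum_mem fun c _ => ZMod.smul_mem (S.q_add_mem c) _), ?_⟩
    funext i
    show S.psi _ (e.symm i) = x i
    rw [map_sum, Finset.sum_apply]
    simp only [ZMod.map_smul, Pi.smul_apply, smul_eq_mul, S.psi_add_q hk, mul_add, Finset.sum_add_distrib]
    rw [← Finset.sum_mul, Equiv.sum_comp e x, hx, zero_mul, add_zero]
    simp [dl]
  · show S.psi ((g : H) • v) (e.symm i) = S.psi v (e.symm ((ρ g)⁻¹ i))
    have h := S.psi_smul hd h2 hk g v ((S.perm hd h2 g)⁻¹ (e.symm i))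
    rw [Equiv.Perm.coe_inv, Equiv.apply_symm_apply] at h
    rw [h]
    congr 1

end PS

end Cfsg.Agent.PMinFF.Two
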