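import Cfsg.Agent.Lib.PMinFF.TwoTv
import Mathlib.GroupTheory.Perm.Sign

/-!
# Point systems of transvections

A point system labels transvections by the pairs of a finite set so that the incidence of two of them is the
parity of the number of common points. Every transvection lies in a closed system: one meeting every other
transvection inside it. For an odd number of points the group generated by a system is the symmetric group on
the even-weight section.
-/

set_option autoImplicit false
set_option linter.style.haveILetI false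
set_option linter.unusedSectionVars false

namespace Cfsg.Agent.PMinFF.Two

open Subgroup

/-- The Kronecker symbol with values modulo two. -/
def dl {α : Type*} [DecidableEq α] (a c : α) : ZMod 2 := if a = c then 1 else 0

theorem dl_comm {α : Type*} [DecidableEq α] (a c : α) : dl a c = dl c a := by
  by_cases h : a = c
  · subst h; rfl
  · simp [dl, h, Ne.symm h]

variable {H : Type*} [Group H] {W : Type*} [AddCommGroup W] [DistribMulAction H W] [Module (ZMod 2) W]

variable (H W) in
/-- A point system. -/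
structure PS where
  /-- the number of points -/
  k : ℕ
  three : 3 ≤ k
  /-- the transvection of a pair -/
  τ : Fin k → Fin k → H
  /-- the functional of a point -/
  f : Fin k → W →+ ZMod 2
  /-- the vector of a point -/
  q : Fin k → W
  /-- row gauge -/
  α : Fin k → ZMod 2
  /-- column gauge -/
  β : Fin k → ZMod 2
  tv : ∀ a b, a ≠ b → IsTv W (τ a b)
  phi_eq : ∀ a b, a ≠ b → phi W (τ a b) = f a + f b
  ctr_eq : ∀ a b, a ≠ b → ctr W (τ a b) = q a + q b
  pair : ∀ a c, f a (q c) = dl a c + α a + β c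
  inj : ∀ a b c d, a ≠ b → c ≠ d → τ a b = τ c d → (a = c ∧ b = d) ∨ (a = d ∧ b = c)

namespace PS

variable (S : PS H W)

/-- The transvections of a system. -/
def tvs : Set H := {g | ∃ a b, a ≠ b ∧ S.τ a b = g}

/-- The group generated by a system. -/
def E : Subgroup H := closure S.tvs

theorem mem_tvs {a b : Fin S.k} (h : a ≠ b) : S.τ a b ∈ S.tvs := ⟨a, b, h, rfl⟩

theorem tau_mem_E {a b : Fin S.k} (h : a ≠ b) : S.τ a b ∈ S.E := subset_closure (S.mem_tvs h)

theorem isTv_of_mem {g : H} (h : g ∈ S.tvs) : IsTv W g := by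
  obtain ⟨a, b, hab, rfl⟩ := h
  exact S.tv a b hab

theorem phi_tau {a b : Fin S.k} (hab : a ≠ b) (v : W) : phi W (S.τ a b) v = S.f a v + S.f b v := by
  rw [S.phi_eq a b hab, AddMonoidHom.add_apply]

theorem phi_tau_q {a b : Fin S.k} (hab : a ≠ b) (c : Fin S.k) :
    phi W (S.τ a b) (S.q c) = dl a c + dl b c + (S.α a + S.α b) := by
  rw [S.phi_tau hab, S.pair, S.pair]
  generalize dl a c = x; generalize dl b c = y; generalize S.α a = u; generalize S.α b = w
  generalize S.β c = z
  revert x y u w z; decide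

/-- Incidence inside a system. -/
theorem incid {a b c d : Fin S.k} (hab : a ≠ b) (hcd : c ≠ d) :
    phi W (S.τ a b) (ctr W (S.τ c d)) = dl a c + dl a d + dl b c + dl b d := by
  rw [S.ctr_eq c d hcd, map_add, S.phi_tau_q hab, S.phi_tau_q hab]
  generalize dl a c = x; generalize dl a d = y; generalize dl b c = z; generalize dl b d = t
  generalize S.α a + S.α b = u
  revert x y z t u; decide

theorem exists_other (a b : Fin S.k) : ∃ c, c ≠ a ∧ c ≠ b := by
  obtain ⟨c, hc⟩ : ∃ c, c ∉ ({a, b} : Finset (Fin S.k)) := by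
    by_contra hne
    push Not at hne
    have h1 : (Finset.univ : Finset (Fin S.k)).card ≤ ({a, b} : Finset (Fin S.k)).card :=
      Finset.card_le_card fun x _ => hne x
    have h2 := Finset.card_le_two (a := a) (b := b)
    have h3 := S.three
    simp at h1
    omega
  exact ⟨c, by simpa using hc⟩

/-- The first point. -/
def zero : Fin S.k := ⟨0, lt_of_lt_of_le (by norm_num) S.three⟩

section Datum

variable [Finite H] [Finite W] (hd : Datum W 2 H) (h2 : ∀ E : Subgroup H, IsRoot W 2 E → Nat.card E = 2)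
include hd

theorem tau_symm {a b : Fin S.k} (hab : a ≠ b) : S.τ a b = S.τ b a :=
  (S.tv a b hab).eq_of_phi hd (S.tv b a hab.symm)
    (by rw [S.phi_eq a b hab, S.phi_eq b a hab.symm, add_comm])

theorem tau_smul_q {a b : Fin S.k} (hab : a ≠ b) (c : Fin S.k) :
    S.τ a b • S.q c = S.q (Equiv.swap a b c) + (S.α a + S.α b) • (S.q a + S.q b) := by
  rw [(S.tv a b hab).smul_eq, S.phi_tau_q hab, S.ctr_eq a b hab]
  by_cases hca : c = a
  · subst hca
    rw [Equiv.swap_apply_left, show dl c c + dl b c = 1 by simp [dl, hab.symm], add_smul, one_smul,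
      ← add_assoc, ← add_assoc, ZModModule.add_self, zero_add]
  by_cases hcb : c = b
  · subst hcb
    rw [Equiv.swap_apply_right, show dl a c + dl c c = 1 by simp [dl, hab], add_smul, one_smul,
      ← add_assoc, add_comm (S.q a) (S.q c), ← add_assoc, ZModModule.add_self, zero_add]
  · rw [Equiv.swap_apply_of_ne_of_ne hca hcb, show dl a c + dl b c = 0 by
      simp [dl, Ne.symm hca, Ne.symm hcb], zero_add]

include h2

/-- Conjugation inside a system. -/
theorem conj_tau {a b c d : Fin S.k} (hab : a ≠ b) (hcd : c ≠ d) :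
    S.τ a b * S.τ c d * (S.τ a b)⁻¹ = S.τ (Equiv.swap a b c) (Equiv.swap a b d) := by
  have hne : Equiv.swap a b c ≠ Equiv.swap a b d := fun e => hcd ((Equiv.swap a b).injective e)
  obtain ⟨h1, -, h3⟩ := (S.tv c d hcd).conj hd (S.τ a b)
  refine h1.eq_of_ctr hd h2 (S.tv _ _ hne) ?_
  rw [h3, S.ctr_eq c d hcd, S.ctr_eq _ _ hne, smul_add, S.tau_smul_q hd hab, S.tau_smul_q hd hab,
    add_add_add_comm, ZModModule.add_self, add_zero]

theorem tau_conj_mem {a b : Fin S.k} (hab : a ≠ b) {g : H} (hg : g ∈ S.tvs) :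
    S.τ a b * g * (S.τ a b)⁻¹ ∈ S.tvs := by
  obtain ⟨c, d, hcd, rfl⟩ := hg
  rw [S.conj_tau hd h2 hab hcd]
  exact S.mem_tvs fun e => hcd ((Equiv.swap a b).injective e)

omit h2 in
/-- The conjugate of a system. -/
noncomputable def conj (g : H) : PS H W where
  k := S.k
  three := S.three
  τ a b := g * S.τ a b * g⁻¹
  f a := (S.f a).comp (DistribSMul.toAddMonoidHom W g⁻¹)
  q a := g • S.q a
  α := S.α
  β := S.β
  tv a b hab := ((S.tv a b hab).conj hd g).1
  phi_eq a b hab := AddMonoidHom.ext fun v => by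
    rw [((S.tv a b hab).conj hd g).2.1, S.phi_tau hab]
    rfl
  ctr_eq a b hab := by rw [((S.tv a b hab).conj hd g).2.2, S.ctr_eq a b hab, smul_add]
  pair a c := by
    rw [AddMonoidHom.comp_apply, DistribSMul.toAddMonoidHom_apply, inv_smul_smul]
    exact S.pair a c
  inj a b c d hab hcd e := S.inj a b c d hab hcd (mul_left_cancel (mul_right_cancel e))

omit h2 in
theorem conj_tvs (g : H) : (S.conj hd g).tvs = (fun x => g * x * g⁻¹) '' S.tvs := by
  ext x
  constructor
  · rintro ⟨a, b, hab, rfl⟩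
    exact ⟨S.τ a b, S.mem_tvs hab, rfl⟩
  · rintro ⟨y, ⟨a, b, hab, rfl⟩, rfl⟩
    exact ⟨a, b, hab, rfl⟩

/-- Closed: the other transvections are not incident to the system. -/
def Closed : Prop := ∀ e : H, IsTv W e → e ∈ S.tvs ∨ ∀ g ∈ S.tvs, phi W g (ctr W e) = 0

omit h2 in
theorem closed_conj {S : PS H W} (hS : S.Closed) (g : H) : (S.conj hd g).Closed := by
  intro e he
  rw [conj_tvs]
  obtain ⟨h1, -, h3⟩ := he.conj hd g⁻¹
  rcases hS _ h1 with h | h
  · exact Or.inl ⟨_, h, by group⟩
  · refine Or.inr ?_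
    rintro _ ⟨y, hy, rfl⟩
    rw [((S.isTv_of_mem hy).conj hd g).2.1, ← h3]
    exact h y hy

omit hd h2 in
theorem Closed.mem {S : PS H W} (hS : S.Closed) {s e : H} (hs : s ∈ S.tvs) (he : IsTv W e)
    (h : phi W s (ctr W e) = 1) : e ∈ S.tvs :=
  (hS e he).resolve_right fun h0 => by rw [h0 s hs] at h; exact zero_ne_one h

omit hd h2 in
theorem exists_link {g g' : H} (h : g ∈ S.tvs) (h' : g' ∈ S.tvs) :
    g = g' ∨ phi W g (ctr W g') = 1 ∨
      ∃ x ∈ S.tvs, phi W g (ctr W x) = 1 ∧ phi W x (ctr W g') = 1 := by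
  obtain ⟨a, b, hab, rfl⟩ := h
  obtain ⟨c, d, hcd, rfl⟩ := h'
  rcases zmod2_cases (phi W (S.τ a b) (ctr W (S.τ c d))) with h0 | h1
  swap
  · exact Or.inr (Or.inl h1)
  by_cases hm : a = c ∨ a = d ∨ b = c ∨ b = d
  swap
  · push Not at hm
    obtain ⟨hac, had, hbc, hbd⟩ := hm
    refine Or.inr (Or.inr ⟨S.τ a c, S.mem_tvs hac, ?_, ?_⟩)
    · rw [S.incid hab hac]; simp [dl, hac, hab.symm, hbc]
    · rw [S.incid hac hcd]; simp [dl, hac, had, hcd]
  -- a common point and even incidence: two common points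
  obtain ⟨x, hxa, hxb⟩ := S.exists_other a b
  rw [S.incid hab hcd] at h0
  by_cases he : (a = c ∧ b = d) ∨ (a = d ∧ b = c)
  · rcases he with ⟨rfl, rfl⟩ | ⟨rfl, rfl⟩
    · exact Or.inl rfl
    · refine Or.inr (Or.inr ⟨S.τ a x, S.mem_tvs hxa.symm, ?_, ?_⟩)
      · rw [S.incid hab hxa.symm]; simp [dl, hxa.symm, hxb.symm, hab.symm]
      · rw [S.incid hxa.symm hcd]; simp [dl, hxa, hxb, hab]
  · exfalso
    push Not at he
    rcases hm with rfl | rfl | rfl | rfl
    · simp [dl, hab.symm, hcd, he.1 rfl] at h0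
    · simp [dl, hab.symm, hcd.symm, he.2 rfl] at h0
    · simp [dl, hab, hcd, show a ≠ d from fun e => he.2 e rfl] at h0
    · simp [dl, hab, hcd.symm, show a ≠ c from fun e => he.1 e rfl] at h0

omit hd h2 in
theorem tvs_subset_of_mem {S S' : PS H W} (hS : S.Closed) {e : H} (h : e ∈ S.tvs) (h' : e ∈ S'.tvs) :
    S'.tvs ⊆ S.tvs := by
  intro g hg
  rcases S'.exists_link h' hg with rfl | h1 | ⟨x, hx, h1, h3⟩
  · exact h
  · exact hS.mem h (S'.isTv_of_mem hg) h1
  · exact hS.mem (hS.mem h (S'.isTv_of_mem hx) h1) (S'.isTv_of_mem hg) h3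

omit hd h2 in
theorem tvs_eq_of_mem {S S' : PS H W} (hS : S.Closed) (hS' : S'.Closed) {e : H} (h : e ∈ S.tvs)
    (h' : e ∈ S'.tvs) : S.tvs = S'.tvs :=
  Set.Subset.antisymm (tvs_subset_of_mem hS' h' h) (tvs_subset_of_mem hS h h')

theorem Closed.commute {S : PS H W} (hS : S.Closed) {g e : H} (hg : g ∈ S.tvs) (he : IsTv W e)
    (hne : e ∉ S.tvs) : g * e = e * g :=
  ((S.isTv_of_mem hg).commute_iff hd h2 he).mpr ((hS e he).resolve_left hne g hg)

omit h2 in
theorem k_le : S.k ≤ Nat.card H := by
  classical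
  have hinj : Function.Injective fun b : Fin S.k => if b = S.zero then (1 : H) else S.τ S.zero b := by
    intro b c e
    dsimp only at e
    by_cases hb : b = S.zero <;> by_cases hc : c = S.zero
    · rw [hb, hc]
    · rw [if_pos hb, if_neg hc] at e
      exact absurd e.symm (S.tv _ _ (Ne.symm hc)).1
    · rw [if_neg hb, if_pos hc] at e
      exact absurd e (S.tv _ _ (Ne.symm hb)).1
    · rw [if_neg hb, if_neg hc] at e
      rcases S.inj _ _ _ _ (Ne.symm hb) (Ne.symm hc) e with ⟨-, h⟩ | ⟨h, -⟩
      · exact h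
      · exact absurd h.symm hc
  simpa using Nat.card_le_card_of_injective _ hinj

end Datum

end PS

variable [Finite H] [Finite W] (hd : Datum W 2 H) (h2 : ∀ E : Subgroup H, IsRoot W 2 E → Nat.card E = 2)
include hd h2

/-- The triangle on two incident transvections. -/
theorem exists_triangle {d x : H} (h : IsTv W d) (hx : IsTv W x) (ha : phi W d (ctr W x) = 1) :
    ∃ S : PS H W, d ∈ S.tvs := by
  have hb := h.adj_symm hd h2 hx ha
  obtain ⟨h1, h3, h4⟩ := h.conj_tv hd hx
  rw [ha, one_smul] at h4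
  simp only [hb, mul_one] at h3
  let τ : Fin 3 → Fin 3 → H := ![![1, d, x], ![d, 1, d * x * d⁻¹], ![x, d * x * d⁻¹, 1]]
  let f : Fin 3 → W →+ ZMod 2 := ![0, phi W d, phi W x]
  let q : Fin 3 → W := ![0, ctr W d, ctr W x]
  let α : Fin 3 → ZMod 2 := ![0, 1, 1]
  let β : Fin 3 → ZMod 2 := ![1, 0, 0]
  have htv : ∀ a b, a ≠ b → IsTv W (τ a b) := by
    intro a b hab
    fin_cases a <;> fin_cases b <;> first | exact absurd rfl hab | exact h | exact hx | exact h1
  have hphi : ∀ a b, a ≠ b → phi W (τ a b) = f a + f b := by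
    intro a b hab
    fin_cases a <;> fin_cases b <;> first
      | exact absurd rfl hab
      | (ext v; simp [τ, f, h3, add_comm])
  have hctr : ∀ a b, a ≠ b → ctr W (τ a b) = q a + q b := by
    intro a b hab
    fin_cases a <;> fin_cases b <;> first
      | exact absurd rfl hab
      | (simp [τ, q, h4, add_comm])
  have hpair : ∀ a c, f a (q c) = dl a c + α a + β c := by
    intro a c
    fin_cases a <;> fin_cases c <;>
      simp [f, q, α, β, dl, h.phi_ctr hd, hx.phi_ctr hd, ha, hb, CharTwo.add_self_eq_zero]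
  refine ⟨⟨3, le_rfl, τ, f, q, α, β, htv, hphi, hctr, hpair, ?_⟩, (0 : Fin 3), (1 : Fin 3), ?_, rfl⟩
  · intro a b c e hab hce heq
    have key : ∀ a b c e : Fin 3, a ≠ b → c ≠ e →
        (∀ u w : Fin 3, u ≠ w → dl a u + dl a w + dl b u + dl b w = dl c u + dl c w + dl e u + dl e w) →
        (a = c ∧ b = e) ∨ (a = e ∧ b = c) := by decide
    refine key a b c e hab hce fun u w huw => ?_
    have inc : ∀ a b, a ≠ b → phi W (τ a b) (ctr W (τ u w)) = dl a u + dl a w + dl b u + dl b w := by
      intro a b hab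
      rw [hphi a b hab, hctr u w huw, AddMonoidHom.add_apply, map_add, map_add, hpair, hpair, hpair, hpair]
      generalize dl a u = x; generalize dl a w = y; generalize dl b u = z; generalize dl b w = t
      generalize α a = p; generalize α b = r; generalize β u = m; generalize β w = n
      revert x y z t p r m n; decide
    rw [← inc a b hab, ← inc c e hce, heq]
  · exact (by decide : (0 : Fin 3) ≠ 1)

/-- A transvection outside a system, incident to it, extends it. -/
theorem PS.extend (S : PS H W) {d : H} (h : IsTv W d) (hout : d ∉ S.tvs) (a₀ : Fin S.k)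
    (hcut : ∀ b c, b ≠ c → phi W (S.τ b c) (ctr W d) = dl a₀ b + dl a₀ c) :
    ∃ S' : PS H W, S'.k = S.k + 1 ∧ S.tvs ⊆ S'.tvs ∧ d ∈ S'.tvs := by
  classical
  let dn : Fin S.k → H := fun b => if b = a₀ then d else S.τ a₀ b * d * (S.τ a₀ b)⁻¹
  have hdn : ∀ b, IsTv W (dn b) ∧ (∀ v, phi W (dn b) v = S.f a₀ v + phi W d v + S.f b v) ∧
      ctr W (dn b) = S.q a₀ + ctr W d + S.q b := by
    intro b
    by_cases hb : b = a₀
    · subst hb
      simp only [dn, if_true]
      exact ⟨h, fun v => by rw [add_comm (S.f b v), add_assoc, CharTwo.add_self_eq_zero, add_zero],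
        by rw [add_comm (S.q b), add_assoc, ZModModule.add_self, add_zero]⟩
    · have hab : a₀ ≠ b := Ne.symm hb
      simp only [dn, if_neg hb]
      have hc1 : phi W (S.τ a₀ b) (ctr W d) = 1 := by rw [hcut _ _ hab]; simp [dl, hab]
      obtain ⟨h1, h3, h4⟩ := (S.tv _ _ hab).conj_tv hd h
      refine ⟨h1, fun v => ?_, ?_⟩
      · rw [h3, h.incid_comm hd h2 (S.tv _ _ hab), hc1, mul_one, S.phi_tau hab]
        abel
      · rw [h4, hc1, one_smul, S.ctr_eq _ _ hab]
        abel
  have hold : ∀ b c e, c ≠ e → dn b ≠ S.τ c e := by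
    intro b c e hce heq
    by_cases hb : b = a₀
    · simp only [dn, if_pos hb] at heq
      exact hout ⟨c, e, hce, heq.symm⟩
    · simp only [dn, if_neg hb] at heq
      refine hout ?_
      have hab : a₀ ≠ b := Ne.symm hb
      have e2 : d = S.τ a₀ b * S.τ c e * (S.τ a₀ b)⁻¹ := by
        rw [← heq]
        have hi := (S.tv _ _ hab).inv_eq hd
        have hm := (S.tv _ _ hab).mul_self hd
        rw [hi, ← mul_assoc, ← mul_assoc, hm, one_mul, mul_assoc, hm, mul_one]
      rw [e2]
      exact S.tau_conj_mem hd h2 hab (S.mem_tvs hce)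
  have hdinj : Function.Injective dn := by
    intro b c e
    by_contra hbc
    obtain ⟨v, hv⟩ := (S.tv b c hbc).exists_one hd
    have h0 := DFunLike.congr_fun (congrArg (phi W) e) v
    rw [(hdn b).2.1, (hdn c).2.1, add_right_inj] at h0
    rw [S.phi_tau hbc, h0, CharTwo.add_self_eq_zero] at hv
    exact zero_ne_one hv
  -- the gauges at the new point
  set u : ZMod 2 := phi W d (S.q a₀) + 1 with hu
  set w : ZMod 2 := S.f a₀ (ctr W d) + 1 with hw
  have hG : ∀ c, phi W d (S.q c) = dl a₀ c + u := by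
    intro c
    by_cases hc : c = a₀
    · subst hc
      rw [hu, show dl c c = 1 by simp [dl]]
      generalize phi W d (S.q c) = x
      revert x; decide
    · have e := h.incid_comm hd h2 (S.tv a₀ c (Ne.symm hc))
      rw [hcut _ _ (Ne.symm hc), S.ctr_eq _ _ (Ne.symm hc), map_add] at e
      simp only [dl, if_true, if_neg (Ne.symm hc), add_zero] at e ⊢
      rw [hu, ← e]
      generalize phi W d (S.q a₀) = x; generalize phi W d (S.q c) = y
      revert x y; decide
  have hF : ∀ c, S.f c (ctr W d) = dl c a₀ + w := by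
    intro c
    by_cases hc : c = a₀
    · subst hc
      rw [hw, show dl c c = 1 by simp [dl]]
      generalize S.f c (ctr W d) = x
      revert x; decide
    · have e := hcut _ _ (Ne.symm hc)
      rw [S.phi_tau (Ne.symm hc)] at e
      simp only [dl, if_true, if_neg (Ne.symm hc), if_neg hc, add_zero] at e ⊢
      rw [hw]
      revert e
      generalize S.f a₀ (ctr W d) = x; generalize S.f c (ctr W d) = y
      revert x y; decide
  let τ' : Fin (S.k + 1) → Fin (S.k + 1) → H := fun x y =>
    Fin.lastCases (Fin.lastCases 1 dn y) (fun a => Fin.lastCases (dn a) (fun b => S.τ a b) y) x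
  let f' : Fin (S.k + 1) → W →+ ZMod 2 := Fin.lastCases (S.f a₀ + phi W d) S.f
  let q' : Fin (S.k + 1) → W := Fin.lastCases (S.q a₀ + ctr W d) S.q
  let α' : Fin (S.k + 1) → ZMod 2 := Fin.lastCases (S.α a₀ + u) S.α
  let β' : Fin (S.k + 1) → ZMod 2 := Fin.lastCases (S.β a₀ + w) S.β
  have htv : ∀ x y, x ≠ y → IsTv W (τ' x y) := by
    intro x y
    induction x using Fin.lastCases <;> induction y using Fin.lastCases <;> intro hxy <;> simp [τ']
    · exact absurd rfl hxy
    · exact (hdn _).1
    · exact (hdn _).1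
    · exact S.tv _ _ fun e => hxy (by rw [e])
  have hphi : ∀ x y, x ≠ y → phi W (τ' x y) = f' x + f' y := by
    intro x y
    induction x using Fin.lastCases <;> induction y using Fin.lastCases <;> intro hxy <;> simp [τ', f']
    · exact absurd rfl hxy
    · exact AddMonoidHom.ext fun v => by simp [(hdn _).2.1]
    · exact AddMonoidHom.ext fun v => by simp [(hdn _).2.1]; abel
    · exact S.phi_eq _ _ fun e => hxy (by rw [e])
  have hctr : ∀ x y, x ≠ y → ctr W (τ' x y) = q' x + q' y := by
    intro x y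
    induction x using Fin.lastCases <;> induction y using Fin.lastCases <;> intro hxy <;> simp [τ', q']
    · exact absurd rfl hxy
    · rw [(hdn _).2.2]
    · rw [(hdn _).2.2]; abel
    · exact S.ctr_eq _ _ fun e => hxy (by rw [e])
  have hpair : ∀ x y, f' x (q' y) = dl x y + α' x + β' y := by
    intro x y
    induction x using Fin.lastCases with
    | last =>
      induction y using Fin.lastCases with
      | last =>
        simp only [f', q', α', β', Fin.lastCases_last, AddMonoidHom.add_apply, map_add, S.pair, hG, hF,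
          h.phi_ctr hd, dl, if_true]
        generalize S.α a₀ = a; generalize S.β a₀ = b; generalize u = p; generalize w = r
        revert a b p r; decide
      | cast c =>
        simp only [f', q', α', β', Fin.lastCases_last, Fin.lastCases_castSucc, AddMonoidHom.add_apply,
          S.pair, hG]
        rw [show dl (Fin.last S.k) c.castSucc = 0 by simp [dl, (Fin.castSucc_ne_last c).symm]]
        generalize dl a₀ c = x; generalize S.α a₀ = a; generalize S.β c = b; generalize u = p
        revert x a b p; decide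
    | cast a =>
      induction y using Fin.lastCases with
      | last =>
        simp only [f', q', α', β', Fin.lastCases_last, Fin.lastCases_castSucc, map_add, S.pair, hF]
        rw [show dl a.castSucc (Fin.last S.k) = 0 by simp [dl, Fin.castSucc_ne_last a]]
        generalize dl a a₀ = x; generalize S.α a = p; generalize S.β a₀ = b; generalize w = r
        revert x p b r; decide
      | cast c =>
        simp only [f', q', α', β', Fin.lastCases_castSucc, S.pair]
        rw [show dl a.castSucc c.castSucc = dl a c by simp [dl, Fin.castSucc_inj]]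
  have hinj : ∀ x y z t, x ≠ y → z ≠ t → τ' x y = τ' z t → (x = z ∧ y = t) ∨ (x = t ∧ y = z) := by
    intro x y z t
    induction x using Fin.lastCases <;> induction y using Fin.lastCases <;>
      induction z using Fin.lastCases <;> induction t using Fin.lastCases <;>
      intro hxy hzt e <;>
      simp only [τ', Fin.lastCases_last, Fin.lastCases_castSucc] at e <;>
      first
        | exact absurd rfl hxy
        | exact absurd rfl hzt
        | exact Or.inl ⟨rfl, congrArg _ (hdinj e)⟩
        | exact Or.inl ⟨congrArg _ (hdinj e), rfl⟩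
        | exact Or.inr ⟨rfl, congrArg _ (hdinj e)⟩
        | exact Or.inr ⟨congrArg _ (hdinj e), rfl⟩
        | exact absurd e (hold _ _ _ fun e2 => hzt (by rw [e2]))
        | exact absurd e.symm (hold _ _ _ fun e2 => hxy (by rw [e2]))
        | (rcases S.inj _ _ _ _ (fun e2 => hxy (by rw [e2])) (fun e2 => hzt (by rw [e2])) e with
            ⟨e1, e2⟩ | ⟨e1, e2⟩
           · exact Or.inl ⟨by rw [e1], by rw [e2]⟩
           · exact Or.inr ⟨by rw [e1], by rw [e2]⟩)
  refine ⟨⟨S.k + 1, Nat.le_succ_of_le S.three, τ', f', q', α', β', htv, hphi, hctr, hpair, hinj⟩,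
    rfl, ?_, Fin.last S.k, a₀.castSucc, (Fin.castSucc_ne_last a₀).symm, ?_⟩
  · rintro _ ⟨a, b, hab, rfl⟩
    exact ⟨a.castSucc, b.castSucc, fun e => hab (Fin.castSucc_inj.mp e), by simp [τ']⟩
  · simp [τ', dn]

/-- The dichotomy: the cut of an outside transvection has a side with one point. -/
theorem PS.grow (S : PS H W) {d : H} (h : IsTv W d) (hout : d ∉ S.tvs)
    (hinc : ∃ g ∈ S.tvs, phi W g (ctr W d) = 1) :
    ∃ S' : PS H W, S'.k = S.k + 1 ∧ S.tvs ⊆ S'.tvs ∧ d ∈ S'.tvs := by
  set F : Fin S.k → ZMod 2 := fun a => S.f a (ctr W d) with hF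
  have hτ : ∀ a b, a ≠ b → phi W (S.τ a b) (ctr W d) = F a + F b := fun a b hab => S.phi_tau hab _
  have hne2 : ∀ x y : ZMod 2, x ≠ y → x + y = 1 := by decide
  by_cases hone : ∃ a₀, ∀ b, b ≠ a₀ → F b ≠ F a₀
  · obtain ⟨a₀, ha₀⟩ := hone
    refine S.extend hd h2 h hout a₀ fun b c hbc => ?_
    rw [hτ b c hbc]
    by_cases hb : b = a₀
    · subst hb
      rw [hne2 _ _ (Ne.symm (ha₀ c hbc.symm))]
      simp [dl, hbc]
    · by_cases hc : c = a₀
      · subst hc
        rw [hne2 _ _ (ha₀ b hb)]
        simp [dl, hbc.symm]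
      · have e1 := hne2 _ _ (ha₀ b hb)
        have e2 := hne2 _ _ (ha₀ c hc)
        simp only [dl, if_neg (Ne.symm hb), if_neg (Ne.symm hc), add_zero]
        revert e1 e2
        generalize F b = x; generalize F c = y; generalize F a₀ = z
        revert x y z; decide
  -- two points on each side: contradiction
  exfalso
  push Not at hone
  obtain ⟨_, ⟨a, c, hac, rfl⟩, hg⟩ := hinc
  obtain ⟨b, hba, hFb⟩ := hone a
  obtain ⟨e, hec, hFe⟩ := hone c
  rw [hτ a c hac] at hg
  have hFac : F a ≠ F c := fun e0 => by rw [e0, CharTwo.add_self_eq_zero] at hg; exact zero_ne_one hg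
  have hab : a ≠ b := Ne.symm hba
  have hce : c ≠ e := Ne.symm hec
  have hae : a ≠ e := fun e0 => hFac (by rw [e0]; exact hFe)
  have hbc : b ≠ c := fun e0 => hFac (by rw [← hFb, e0])
  have hbe : b ≠ e := fun e0 => hFac (by rw [← hFb, ← hFe, e0])
  obtain ⟨T1, hphi1, hctr1⟩ := (S.tv a c hac).conj_tv hd h
  have hbe1 : phi W (S.τ b e) (ctr W d) = 1 := by rw [hτ b e hbe, hne2]; rw [hFb, hFe]; exact hFac
  have hac1 : phi W (S.τ a c) (ctr W d) = 1 := by rw [hτ a c hac, hne2 _ _ hFac]
  rw [hac1, one_smul] at hctr1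
  simp only [h.incid_comm hd h2 (S.tv a c hac), hac1, mul_one] at hphi1
  set d₁ := S.τ a c * d * (S.τ a c)⁻¹ with hd₁
  obtain ⟨T2, hphi2, hctr2⟩ := (S.tv b e hbe).conj_tv hd T1
  set d₂ := S.τ b e * d₁ * (S.τ b e)⁻¹ with hd₂
  have hbe2 : phi W (S.τ b e) (ctr W d₁) = 1 := by
    rw [hctr1, map_add, hbe1, S.incid hbe hac]
    simp [dl, hbc, hab.symm, hae.symm, hec]
  rw [hbe2, one_smul, hctr1] at hctr2
  simp only [T1.incid_comm hd h2 (S.tv b e hbe), hbe2, mul_one, hphi1] at hphi2
  have hφ2 : phi W d₂ = phi W d + phi W (S.τ a b) + phi W (S.τ c e) := by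
    ext v
    simp only [hphi2, AddMonoidHom.add_apply, S.phi_tau hac, S.phi_tau hbe, S.phi_tau hab, S.phi_tau hce]
    abel
  have hc2 : ctr W d₂ = ctr W d + ctr W (S.τ a b) + ctr W (S.τ c e) := by
    rw [hctr2, S.ctr_eq _ _ hac, S.ctr_eq _ _ hbe, S.ctr_eq _ _ hab, S.ctr_eq _ _ hce]
    abel
  have hc' : [d, S.τ a b, S.τ c e, d₂].Pairwise fun x y => phi W x (ctr W y) = 0 := by
    have e1 : phi W d (ctr W (S.τ a b)) = 0 := by
      rw [h.incid_comm hd h2 (S.tv a b hab), hτ a b hab, hFb, CharTwo.add_self_eq_zero]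
    have e2 : phi W d (ctr W (S.τ c e)) = 0 := by
      rw [h.incid_comm hd h2 (S.tv c e hce), hτ c e hce, hFe, CharTwo.add_self_eq_zero]
    have e3 : phi W (S.τ a b) (ctr W (S.τ c e)) = 0 := by
      rw [S.incid hab hce]; simp [dl, hac, hae, hbc, hbe]
    simp only [List.pairwise_cons, List.mem_cons, List.mem_nil_iff, or_false, forall_eq_or_imp,
      forall_eq, List.Pairwise.nil, and_true, IsEmpty.forall_iff, implies_true]
    refine ⟨⟨e1, e2, ?_⟩, ⟨e3, ?_⟩, ?_⟩
    · rw [hc2, map_add, map_add, h.phi_ctr hd, e1, e2]; rfl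
    · rw [hc2, map_add, map_add, (S.tv a b hab).phi_ctr hd, ← h.incid_comm hd h2 (S.tv a b hab), e1, e3]
      rfl
    · rw [hc2, map_add, map_add, (S.tv c e hce).phi_ctr hd, ← h.incid_comm hd h2 (S.tv c e hce), e2,
        ← (S.tv a b hab).incid_comm hd h2 (S.tv c e hce), e3]
      rfl
  have hn' : [d, S.τ a b, S.τ c e, d₂].Pairwise (· ≠ ·) := by
    have q : ∀ x y : W →+ ZMod 2, x + y = 0 → x = y := fun x y h0 => AddMonoidHom.ext fun v => by
      have := DFunLike.congr_fun h0 v
      simp only [AddMonoidHom.add_apply, AddMonoidHom.zero_apply] at this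
      revert this; generalize x v = s; generalize y v = t; revert s t; decide
    have hne : S.τ a b ≠ S.τ c e := fun e0 => by
      rcases S.inj _ _ _ _ hab hce e0 with ⟨h1, -⟩ | ⟨h1, -⟩
      · exact hac h1
      · exact hae h1
    simp only [List.pairwise_cons, List.mem_cons, List.mem_nil_iff, or_false, forall_eq_or_imp,
      forall_eq, List.Pairwise.nil, and_true, IsEmpty.forall_iff, implies_true]
    refine ⟨⟨fun e0 => hout (e0 ▸ S.mem_tvs hab), fun e0 => hout (e0 ▸ S.mem_tvs hce), fun e0 => ?_⟩,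
      ⟨hne, fun e0 => ?_⟩, fun e0 => ?_⟩
    · refine hne ((S.tv a b hab).eq_of_phi hd (S.tv c e hce) (q _ _ ?_))
      have h1 := hφ2
      rw [← e0, add_assoc, left_eq_add] at h1
      exact h1
    · refine hout ((h.eq_of_phi hd (S.tv c e hce) (q _ _ ?_)) ▸ S.mem_tvs hce)
      have h1 := hφ2
      rw [← e0, add_comm (phi W d), add_assoc, left_eq_add] at h1
      exact h1
    · refine hout ((h.eq_of_phi hd (S.tv a b hab) (q _ _ ?_)) ▸ S.mem_tvs hab)
      have h1 := hφ2
      rw [← e0, add_comm (phi W d + phi W (S.τ a b)), left_eq_add] at h1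
      exact h1
  exact no_four hd h2 h (S.tv a b hab) (S.tv c e hce) T2 hn' hc' hφ2

/-- Every transvection lies in a closed system. -/
theorem exists_closed {d : H} (h : IsTv W d) : ∃ S : PS H W, d ∈ S.tvs ∧ S.Closed := by
  obtain ⟨x, hx, -, ha, -, -⟩ := h.exists_partner hd h2 (hd.coord _ (h.isRoot hd)).some
  obtain ⟨S₀, hS₀⟩ := exists_triangle hd h2 h hx ha
  have hex : ∃ n, ∀ S : PS H W, d ∈ S.tvs → S.k ≤ n := ⟨Nat.card H, fun S _ => S.k_le hd⟩
  classical
  let N := Nat.find hex
  have hN : ∃ S : PS H W, d ∈ S.tvs ∧ S.k = N := by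
    by_contra hc
    push Not at hc
    have hpos : 0 < N := lt_of_lt_of_le (by have := S₀.three; omega) (Nat.find_spec hex S₀ hS₀)
    refine Nat.find_min hex (show N - 1 < N by omega) fun S hS => ?_
    have h3 : S.k ≤ N := Nat.find_spec hex S hS
    have h4 := hc S hS
    omega
  obtain ⟨S, hS, hk⟩ := hN
  refine ⟨S, hS, fun e he => ?_⟩
  by_contra hc
  push Not at hc
  obtain ⟨he', g, hg, hge⟩ := hc
  obtain ⟨S', hk', hsub, -⟩ := S.grow hd h2 he he'
    ⟨g, hg, (zmod2_cases _).resolve_left hge⟩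
  have := Nat.find_spec hex S' (hsub hS)
  omega

end Cfsg.Agent.PMinFF.Two
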