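import Cfsg.Agent.Lib.PMinFF.Coord
import Mathlib.Algebra.Module.ZMod
import Mathlib.LinearAlgebra.Dual.Lemmas

/-!
# Transvections over the field with two elements

`IsTv W d`: `d ≠ 1` moves every vector by `φ v • c` for a functional `φ` and a vector `c` (the centre). If no
elementary abelian subgroup over-offends and every root group of order two has coordinates, then transvections
with the same axis or the same centre are equal, the incidence `φ_d (c_e) = 1` is symmetric, and the functionals
of pairwise commuting transvections satisfy no relation of length four.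
-/

set_option autoImplicit false
set_option linter.style.haveILetI false
set_option linter.unusedSectionVars false

namespace Cfsg.Agent.PMinFF.Two

open Subgroup

theorem zmod2_cases : ∀ x : ZMod 2, x = 0 ∨ x = 1 := by decide

theorem zmod2_ne_one : ∀ {x : ZMod 2}, x ≠ 1 → x = 0 := by decide

variable {H : Type*} [Group H] {W : Type*} [AddCommGroup W] [DistribMulAction H W] [Module (ZMod 2) W]

theorem smul_zmod (g : H) (a : ZMod 2) (w : W) : g • (a • w) = a • g • w :=
  ZMod.map_smul (DistribSMul.toAddMonoidHom W g) a w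

variable (W) in
/-- A transvection. -/
def IsTv (d : H) : Prop :=
  d ≠ 1 ∧ ∃ (φ : W →+ ZMod 2) (c : W), ∀ v, dlt W d v = φ v • c

open Classical in
variable (W) in
/-- The functional of a transvection. -/
noncomputable def phi (d : H) : W →+ ZMod 2 := if h : IsTv W d then h.2.choose else 0

open Classical in
variable (W) in
/-- The centre of a transvection. -/
noncomputable def ctr (d : H) : W := if h : IsTv W d then h.2.choose_spec.choose else 0

theorem IsTv.dlt_eq {d : H} (h : IsTv W d) (v : W) : dlt W d v = phi W d v • ctr W d := by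
  rw [phi, ctr, dif_pos h, dif_pos h]
  exact h.2.choose_spec.choose_spec v

theorem IsTv.smul_eq {d : H} (h : IsTv W d) (v : W) : d • v = v + phi W d v • ctr W d := by
  rw [← h.dlt_eq, PMinFF.smul_eq]

theorem IsTv.fix {d : H} (h : IsTv W d) {v : W} (h0 : phi W d v = 0) : d • v = v := by
  rw [h.smul_eq, h0, zero_smul, add_zero]

theorem IsTv.moved {d : H} (h : IsTv W d) {v : W} (h1 : phi W d v = 1) : d • v = v + ctr W d := by
  rw [h.smul_eq, h1, one_smul]

section Datum

variable (hd : Datum W 2 H)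
include hd

theorem IsTv.exists_one {d : H} (h : IsTv W d) : ∃ v, phi W d v = 1 := by
  by_contra hc
  push Not at hc
  refine h.1 (hd.faithful d fun v => h.fix (zmod2_ne_one (hc v)))

theorem IsTv.ctr_ne {d : H} (h : IsTv W d) : ctr W d ≠ 0 := by
  intro h0
  refine h.1 (hd.faithful d fun v => ?_)
  rw [h.smul_eq, h0, smul_zero, add_zero]

theorem IsTv.fix_iff {d : H} (h : IsTv W d) (v : W) : d • v = v ↔ phi W d v = 0 := by
  refine ⟨fun e => zmod2_ne_one fun h1 => h.ctr_ne hd ?_, h.fix⟩
  rwa [h.moved h1, add_eq_left] at e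

theorem IsTv.phi_ctr {d : H} (h : IsTv W d) : phi W d (ctr W d) = 0 := by
  refine zmod2_ne_one fun h1 => h.ctr_ne hd ?_
  refine MulAction.injective d ?_
  simp only [smul_zero]
  rw [h.moved h1, ZModModule.add_self]

theorem IsTv.mul_self {d : H} (h : IsTv W d) : d * d = 1 := by
  refine hd.faithful _ fun v => ?_
  rw [mul_smul, h.smul_eq v, smul_add, smul_zmod, h.fix (h.phi_ctr hd), h.smul_eq v, add_assoc,
    ZModModule.add_self, add_zero]

theorem IsTv.inv_eq {d : H} (h : IsTv W d) : d⁻¹ = d := inv_eq_of_mul_eq_one_right (h.mul_self hd)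

/-- Recognition of the functional and the centre. -/
theorem tv_of {d : H} (h1 : d ≠ 1) (φ : W →+ ZMod 2) (c : W) (e : ∀ v, dlt W d v = φ v • c) :
    IsTv W d ∧ phi W d = φ ∧ ctr W d = c := by
  have h : IsTv W d := ⟨h1, φ, c, e⟩
  have hc : c ≠ 0 := fun h0 => h1 (hd.faithful d fun v => by
    rw [PMinFF.smul_eq, e, h0, smul_zero, add_zero])
  have hφ : phi W d = φ := AddMonoidHom.ext fun v => by
    have h2 := (h.dlt_eq v).symm.trans (e v)
    rcases zmod2_cases (phi W d v) with a | a <;> rcases zmod2_cases (φ v) with b | b <;>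
      rw [a, b] at h2 ⊢ <;> simp only [zero_smul, one_smul] at h2
    · exact absurd h2.symm hc
    · exact absurd h2 (h.ctr_ne hd)
  refine ⟨h, hφ, ?_⟩
  obtain ⟨v, hv⟩ := h.exists_one hd
  have h2 := (h.dlt_eq v).symm.trans (e v)
  rwa [← hφ, hv, one_smul, one_smul] at h2

/-- Conjugates of transvections. -/
theorem IsTv.conj {d : H} (h : IsTv W d) (g : H) :
    IsTv W (g * d * g⁻¹) ∧ (∀ v, phi W (g * d * g⁻¹) v = phi W d (g⁻¹ • v)) ∧
      ctr W (g * d * g⁻¹) = g • ctr W d := by
  obtain ⟨h1, h2, h3⟩ := tv_of hd (d := g * d * g⁻¹)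
    (fun e => h.1 (by simpa [mul_inv_eq_one] using e))
    ((phi W d).comp (DistribSMul.toAddMonoidHom W g⁻¹)) (g • ctr W d)
    (fun v => by rw [dlt_conj, h.dlt_eq, smul_zmod]; rfl)
  exact ⟨h1, fun v => DFunLike.congr_fun h2 v, h3⟩

/-- The conjugate of `e` by a transvection `d`. -/
theorem IsTv.conj_tv {d e : H} (h : IsTv W d) (he : IsTv W e) :
    IsTv W (d * e * d⁻¹) ∧
      (∀ v, phi W (d * e * d⁻¹) v = phi W e v + phi W d v * phi W e (ctr W d)) ∧
      ctr W (d * e * d⁻¹) = ctr W e + phi W d (ctr W e) • ctr W d := by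
  obtain ⟨h1, h2, h3⟩ := he.conj hd d
  refine ⟨h1, fun v => ?_, h3.trans (h.smul_eq _)⟩
  rw [h2, h.inv_eq hd, h.smul_eq, map_add, ZMod.map_smul, smul_eq_mul]

/-- A product of two transvections with a common centre. -/
theorem IsTv.mul_same_ctr {d e : H} (h : IsTv W d) (he : IsTv W e) (hc : ctr W d = ctr W e) (v : W) :
    dlt W (d * e) v = (phi W d + phi W e) v • ctr W d := by
  rw [dlt_mul, h.dlt_eq, he.dlt_eq, ← hc, h.dlt_eq (_ • ctr W d), ZMod.map_smul, h.phi_ctr hd,
    smul_zero, zero_smul, add_zero, AddMonoidHom.add_apply, add_smul]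

variable [Finite H] [Finite W]

omit [Finite H] in
theorem fixA_zpowers {d : H} (h : IsTv W d) : fixA W (zpowers d) = (phi W d).ker := by
  ext v
  rw [AddMonoidHom.mem_ker, ← h.fix_iff hd]
  refine ⟨fun hv => hv d (mem_zpowers d), fun e g hg => ?_⟩
  exact (zpowers_le (H := MulAction.stabilizer H v) (g := d)).mpr e hg

omit [Finite H] in
theorem card_ker {d : H} (h : IsTv W d) : 2 * Nat.card (phi W d).ker = Nat.card W := by
  have hs : Function.Surjective (phi W d) := fun x => by
    rcases zmod2_cases x with rfl | rfl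
    · exact ⟨0, map_zero _⟩
    · exact h.exists_one hd
  rw [(phi W d).ker.card_eq_card_quotient_mul_card_addSubgroup,
    Nat.card_congr (QuotientAddGroup.quotientKerEquivOfSurjective _ hs).toEquiv, Nat.card_zmod]

theorem IsTv.isRoot {d : H} (h : IsTv W d) : IsRoot W 2 (zpowers d) := by
  have hord : orderOf d = 2 := orderOf_eq_prime (by rw [pow_two, h.mul_self hd]) h.1
  have hcard : Nat.card (zpowers d) = 2 := by rw [Nat.card_zpowers, hord]
  refine ⟨?_, fun e => h.1 (by simpa [zpowers_eq_bot] using e), ?_, fun B hB hB0 hB1 => ?_⟩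
  · refine PGroup.isElementaryAbelian_of_forall (fun a ha b hb => ?_) fun a ha => ?_
    · obtain ⟨i, rfl⟩ := mem_zpowers_iff.mp ha
      obtain ⟨j, rfl⟩ := mem_zpowers_iff.mp hb
      exact (Commute.zpow_zpow_self d i j).eq
    · obtain ⟨i, rfl⟩ := mem_zpowers_iff.mp ha
      rw [← zpow_natCast, ← zpow_mul, mul_comm, zpow_mul, zpow_natCast, pow_two, h.mul_self hd, one_zpow]
  · rw [hcard, fixA_zpowers hd h, card_ker hd h]
  · exfalso
    refine hB1 (eq_of_le_of_card_ge hB ?_)
    have h1 : 1 < Nat.card B := (one_lt_card_iff_ne_bot B).mpr hB0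
    omega

/-- Transvections with the same axis are equal. -/
theorem IsTv.eq_of_phi {d e : H} (h : IsTv W d) (he : IsTv W e) (hφ : phi W d = phi W e) : d = e := by
  have hz := (h.isRoot hd).eq_of_fixA hd (he.isRoot hd)
    (by rw [fixA_zpowers hd h, fixA_zpowers hd he, hφ])
  obtain ⟨i, hi⟩ := mem_zpowers_iff.mp (hz.ge (mem_zpowers e))
  have hdd := h.mul_self hd
  rcases Int.even_or_odd i with ⟨j, rfl⟩ | ⟨j, rfl⟩
  · rw [← two_mul, zpow_mul, zpow_two, hdd, one_zpow] at hi
    exact absurd hi.symm he.1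
  · rwa [zpow_add, zpow_mul, zpow_two, hdd, one_zpow, zpow_one, one_mul] at hi

variable (h2 : ∀ E : Subgroup H, IsRoot W 2 E → Nat.card E = 2)
include h2

/-- A root group is generated by a transvection. -/
theorem exists_tv_of_isRoot {D : Subgroup H} (hD : IsRoot W 2 D) :
    ∃ d, IsTv W d ∧ D = zpowers d := by
  obtain ⟨d, hdD, hd1⟩ := (bot_or_exists_ne_one D).resolve_left hD.ne
  have hDd : D = zpowers d := by
    refine (eq_of_le_of_card_ge (zpowers_le.mpr hdD) ?_).symm
    rw [h2 D hD]
    have h3 : Nat.card (zpowers d) ≠ 1 := fun e => hd1 (zpowers_eq_bot.mp (card_eq_one.mp e))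
    have h4 : 0 < Nat.card (zpowers d) := Nat.card_pos
    omega
  obtain ⟨c⟩ := hd.coord D hD
  have hker : ∀ v, d • v = v ↔ v ∈ fixA W D :=
    fun v => ⟨fun e => hD.mem_fixA_of_single hd hdD hd1 e, fun hv => hv d hdD⟩
  have hidx : Nat.card (W ⧸ fixA W D) = 2 := by
    have h := hD.card_eq
    rw [h2 D hD, (fixA W D).card_eq_card_quotient_mul_card_addSubgroup] at h
    exact (Nat.eq_of_mul_eq_mul_right Nat.card_pos h).symm
  -- the range of `dlt d` has two elements
  have hkerd : (dlt W d).ker = fixA W D := by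
    ext v
    rw [AddMonoidHom.mem_ker, dlt_eq_zero_iff, hker]
  obtain ⟨v₁, hv₁⟩ : ∃ v, d • v ≠ v := by
    by_contra hc
    push Not at hc
    exact hd1 (hd.faithful d hc)
  have hval : ∀ v, dlt W d v = 0 ∨ dlt W d v = dlt W d v₁ := by
    intro v
    classical
    by_cases hv : v ∈ fixA W D
    · exact Or.inl (dlt_eq_zero_iff.mpr ((hker v).mpr hv))
    · refine Or.inr ?_
      have hv₁' : v₁ ∉ fixA W D := fun h => hv₁ ((hker v₁).mpr h)
      have := (AddSubgroup.index_eq_two_iff'.mp (show (fixA W D).index = 2 from hidx))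
      obtain ⟨a, ha⟩ := this
      have hmem : ∀ x, x ∉ fixA W D → x + a ∈ fixA W D := fun x hx => by
        rcases ha x with ⟨h1, -⟩ | ⟨h1, -⟩
        · rwa [add_comm] at h1
        · exact absurd h1 hx
      have h3 : v - v₁ ∈ fixA W D := by
        have h4 := (fixA W D).sub_mem (hmem v hv) (hmem v₁ hv₁')
        simpa using h4
      have h5 := dlt_eq_zero_iff.mpr ((hker _).mpr h3)
      rwa [map_sub, sub_eq_zero] at h5
  classical
  let φ : W →+ ZMod 2 :=
    { toFun := fun v => if dlt W d v = 0 then 0 else 1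
      map_zero' := by simp
      map_add' := fun a b => by
        have hne : dlt W d v₁ ≠ 0 := fun e => hv₁ (dlt_eq_zero_iff.mp e)
        rw [map_add]
        rcases hval a with ea | ea <;> rcases hval b with eb | eb <;>
          simp [ea, eb, hne, ZModModule.add_self] }
  refine ⟨d, (tv_of hd hd1 φ (dlt W d v₁) fun v => ?_).1, hDd⟩
  have hne : dlt W d v₁ ≠ 0 := fun e => hv₁ (dlt_eq_zero_iff.mp e)
  rcases hval v with e | e <;> simp [φ, e, hne]

/-- A conjugate transvection incident in both directions. -/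
theorem IsTv.exists_partner {d : H} (h : IsTv W d) (c : Coord W (zpowers d)) :
    ∃ x, IsTv W x ∧ x ∈ c.L ∧ phi W d (ctr W x) = 1 ∧ phi W x (ctr W d) = 1 ∧
      c.L ≤ zpowers d ⊔ zpowers x := by
  haveI : Nontrivial c.F := inferInstance
  have hF2 : ∀ t : c.F, t = 0 ∨ t = 1 := by
    intro t
    by_contra hc
    push Not at hc
    classical
    have h3 : ({0, 1, t} : Finset c.F).card ≤ Fintype.card c.F := Finset.card_le_univ _
    rw [c.cardF, h2 _ (h.isRoot hd)] at h3
    rw [Finset.card_insert_of_notMem (by simp [Ne.symm hc.1]),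
      Finset.card_pair (Ne.symm hc.2)] at h3
    omega
  have hd1 : d = c.u 1 := by
    obtain ⟨t, ht⟩ := c.exists_u (mem_zpowers d)
    rcases hF2 t with rfl | rfl
    · exact absurd (ht.symm.trans c.u_zero) h.1
    · exact ht.symm
  have hdv : ∀ v : W, d • v = c.u 1 • v := fun v => congrArg (fun g : H => g • v) hd1
  have hx : IsTv W (c.l 1) := by
    have : c.l 1 = c.wy * c.u (-1) * c.wy⁻¹ := by rw [c.wy_conj_u, neg_neg]
    rw [this]
    have hm : c.u (-1) = d := by
      rw [c.u_neg]
      exact (congrArg (·⁻¹) hd1.symm).trans (h.inv_eq hd)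
    rw [hm]
    exact (h.conj hd _).1
  obtain ⟨v₀, hv₀⟩ := c.surj ![0, 1]
  obtain ⟨v₁, hv₁⟩ := c.surj ![1, 0]
  have e1 : c.ψ (dlt W d v₀) = ![1, 0] := by
    rw [dlt_apply, map_sub, hdv, c.psi_u, hv₀]
    funext i; fin_cases i <;> simp
  have e2 : c.ψ (dlt W (c.l 1) v₁) = ![0, 1] := by
    rw [dlt_apply, map_sub, c.psi_l, hv₁]
    funext i; fin_cases i <;> simp
  have hp : c.ψ (ctr W d) = ![1, 0] := by
    rcases zmod2_cases (phi W d v₀) with a | a <;> rw [h.dlt_eq, a] at e1
    · rw [zero_smul, map_zero] at e1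
      exact absurd (congrFun e1 0) (by simp)
    · rwa [one_smul] at e1
  have hpx : c.ψ (ctr W (c.l 1)) = ![0, 1] := by
    rcases zmod2_cases (phi W (c.l 1) v₁) with a | a <;> rw [hx.dlt_eq, a] at e2
    · rw [zero_smul, map_zero] at e2
      exact absurd (congrFun e2 1) (by simp)
    · rwa [one_smul] at e2
  refine ⟨c.l 1, hx, c.l_mem_L 1, ?_, ?_, ?_⟩
  · by_contra hc
    have e := congrArg c.ψ (h.fix (zmod2_ne_one hc))
    rw [hdv, c.psi_u, hpx] at e
    simpa using congrFun e 0
  · by_contra hc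
    have e := congrArg c.ψ (hx.fix (zmod2_ne_one hc))
    rw [c.psi_l, hp] at e
    simpa using congrFun e 1
  · refine c.L_le (fun t => mem_sup_left (c.u_mem t)) fun t => mem_sup_right ?_
    rcases hF2 t with rfl | rfl
    · have : c.l 0 = 1 := by
        have h0 := c.wy_conj_u 0
        rw [neg_zero, c.u_zero, mul_one, mul_inv_cancel] at h0
        exact h0.symm
      rw [this]
      exact one_mem _
    · exact mem_zpowers _

/-- Transvections with the same centre are equal. -/
theorem IsTv.eq_of_ctr {d e : H} (h : IsTv W d) (he : IsTv W e) (hc : ctr W d = ctr W e) : d = e := by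
  by_contra hne
  obtain ⟨x, hx, -, -, hxd, -⟩ := h.exists_partner hd h2 (hd.coord _ (h.isRoot hd)).some
  have hde : d * e ≠ 1 := fun e1 => hne (by
    rw [← he.inv_eq hd]; exact eq_inv_of_mul_eq_one_left e1)
  obtain ⟨hde', hφ, hc'⟩ := tv_of hd hde _ _ (h.mul_same_ctr hd he hc)
  -- some transvection with centre `ctr d` is incident to `x` one way only
  obtain ⟨f, hf, hfc, hf0⟩ : ∃ f, IsTv W f ∧ ctr W f = ctr W d ∧ phi W f (ctr W x) = 0 := by
    rcases zmod2_cases (phi W d (ctr W x)) with a | a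
    · exact ⟨d, h, rfl, a⟩
    rcases zmod2_cases (phi W e (ctr W x)) with b | b
    · exact ⟨e, he, hc.symm, b⟩
    · refine ⟨d * e, hde', hc', ?_⟩
      rw [hφ, AddMonoidHom.add_apply, a, b]
      rfl
  obtain ⟨h1, h3, h4⟩ := hx.conj_tv hd hf
  have hφ' : phi W (x * f * x⁻¹) = phi W f := AddMonoidHom.ext fun v => by
    rw [h3, hf0, mul_zero, add_zero]
  rw [h1.eq_of_phi hd hf hφ', hfc, hxd, one_smul, left_eq_add] at h4
  exact hx.ctr_ne hd h4

/-- Incidence is symmetric. -/
theorem IsTv.adj_symm {d e : H} (h : IsTv W d) (he : IsTv W e)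
    (ha : phi W d (ctr W e) = 1) : phi W e (ctr W d) = 1 := by
  by_contra hc
  obtain ⟨h1, h3, h4⟩ := h.conj_tv hd he
  have hφ' : phi W (d * e * d⁻¹) = phi W e := AddMonoidHom.ext fun v => by
    rw [h3, zmod2_ne_one hc, mul_zero, add_zero]
  rw [h1.eq_of_phi hd he hφ', ha, one_smul, left_eq_add] at h4
  exact h.ctr_ne hd h4

theorem IsTv.incid_comm {d e : H} (h : IsTv W d) (he : IsTv W e) :
    phi W d (ctr W e) = phi W e (ctr W d) := by
  rcases zmod2_cases (phi W d (ctr W e)) with a | a <;> rw [a]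
  · rcases zmod2_cases (phi W e (ctr W d)) with b | b
    · exact b.symm
    · rw [he.adj_symm hd h2 h b] at a
      exact absurd a one_ne_zero
  · exact (h.adj_symm hd h2 he a).symm

/-- Non-incident transvections commute; incident ones do not. -/
theorem IsTv.commute_iff {d e : H} (h : IsTv W d) (he : IsTv W e) :
    d * e = e * d ↔ phi W d (ctr W e) = 0 := by
  obtain ⟨h1, h3, h4⟩ := h.conj_tv hd he
  constructor
  · intro hc
    refine zmod2_ne_one fun ha => h.ctr_ne hd ?_
    rwa [show d * e * d⁻¹ = e by rw [hc, mul_inv_cancel_right], ha, one_smul, left_eq_add] at h4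
  · intro h0
    have hφ' : phi W (d * e * d⁻¹) = phi W e := AddMonoidHom.ext fun v => by
      rw [h3, ← h.incid_comm hd h2 he, h0, mul_zero, add_zero]
    exact mul_inv_eq_iff_eq_mul.mp (h1.eq_of_phi hd he hφ')

omit h2 [Finite H] [Finite W] in
/-- A functional vanishing with two others is in their span. -/
theorem exists_separating (f g h : W →+ ZMod 2) (h0 : h ≠ 0) (h1 : h ≠ f) (h2 : h ≠ g)
    (h3 : h ≠ f + g) : ∃ v, f v = 0 ∧ g v = 0 ∧ h v = 1 := by
  by_contra hc
  push Not at hc
  have hk : ∀ v, f v = 0 → g v = 0 → h v = 0 := fun v a b => zmod2_ne_one (hc v a b)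
  have hm := mem_span_of_iInf_ker_le_ker (L := ![f.toZModLinearMap 2, g.toZModLinearMap 2])
    (K := h.toZModLinearMap 2) (fun v hv => by
      simp only [Submodule.mem_iInf, LinearMap.mem_ker] at hv
      exact hk v (hv 0) (hv 1))
  obtain ⟨t, ht⟩ := (Submodule.mem_span_range_iff_exists_fun _).mp hm
  have e : ∀ v, h v = t 0 * f v + t 1 * g v := fun v => by
    have := LinearMap.congr_fun ht v
    simpa [Fin.sum_univ_two, eq_comm] using this
  rcases zmod2_cases (t 0) with a | a <;> rcases zmod2_cases (t 1) with b | b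
  · exact h0 (AddMonoidHom.ext fun x => by simp [e x, a, b])
  · exact h2 (AddMonoidHom.ext fun x => by simp [e x, a, b])
  · exact h1 (AddMonoidHom.ext fun x => by simp [e x, a, b])
  · exact h3 (AddMonoidHom.ext fun x => by simp [e x, a, b])

/-- No four pairwise commuting transvections have dependent functionals. -/
theorem no_four {d₁ d₂ d₃ d₄ : H} (h₁ : IsTv W d₁) (h₂ : IsTv W d₂) (h₃ : IsTv W d₃) (h₄ : IsTv W d₄)
    (hne : [d₁, d₂, d₃, d₄].Pairwise (· ≠ ·))
    (hc : [d₁, d₂, d₃, d₄].Pairwise fun a b => phi W a (ctr W b) = 0) :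
    phi W d₄ ≠ phi W d₁ + phi W d₂ + phi W d₃ := by
  intro hrel
  simp only [List.pairwise_cons, List.mem_cons, List.mem_nil_iff, or_false, forall_eq_or_imp,
    forall_eq, List.Pairwise.nil, and_true, IsEmpty.forall_iff, implies_true] at hne hc
  obtain ⟨⟨n12, n13, n14⟩, ⟨n23, n24⟩, n34⟩ := hne
  obtain ⟨⟨c12, c13, c14⟩, ⟨c23, c24⟩, c34⟩ := hc
  set P : Fin 4 → H := ![d₁, d₂, d₃, d₄] with hP
  have htv : ∀ i, IsTv W (P i) := by intro i; fin_cases i <;> assumption
  have hinc : ∀ i j, phi W (P i) (ctr W (P j)) = 0 := by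
    intro i j
    fin_cases i <;> fin_cases j <;>
      first
        | exact (htv _).phi_ctr hd
        | assumption
        | exact h₁.phi_ctr hd
        | exact h₂.phi_ctr hd
        | exact h₃.phi_ctr hd
        | exact h₄.phi_ctr hd
        | (rw [IsTv.incid_comm hd h2 (htv _) (htv _)]; assumption)
  -- the subgroup
  set A : Subgroup H := closure (Set.range P) with hA
  have hcomm : ∀ x ∈ Set.range P, ∀ y ∈ Set.range P, x * y = y * x := by
    rintro _ ⟨i, rfl⟩ _ ⟨j, rfl⟩
    exact ((htv i).commute_iff hd h2 (htv j)).mpr (hinc i j)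
  have hAc : ∀ x ∈ A, ∀ y ∈ A, x * y = y * x := fun x hx y hy => by
    haveI := Subgroup.isMulCommutative_closure hcomm
    exact congrArg Subtype.val (mul_comm' (⟨x, hx⟩ : A) ⟨y, hy⟩)
  have hA2 : ∀ x ∈ A, x ^ 2 = 1 := by
    intro x hx
    induction hx using closure_induction with
    | mem y hy =>
      obtain ⟨i, rfl⟩ := hy
      rw [pow_two, (htv i).mul_self hd]
    | one => exact one_pow 2
    | mul a b ha hb ea eb => rw [Commute.mul_pow (hAc a ha b hb), ea, eb, one_mul]
    | inv a _ ea => rw [inv_pow, ea, inv_one]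
  have hel : Cfsg.IsElementaryAbelian 2 A := PGroup.isElementaryAbelian_of_forall hAc hA2
  -- fixed points
  set K : AddSubgroup W := (phi W d₁).ker ⊓ (phi W d₂).ker ⊓ (phi W d₃).ker with hK
  have hKA : K ≤ fixA W A := by
    rintro v ⟨⟨a, b⟩, c⟩
    have : A ≤ MulAction.stabilizer H v := by
      rw [hA, closure_le]
      rintro _ ⟨i, rfl⟩
      refine (htv i).fix ?_
      fin_cases i
      · exact a
      · exact b
      · exact c
      · show phi W d₄ v = 0
        rw [hrel]
        simp [show phi W d₁ v = 0 from a, show phi W d₂ v = 0 from b, show phi W d₃ v = 0 from c]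
    exact fun g hg => this hg
  have hKW : Nat.card W ≤ 8 * Nat.card K := by
    let Φ : W →+ ZMod 2 × ZMod 2 × ZMod 2 := (phi W d₁).prod ((phi W d₂).prod (phi W d₃))
    have hker : Φ.ker = K := by
      ext v
      simp [Φ, hK, and_assoc]
    rw [← hker, Φ.ker.card_eq_card_quotient_mul_card_addSubgroup,
      Nat.card_congr (QuotientAddGroup.quotientKerEquivRange Φ).toEquiv]
    refine Nat.mul_le_mul_right _ ((Nat.card_le_card_of_injective _ Subtype.val_injective).trans ?_)
    simp
  -- sixteen distinct elements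
  let el : (Fin 4 → Bool) → A := fun b =>
    (if b 0 then ⟨P 0, subset_closure ⟨0, rfl⟩⟩ else 1) *
    (if b 1 then ⟨P 1, subset_closure ⟨1, rfl⟩⟩ else 1) *
    (if b 2 then ⟨P 2, subset_closure ⟨2, rfl⟩⟩ else 1) *
    (if b 3 then ⟨P 3, subset_closure ⟨3, rfl⟩⟩ else 1)
  let s : Fin 4 → Bool → ZMod 2 := fun _ b => if b then 1 else 0
  have hdl : ∀ b v, dlt W ((el b : A) : H) v =
      ∑ i, (s i (b i) * phi W (P i) v) • ctr W (P i) := by
    intro b v
    have hone : ∀ (i : Fin 4) (x : Bool) (v : W),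
        dlt W (((if x then ⟨P i, subset_closure ⟨i, rfl⟩⟩ else 1) : A) : H) v =
          (s i x * phi W (P i) v) • ctr W (P i) := by
      intro i x v
      cases x
      · simp [s]
      · simp [s, (htv i).dlt_eq]
    have hφ : ∀ (i j : Fin 4) (a : ZMod 2), phi W (P i) (a • ctr W (P j)) = 0 := by
      intro i j a
      rw [ZMod.map_smul, hinc, smul_zero]
    simp only [el, Subgroup.coe_mul, dlt_mul, hone, hφ, mul_zero, zero_smul, map_zero, add_zero,
      Fin.sum_univ_four]
  have hinj : Function.Injective el := by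
    intro b b' hbb
    have e : ∀ v, ∑ i, ((s i (b i) + s i (b' i)) * phi W (P i) v) • ctr W (P i) = 0 := by
      intro v
      simp only [add_mul, add_smul, Finset.sum_add_distrib]
      rw [← hdl b v, ← hdl b' v, hbb, ZModModule.add_self]
    have hn : ∀ {a c : H}, IsTv W a → IsTv W c → a ≠ c → phi W a ≠ phi W c :=
      fun ha hc hac e => hac (ha.eq_of_phi hd hc e)
    have hnz : ∀ {a : H}, IsTv W a → phi W a ≠ 0 := fun ha e => by
      obtain ⟨v, hv⟩ := ha.exists_one hd
      rw [e] at hv
      exact zero_ne_one hv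
    have hsum3 : phi W d₁ + phi W d₂ + phi W d₃ ≠ 0 := fun e => hnz h₄ (hrel.trans e)
    have q12 : ∀ (f g : W →+ ZMod 2), f + g + g = f := fun f g => by
      ext v; simp [add_assoc, CharTwo.add_self_eq_zero]
    obtain ⟨v₁, a1, b1, c1⟩ := exists_separating (hd := hd) (phi W d₂) (phi W d₃) (phi W d₁) (hnz h₁)
      (hn h₁ h₂ n12) (hn h₁ h₃ n13)
      (fun e => hsum3 (by rw [e]; ext v; simp only [AddMonoidHom.add_apply, AddMonoidHom.zero_apply]
                          generalize phi W d₂ v = x; generalize phi W d₃ v = y; revert x y; decide))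
    obtain ⟨v₂, a2, b2, c2⟩ := exists_separating (hd := hd) (phi W d₁) (phi W d₃) (phi W d₂) (hnz h₂)
      (hn h₂ h₁ n12.symm) (hn h₂ h₃ n23)
      (fun e => hsum3 (by rw [e]; ext v; simp only [AddMonoidHom.add_apply, AddMonoidHom.zero_apply]
                          generalize phi W d₁ v = x; generalize phi W d₃ v = y; revert x y; decide))
    obtain ⟨v₃, a3, b3, c3⟩ := exists_separating (hd := hd) (phi W d₁) (phi W d₂) (phi W d₃) (hnz h₃)
      (hn h₃ h₁ n13.symm) (hn h₃ h₂ n23.symm)
      (fun e => hsum3 (by rw [e]; ext v; simp only [AddMonoidHom.add_apply, AddMonoidHom.zero_apply]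
                          generalize phi W d₁ v = x; generalize phi W d₂ v = y; revert x y; decide))
    have e1 := e v₁
    have e2 := e v₂
    have e3 := e v₃
    simp only [Fin.sum_univ_four, hP, Matrix.cons_val_zero, Matrix.cons_val_one, Matrix.cons_val,
      hrel, AddMonoidHom.add_apply, a1, b1, c1, a2, b2, c2, a3, b3, c3, mul_zero, zero_smul, add_zero,
      zero_add, mul_one] at e1 e2 e3
    set t : Fin 4 → ZMod 2 := fun i => s i (b i) + s i (b' i) with ht
    have hcn : ∀ {a c : H}, IsTv W a → IsTv W c → a ≠ c → ctr W a ≠ ctr W c :=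
      fun ha hc hac e => hac (ha.eq_of_ctr hd h2 hc e)
    have h30 : t 3 = 0 := by
      refine zmod2_ne_one fun h31 => ?_
      simp only [ht] at h31
      rw [h31, one_smul] at e1
      rcases zmod2_cases (s 0 (b 0) + s 0 (b' 0)) with a | a <;> rw [a] at e1
      · rw [zero_smul, zero_add] at e1
        exact h₄.ctr_ne hd e1
      · rw [one_smul] at e1
        refine hcn h₁ h₄ n14 ?_
        rwa [← ZModModule.sub_eq_add, sub_eq_zero] at e1
    simp only [ht] at h30
    rw [h30, zero_smul, add_zero] at e1 e2 e3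
    have hz0 : ∀ {a : H}, IsTv W a → ∀ {x : ZMod 2}, x • ctr W a = 0 → x = 0 := fun ha x hx =>
      zmod2_ne_one fun h1 => ha.ctr_ne hd (by rwa [h1, one_smul] at hx)
    have t0 := hz0 h₁ e1
    have t1 := hz0 h₂ e2
    have t2 := hz0 h₃ e3
    have key : ∀ x y : Bool, (if x then (1 : ZMod 2) else 0) + (if y then 1 else 0) = 0 → x = y := by
      decide
    funext i
    fin_cases i
    · exact key _ _ t0
    · exact key _ _ t1
    · exact key _ _ t2
    · exact key _ _ h30
  have h16 : 16 ≤ Nat.card A := by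
    have := Nat.card_le_card_of_injective el hinj
    simpa using this
  have hno := hd.noOver A hel
  have h4 := Nat.mul_le_mul h16 (AddSubgroup.card_le_of_le hKA)
  have : 0 < Nat.card K := Nat.card_pos
  nlinarith

end Datum

end Cfsg.Agent.PMinFF.Two
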