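import Cfsg.Agent.Lib.PMinFF.Twist

/-!
# The second type of a normalizing element is impossible against a wall

An element of the second type exchanges the two halves of `[W, D]`. It forces four elements and produces an
element scaling everything; the fixed vector of the wall then gives a contradiction (`Split.false_of_typeTwo`).
-/

set_option autoImplicit false

namespace Cfsg.Agent.PMinFF

open Subgroup Subnormal
open scoped Matrix

variable {H : Type*} [Group H] {W : Type*} [AddCommGroup W] [DistribMulAction H W] {p : ℕ}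
  {D : Subgroup H}

namespace Split

variable {c : Coord W D} (s : Split c)

/-- Scalar action of `ω` on both halves. -/
structure Scal (ω : c.F) (ζ : H) : Prop where
  sy : ∀ a, ζ • s.sy a = s.sy (ω * a)
  sx : ∀ a, ζ • s.sx a = s.sx (ω * a)
  th : ∀ a, ζ • s.θ 1 a = s.θ 1 (ω * a)
  rest : ∀ z ∈ fixA W c.L, ∃ y, ζ • z = z + s.θ 1 y

/-- Centralizes `D`, scales `W / C_W(D)` by `ω`, trivial on `C_W(D) / [W, D]`. -/
structure Pre (c : Coord W D) (ω : c.F) (ζ : H) : Prop where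
  cent : ζ ∈ centralizer (D : Set H)
  scale : ∀ v, c.ψ (ζ • v) 1 = ω * c.ψ v 1
  trivial : ∀ v ∈ fixA W D, dlt W ζ v ∈ img W D

theorem Pre.mul {a b : c.F} {x y : H} (hx : Pre c a x) (hy : Pre c b y) : Pre c (a * b) (x * y) := by
  refine ⟨mul_mem hx.cent hy.cent, fun v => by rw [mul_smul, hx.scale, hy.scale, mul_assoc], fun v hv => ?_⟩
  rw [dlt_mul, dlt_apply x (dlt W y v)]
  refine add_mem (add_mem (hx.trivial v hv) (hy.trivial v hv)) (sub_mem ?_ (hy.trivial v hv))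
  exact smul_mem_img (centralizer_le_normalizer _ hx.cent) (hy.trivial v hv)

theorem Scal.psi_zero {s : Split c} {ω : c.F} {ζ : H} (hζ : s.Scal ω ζ) (v : W) :
    c.ψ (ζ • v) 0 = ω * c.ψ v 0 := by
  obtain ⟨z, hz, e⟩ := s.exists_eq v
  obtain ⟨y, hy⟩ := hζ.rest z hz
  conv_lhs => rw [e, smul_add, smul_add, hζ.sy, hζ.sx, hy]
  simp [s.psi_sy, s.psi_sx, (c.ker _).mpr hz, (c.ker _).mpr (s.θ_mem 1 y)]

variable [Finite H] [Finite W] (hD : IsRoot W p D)
include hD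

omit s in
theorem inner_of_pre {ζ : H} (h : Pre c 1 ζ) : ζ ∈ inner W D :=
  ⟨h.cent, fun v => (c.mem_fixA_iff hD _).mpr (by
    rw [dlt_apply, map_sub, Pi.sub_apply, h.scale, one_mul, sub_self]), h.trivial⟩

omit s in
theorem pre_of_inner {ζ : H} (h : ζ ∈ inner W D) : Pre c 1 ζ :=
  ⟨h.1, fun v => by rw [one_mul]; exact psi_eq_of_fixA hD (h.2.1 v), h.2.2⟩

variable [Fact p.Prime] (hd : Datum W p H)
include hd

omit [Finite H] [Fact p.Prime] hd in
/-- Facts about an element of the second type. -/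
theorem typeTwo_facts {g : H} (hg : g ∈ normalizer (D : Set H)) (hA : ∀ a, c.ψ (g • s.sy a) 0 = 0)
    (hB : ∀ u, u ≠ 0 → c.ψ (g • s.θ 1 u) 0 ≠ 0) :
    ∃ (τ : c.F →+* c.F) (φ ξ : c.F →+ c.F) (φ₁ ξ₁ : c.F), φ₁ ≠ 0 ∧ ξ₁ ≠ 0 ∧
      (∀ t, g * c.u t * g⁻¹ = c.u (φ t)) ∧ (∀ v, c.ψ (g • v) 1 = ξ (c.ψ v 1)) ∧ Function.Bijective φ ∧
      (∀ r, φ (r * r) = φ₁ * τ r) ∧ (∀ x, ξ x = ξ₁ * τ x) ∧
      ∀ y, c.ψ (g • s.θ 1 y) 0 = φ₁ * ξ₁ * τ y := by
  obtain ⟨φ, ξ, hφ, hξ, hφb, hξb⟩ := s.exists_twist hD hg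
  let B : c.F →+ c.F := AddMonoidHom.mk' (fun a => c.ψ (g • s.θ 1 a) 0) fun a b => by
    rw [s.θ_add_right, smul_add, map_add, Pi.add_apply]
  have key : ∀ r x, φ (r * r) * ξ x = B (r * x) := fun r x => by
    rw [s.twist_rel0 hD hφ hξ, hA, zero_add, s.θ_eq_one hD rfl]
    rfl
  have hφ1 : φ 1 ≠ 0 := fun e => one_ne_zero (hφb.1 (e.trans (map_zero φ).symm))
  have hξ1 : ξ 1 ≠ 0 := fun e => one_ne_zero (hξb.1 (e.trans (map_zero ξ).symm))
  have hB1 : B 1 = φ 1 * ξ 1 := by have := key 1 1; rw [one_mul] at this; exact this.symm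
  have hne : B 1 ≠ 0 := hB 1 one_ne_zero
  let τ : c.F →+* c.F :=
    { toFun := fun x => B x / B 1
      map_one' := div_self hne
      map_zero' := by simp
      map_add' := fun a b => by rw [map_add, add_div]
      map_mul' := fun a b => by
        have h1 := key a b
        have h2 := key a 1
        have h3 := key 1 b
        rw [mul_one] at h2
        rw [one_mul, one_mul] at h3
        rw [div_mul_div_comm, div_eq_div_iff hne (mul_ne_zero hne hne), ← h1, ← h2, ← h3, hB1]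
        ring }
  refine ⟨τ, φ, ξ, φ 1, ξ 1, hφ1, hξ1, hφ, hξ, hφb, fun r => ?_, fun x => ?_, fun y => ?_⟩
  · show _ = φ 1 * (B r / B 1)
    have h2 := key r 1
    rw [mul_one] at h2
    rw [hB1, ← h2]
    field_simp
  · show _ = ξ 1 * (B x / B 1)
    have h3 := key 1 x
    rw [one_mul, one_mul] at h3
    rw [hB1, ← h3]
    field_simp
  · show B y = φ 1 * ξ 1 * (B y / B 1)
    rw [← hB1, mul_div_cancel₀ _ hne]

omit [Finite H] in
/-- `[W, D]` when `θ` reduces to `θ 1`. -/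
theorem img_decomp (hp : p = 2) {v : W} (hv : v ∈ img W D) : ∃ a y, v = s.sy a + s.θ 1 y := by
  have := c.charP hd
  induction hv using AddSubgroup.closure_induction with
  | mem w hw =>
    obtain ⟨d, hd', u, rfl⟩ := hw
    obtain ⟨t, rfl⟩ := c.exists_u hd'
    obtain ⟨r, hr⟩ := FiniteField.isSquare_of_char_two ((ringChar.eq c.F p).trans hp) t
    exact ⟨_, r * c.ψ u 1, by rw [s.dlt_u hD, s.θ_eq_one hD hr.symm]⟩
  | zero => exact ⟨0, 0, by rw [map_zero, s.θ_zero_right, add_zero]⟩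
  | add x y _ _ hx hy =>
    obtain ⟨a, b, rfl⟩ := hx
    obtain ⟨a', b', rfl⟩ := hy
    exact ⟨a + a', b + b', by rw [map_add, s.θ_add_right]; abel⟩
  | neg x _ hx =>
    obtain ⟨a, b, rfl⟩ := hx
    exact ⟨-a, -b, by rw [map_neg, s.θ_neg_right, neg_add]⟩

omit [Finite H] [Finite W] [Fact p.Prime] hd hD in
theorem psi_axes (a y : c.F) : c.ψ (s.sy a + s.θ 1 y) = ![a, 0] := by
  rw [map_add, s.psi_sy, (c.ker _).mpr (s.θ_mem 1 y), add_zero]

/-- The second type needs exactly four elements. -/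
theorem card_eq_four {g : H} (hg : g ∈ normalizer (D : Set H)) (hp : p = 2)
    (hA : ∀ a, c.ψ (g • s.sy a) 0 = 0) (hB : ∀ u, u ≠ 0 → c.ψ (g • s.θ 1 u) 0 ≠ 0) :
    Nat.card D = 4 := by
  classical
  obtain ⟨τ, φ, ξ, φ₁, ξ₁, hφ₁, hξ₁, hφ, hξ, hφb, hφr, hξx, -⟩ := s.typeTwo_facts hD hg hA hB
  have := c.charP hd
  have h2 : (2 : c.F) = 0 := by subst hp; simpa using c.natCast_eq_zero hd
  have hinj : ∀ y, s.θ 1 y = 0 → y = 0 := fun y hy => by
    by_contra hy0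
    exact hB y hy0 (by rw [hy, smul_zero, map_zero]; rfl)
  have him : ∀ a, ∃ y, g • s.sy a = s.θ 1 y := fun a => by
    obtain ⟨b, y, e⟩ := s.img_decomp hD hd hp (smul_mem_img hg (s.sy_mem_img hD a))
    have h1 := hA a
    rw [e, s.psi_axes] at h1
    exact ⟨y, by rw [e, show b = 0 from h1, map_zero, zero_add]⟩
  choose Γ hΓ using him
  have him' : ∀ y, ∃ z, g • s.θ 1 y = s.sy (c.ψ (g • s.θ 1 y) 0) + s.θ 1 z := fun y => by
    obtain ⟨a, z, e⟩ := s.img_decomp hD hd hp (smul_mem_img hg (s.θ_mem_img hD 1 y))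
    refine ⟨z, ?_⟩
    rw [e, s.psi_axes]
    rfl
  choose Δ hΔ using him'
  have hΔadd : ∀ a b, Δ (a + b) = Δ a + Δ b := fun a b => by
    refine sub_eq_zero.mp (hinj _ ?_)
    have e : g • s.θ 1 (a + b) = g • s.θ 1 a + g • s.θ 1 b := by rw [s.θ_add_right, smul_add]
    rw [hΔ (a + b), hΔ a, hΔ b, s.θ_add_right 1 a b, smul_add, map_add, Pi.add_apply, map_add] at e
    rw [sub_eq_add_neg, s.θ_add_right, s.θ_neg_right, s.θ_add_right]
    linear_combination (norm := abel) e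
  -- the part in `C_W(L)`
  have hC : ∀ u, u ≠ 0 → (Γ 1 + Δ u) * (Γ 1 + Δ u) = φ₁ * ξ₁ * ξ₁ * τ (u * u * u) := by
    intro u hu
    have h1 := s.twist_rel hD hφ hξ (u⁻¹ * u⁻¹) (u * u)
    rw [show u⁻¹ * u⁻¹ * (u * u) = 1 by field_simp, s.θ_eq_one hD (r := u⁻¹) rfl,
      show u⁻¹ * (u * u) = u by field_simp, hΓ, hΔ] at h1
    obtain ⟨ρ, hρ⟩ := FiniteField.isSquare_of_char_two ((ringChar.eq c.F p).trans hp) (φ (u⁻¹ * u⁻¹))
    rw [s.θ_eq_one hD hρ.symm, add_left_comm, ← s.θ_add_right] at h1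
    have h3 := (s.sy_ext (s.θ_mem 1 _) (s.θ_mem 1 _) h1).2
    have h4 : ρ * ξ (u * u) = Γ 1 + Δ u := by
      refine sub_eq_zero.mp (hinj _ ?_)
      rw [sub_eq_add_neg, s.θ_add_right, s.θ_neg_right, h3, add_neg_cancel]
    rw [← h4, hξx, show ρ * (ξ₁ * τ (u * u)) * (ρ * (ξ₁ * τ (u * u))) =
      ρ * ρ * (ξ₁ * ξ₁ * (τ (u * u) * τ (u * u))) by ring, ← hρ, hφr, map_inv₀]
    simp only [map_mul]
    field_simp
  have hK : ∀ a b, a ≠ 0 → b ≠ 0 → a + b ≠ 0 →
      Γ 1 * Γ 1 = φ₁ * ξ₁ * ξ₁ * τ (a * b * (a + b)) := by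
    intro a b ha hb hab
    have e1 := hC a ha
    have e2 := hC b hb
    have e3 := hC (a + b) hab
    simp only [hΔadd, map_mul, map_add] at e1 e2 e3 ⊢
    linear_combination e1 + e2 + e3 - (Γ 1 * Γ 1 + 2 * Γ 1 * Δ a + 2 * Γ 1 * Δ b + Δ a * Δ a + Δ b * Δ b +
      Δ a * Δ b) * h2 + φ₁ * ξ₁ * ξ₁ * (τ a * τ a * τ a + τ b * τ b * τ b + τ a * τ b * (τ a + τ b)) * h2
  have hle : Fintype.card c.F ≤ 4 := by
    by_contra hcon
    obtain ⟨b₀, hb0, hb1⟩ : ∃ b : c.F, b ≠ 0 ∧ b ≠ 1 := by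
      by_contra hb
      push Not at hb
      refine hcon (le_trans (Finset.card_le_card (s := Finset.univ) (t := ({0, 1} : Finset c.F)) fun x _ => ?_)
        (Finset.card_le_two.trans (by norm_num)))
      by_cases hx : x = 0 <;> simp [hx, hb x]
    refine hcon (le_trans (Finset.card_le_card (s := Finset.univ)
      (t := ({0, 1, b₀, b₀ + 1} : Finset c.F)) fun b _ => ?_) Finset.card_le_four)
    simp only [Finset.mem_insert, Finset.mem_singleton]
    by_cases hb : b = 0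
    · exact Or.inl hb
    by_cases hb' : b = 1
    · exact Or.inr (Or.inl hb')
    have hone : (1 : c.F) = -1 := by linear_combination h2
    have e1 := hK 1 b one_ne_zero hb (fun e => hb' (by rw [hone]; linear_combination e))
    have e2 := hK 1 b₀ one_ne_zero hb0 (fun e => hb1 (by rw [hone]; linear_combination e))
    rw [e1] at e2
    have e3 := τ.injective (mul_left_cancel₀ (mul_ne_zero (mul_ne_zero hφ₁ hξ₁) hξ₁) e2)
    have e4 : (b + b₀) * (b + b₀ + 1) = 0 := by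
      linear_combination e3 + (b₀ * b₀ + b₀ + b * b₀) * h2
    rcases mul_eq_zero.mp e4 with e | e
    · exact Or.inr (Or.inr (Or.inl (by linear_combination e - b₀ * h2)))
    · exact Or.inr (Or.inr (Or.inr (by linear_combination e - (b₀ + 1) * h2)))
  obtain ⟨j, hj⟩ := (IsPGroup.iff_card.mp (PGroup.isPGroup_of_elementaryAbelian hD.hD) :
    ∃ j, Nat.card D = p ^ j)
  rw [c.cardF] at hle
  have h1 : 2 < Nat.card D := by
    by_contra hcon
    have hone : Fintype.card c.Fˣ ≤ 1 := by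
      rw [Fintype.card_units, c.cardF]; omega
    exact s.ne (Fintype.card_le_one_iff.mp hone _ _)
  subst hp
  match j, hj with
  | 0, hj => omega
  | 1, hj => omega
  | 2, hj => simpa using hj
  | k + 3, hj =>
    exfalso
    have : 2 ^ 3 ≤ 2 ^ (k + 3) := Nat.pow_le_pow_right (by norm_num) (by omega)
    omega

variable (hp : p = 2) (h4 : Nat.card D = 4) {M : Subgroup H} {z : W} (w : Wall c M z)
include hp h4 w

omit [Finite H] [Finite W] hD w in
/-- The four elements. -/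
theorem four_cases (x : c.F) : x = 0 ∨ x = 1 ∨ x = s.μ₀ ∨ x = (s.μ₀ : c.F) + 1 := by
  obtain ⟨h2, hpow, hμ, -⟩ := s.four_facts hd hp h4
  have e : x * (x - 1) * ((x - s.μ₀) * (x - ((s.μ₀ : c.F) + 1))) = 0 := by
    linear_combination hpow x + (x ^ 2 - x) * hμ +
      (x ^ 2 - x ^ 3 + (s.μ₀ : c.F) * (x ^ 2 - x) * (1 - x)) * h2
  rcases mul_eq_zero.mp e with e | e
  · rcases mul_eq_zero.mp e with e | e
    · exact Or.inl e
    · exact Or.inr (Or.inl (sub_eq_zero.mp e))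
  · rcases mul_eq_zero.mp e with e | e
    · exact Or.inr (Or.inr (Or.inl (sub_eq_zero.mp e)))
    · exact Or.inr (Or.inr (Or.inr (sub_eq_zero.mp e)))

omit [Finite H] [Finite W] hD w in
/-- An additive map is determined by `μ₀`-semilinearity. -/
theorem semilinear_four (R : c.F →+ c.F) (σ : c.F →+* c.F) (h : R s.μ₀ = σ s.μ₀ * R 1) (x : c.F) :
    R x = R 1 * σ x := by
  rcases s.four_cases hd hp h4 x with rfl | rfl | rfl | rfl
  · simp
  · simp
  · rw [h, mul_comm]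
  · rw [map_add R, map_add σ, h, RingHom.map_one]; ring

/-- Scalar elements from torus-compatible ones. -/
theorem scal_of_pre {ω : c.F} (hω : ω ≠ 0) {ζ : H} (hζ : Pre c ω ζ)
    (hcomm : ζ * c.tor s.μ₀ * ζ⁻¹ = c.tor s.μ₀) : s.Scal ω ζ := by
  obtain ⟨h2, hpow, hμ, hμi⟩ := s.four_facts hd hp h4
  have hn := centralizer_le_normalizer (D : Set H) hζ.cent
  have hφ : ∀ t, ζ * c.u t * ζ⁻¹ = c.u (AddMonoidHom.id c.F t) := fun t => by
    rw [← hζ.cent _ (c.u_mem t), mul_inv_cancel_right]; rfl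
  have hξ : ∀ v, c.ψ (ζ • v) 1 = AddMonoidHom.mulLeft ω (c.ψ v 1) := hζ.scale
  have hrel := s.twist_rel hD hφ hξ
  simp only [AddMonoidHom.id_apply, AddMonoidHom.coe_mulLeft] at hrel
  have hsy : ∀ a, ζ • s.sy a = s.sy (ω * a) := by
    intro a
    obtain ⟨x, rfl⟩ : ∃ x, ((s.μ₀ : c.F) - 1) * x = a :=
      ⟨((s.μ₀ : c.F) - 1)⁻¹ * a, mul_inv_cancel_left₀ s.sub_ne a⟩
    have e1 := hrel 1 x
    have e2 := hrel ((s.μ₀ : c.F) * s.μ₀) (((s.μ₀⁻¹ : c.Fˣ) : c.F) * x)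
    have hθ : ∀ y, s.θ ((s.μ₀ : c.F) * s.μ₀) (((s.μ₀⁻¹ : c.Fˣ) : c.F) * y) = s.θ 1 y := fun y => by
      rw [← mul_one ((s.μ₀ : c.F) * s.μ₀), s.θ_tor hD, ← mul_assoc, ← Units.val_mul, mul_inv_cancel,
        Units.val_one, one_mul]
    rw [hθ, mul_left_comm ω, hθ] at e2
    rw [show (s.μ₀ : c.F) * s.μ₀ * (((s.μ₀⁻¹ : c.Fˣ) : c.F) * (ω * x)) = (s.μ₀ : c.F) * (ω * x) by
        rw [mul_assoc, ← mul_assoc (s.μ₀ : c.F) ((s.μ₀⁻¹ : c.Fˣ) : c.F), ← Units.val_mul, mul_inv_cancel,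
          Units.val_one, one_mul],
      show (s.μ₀ : c.F) * s.μ₀ * (((s.μ₀⁻¹ : c.Fˣ) : c.F) * x) = (s.μ₀ : c.F) * x by
        rw [mul_assoc, ← mul_assoc (s.μ₀ : c.F) ((s.μ₀⁻¹ : c.Fˣ) : c.F), ← Units.val_mul, mul_inv_cancel,
          Units.val_one, one_mul]] at e2
    rw [one_mul, one_mul] at e1
    rw [sub_mul, one_mul, map_sub, smul_sub, show ω * ((s.μ₀ : c.F) * x - x) = (s.μ₀ : c.F) * (ω * x) - ω * x by
      ring, map_sub]
    linear_combination (norm := abel) e1 - e2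
  have hth : ∀ a, ζ • s.θ 1 a = s.θ 1 (ω * a) := fun a => by
    have e1 := hrel 1 a
    rw [one_mul, one_mul, hsy] at e1
    exact (add_left_cancel e1).symm
  obtain ⟨hfix, -, hsx, hQ⟩ := s.maps_of_conj hD hn s.ne s.ne hcomm
  let Q : c.F →+ c.F := AddMonoidHom.mk' (fun a => c.ψ (ζ • s.sx a) 0) fun a b => by
    rw [map_add, smul_add, map_add, Pi.add_apply]
  have hQ1 : Q ((s.μ₀ : c.F) + 1) = (s.μ₀ : c.F) * Q 1 := by
    have := hQ 1
    rwa [hμi, mul_one] at this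
  have hQμ : Q (s.μ₀ : c.F) = ((s.μ₀ : c.F) + 1) * Q 1 := by
    rw [map_add] at hQ1
    linear_combination hQ1 - Q 1 * h2
  have hQsq : ∀ x, Q x = Q 1 * (x * x) := by
    intro x
    rcases s.four_cases hd hp h4 x with rfl | rfl | rfl | rfl
    · simp
    · simp
    · rw [hQμ, hμ]; ring
    · rw [hQ1]
      linear_combination -Q 1 * hμ - Q 1 * ((s.μ₀ : c.F) + 1) * h2
  have hsx' : ∀ a, ζ • s.sx a = s.sy (Q a) + s.sx (ω * a) := fun a => by
    have e := hsx a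
    rwa [hζ.scale, s.psi_sx] at e
  have hk : Q 1 = 0 := s.twist_eq_zero hd hD w hp h4 (RingHom.id c.F) hω hω
    (fun a => hsy a) (fun x => by rw [hsx', hQsq]; rfl) hfix
  refine ⟨hsy, fun a => by rw [hsx', hQsq, hk, zero_mul, map_zero, zero_add], hth, fun v hv => ?_⟩
  obtain ⟨a, y, e⟩ := s.img_decomp hD hd hp (hζ.trivial v (c.fixA_L_le hv))
  have h0 := congrArg c.ψ e
  rw [dlt_apply, map_sub, (c.ker _).mpr (hfix v hv), (c.ker _).mpr hv, sub_self, s.psi_axes] at h0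
  refine ⟨y, ?_⟩
  rw [smul_eq, e, show a = 0 from (congrFun h0 0).symm, map_zero, zero_add]

/-- Pre-scalar elements can be adjusted. -/
theorem exists_scal {ω : c.F} (hω : ω ≠ 0) {ζ : H} (hζ : Pre c ω ζ) :
    ∃ r, s.Scal ω (c.u r * ζ) ∧ Pre c ω (c.u r * ζ) := by
  have hn := centralizer_le_normalizer (D : Set H) hζ.cent
  obtain ⟨r, hr⟩ := s.exists_conj hD hd hn (φ := AddMonoidHom.id c.F) (ξ := AddMonoidHom.mulLeft ω)
    (fun t => by rw [← hζ.cent _ (c.u_mem t), mul_inv_cancel_right]; rfl) hζ.scale Function.bijective_id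
    (μ := s.μ₀) (ν := s.μ₀) s.ne (fun t => rfl)
    (fun x => by simp only [AddMonoidHom.coe_mulLeft]; ring)
  have hpre : Pre c ω (c.u r * ζ) := by
    have := (pre_of_inner (c := c) hD (hD.mem_inner hd (c.u_mem r))).mul hζ
    rwa [one_mul] at this
  exact ⟨r, s.scal_of_pre hD hd hp h4 w hω hpre hr, hpre⟩

/-- With a nontrivial scalar present, `inner` is `D`. -/
theorem inner_le (hinj : ∀ y, s.θ 1 y = 0 → y = 0) {ω : c.F} (hω : ω ≠ 0) (hω1 : ω ≠ 1) {ζ : H}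
    (hζ : s.Scal ω ζ) : inner W D ≤ D := by
  intro n hn
  obtain ⟨h2, hpow, hμ, -⟩ := s.four_facts hd hp h4
  obtain ⟨r, hS, -⟩ := s.exists_scal hD hd hp h4 w one_ne_zero (pre_of_inner (c := c) hD hn)
  set m := c.u r * n with hm
  suffices hm1 : m = 1 by
    have := inv_mem (c.u_mem r)
    rwa [← eq_inv_of_mul_eq_one_right (hm ▸ hm1 : c.u r * n = 1)] at this
  have hmy : ∀ a, dlt W m (s.sy a) = 0 := fun a => by rw [dlt_apply, hS.sy, one_mul, sub_self]
  have hmx : ∀ a, dlt W m (s.sx a) = 0 := fun a => by rw [dlt_apply, hS.sx, one_mul, sub_self]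
  have hmt : ∀ a, dlt W m (s.θ 1 a) = 0 := fun a => by rw [dlt_apply, hS.th, one_mul, sub_self]
  let θh : c.F →+ W := AddMonoidHom.mk' (s.θ 1) (s.θ_add_right 1)
  set N := θh.range
  have hmN : ∀ v, dlt W m v ∈ N := fun v => by
    obtain ⟨y, hy, e⟩ := s.exists_eq v
    rw [e, map_add, map_add, hmy, hmx, zero_add, zero_add]
    obtain ⟨b, hb⟩ := hS.rest y hy
    exact ⟨b, by rw [dlt_apply, hb, add_sub_cancel_left]; rfl⟩
  by_contra hm1
  obtain ⟨v₀, hv₀⟩ : ∃ v, dlt W m v ≠ 0 := by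
    by_contra hc
    push Not at hc
    exact hm1 (hd.ext_dlt fun v => by rw [hc, dlt_one])
  choose y hy using hmN
  have hy' : ∀ v, dlt W m v = s.θ 1 (y v) := fun v => (hy v).symm
  set Z := (dlt W m).ker
  have hNZ : N ≤ Z := by rintro _ ⟨a, rfl⟩; exact hmt a
  have hζv : ∀ v, y (ζ⁻¹ • v) = y v := fun v => by
    refine sub_eq_zero.mp (hinj _ ?_)
    rw [sub_eq_add_neg, s.θ_add_right, s.θ_neg_right, ← hy', ← hy', ← sub_eq_add_neg, sub_eq_zero]
    obtain ⟨z', hz', e⟩ := s.exists_eq (ζ⁻¹ • v)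
    obtain ⟨b, hb⟩ := hζ.rest z' hz'
    have e' : v = s.sy (ω * c.ψ (ζ⁻¹ • v) 0) + s.sx (ω * c.ψ (ζ⁻¹ • v) 1) + (z' + s.θ 1 b) := by
      rw [← hζ.sy, ← hζ.sx, ← hb, ← smul_add, ← smul_add, ← e, smul_inv_smul]
    conv_lhs => rw [e]
    conv_rhs => rw [e']
    simp only [map_add, hmy, hmx, hmt, add_zero]
  have hstep : ∀ (x : H) (a : c.F), (∀ v, dlt W x v = s.θ 1 (a * y v)) →
      ∀ v, dlt W (ζ * x * ζ⁻¹) v = s.θ 1 (ω * a * y v) := fun x a hx v => by
    rw [dlt_conj, hx, hζ.th, hζv, mul_assoc]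
  have hmem : ∀ (x : H) (a : c.F), (∀ v, dlt W x v = s.θ 1 (a * y v)) → x ∈ axisSub N Z hNZ :=
    fun x a hx => ⟨fun v hv => dlt_eq_zero_iff.mp (by
      rw [hx, hinj (y v) (by rw [← hy']; exact hv), mul_zero, s.θ_zero_right]),
      fun v => ⟨_, (hx v).symm⟩⟩
  have hall : ∀ a : c.F, ∃ x ∈ axisSub (H := H) N Z hNZ, ∀ v, dlt W x v = s.θ 1 (a * y v) := by
    have h0 : ∀ v, dlt W (1 : H) v = s.θ 1 (0 * y v) := fun v => by
      rw [dlt_one, zero_mul, s.θ_zero_right]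
    have h1 : ∀ v, dlt W m v = s.θ 1 (1 * y v) := fun v => by rw [one_mul, hy']
    have h2' := hstep m 1 h1
    have h3 := hstep _ _ h2'
    rw [mul_one] at h2' h3
    intro a
    have hωc := s.four_cases hd hp h4 ω
    rcases s.four_cases hd hp h4 a with rfl | rfl | rfl | rfl
    · exact ⟨1, hmem _ _ h0, h0⟩
    · exact ⟨m, hmem _ _ h1, h1⟩
    · rcases hωc with e | e | e | e
      · exact absurd e hω
      · exact absurd e hω1
      · exact ⟨_, hmem _ _ h2', e ▸ h2'⟩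
      · refine ⟨_, hmem _ _ h3, fun v => ?_⟩
        rw [h3, e, show ((s.μ₀ : c.F) + 1) * ((s.μ₀ : c.F) + 1) = s.μ₀ by
          linear_combination hμ + ((s.μ₀ : c.F) + 1) * h2]
    · rcases hωc with e | e | e | e
      · exact absurd e hω
      · exact absurd e hω1
      · refine ⟨_, hmem _ _ h3, fun v => ?_⟩
        rw [h3, e, hμ]
      · exact ⟨_, hmem _ _ h2', e ▸ h2'⟩
  choose X hX hXe using hall
  set E := axisSub (H := H) N Z hNZ with hE
  have hy0 : y v₀ ≠ 0 := fun e => hv₀ (by rw [hy', e, s.θ_zero_right])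
  have hge : 4 ≤ Nat.card E := by
    have hXinj : Function.Injective fun a => (⟨X a, hX a⟩ : E) := fun a b e => by
      have e' := congrArg (fun x : E => dlt W (x : H) v₀) e
      simp only [hXe] at e'
      refine mul_right_cancel₀ hy0 (sub_eq_zero.mp (hinj _ ?_))
      rw [sub_eq_add_neg, s.θ_add_right, s.θ_neg_right, e', add_neg_cancel]
    have := Nat.card_le_card_of_injective _ hXinj
    rwa [Nat.card_eq_fintype_card, c.cardF, h4] at this
  have hWle : Nat.card W ≤ 4 * Nat.card Z := by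
    rw [Z.card_eq_card_quotient_mul_card_addSubgroup,
      Nat.card_congr (QuotientAddGroup.quotientKerEquivRange (dlt W m)).toEquiv]
    refine Nat.mul_le_mul_right _ ?_
    refine le_trans (AddSubgroup.card_le_of_le (K := N) ?_) ?_
    · rintro _ ⟨v, rfl⟩; exact ⟨y v, hy v⟩
    · refine le_trans (Nat.card_le_card_of_surjective _ θh.rangeRestrict_surjective) (le_of_eq ?_)
      rw [Nat.card_eq_fintype_card, c.cardF, h4]
  have hEel := isElementaryAbelian_axisSub hd N Z hNZ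
  rw [← hE] at hEel
  have hZfix : Z ≤ fixA W E := fun v hv x hx => hx.1 v hv
  have hmeet : Nat.card E * Nat.card (fixA W E) = Nat.card W ∧ Nat.card E = 4 ∧ fixA W E = Z := by
    have h1 := hd.noOver E hEel
    have h3 := AddSubgroup.card_le_of_le hZfix
    have h5 : 0 < Nat.card Z := Nat.card_pos
    have h6 := Nat.mul_le_mul hge h3
    have h7 : Nat.card E * Nat.card (fixA W E) = Nat.card W := le_antisymm h1 (hWle.trans h6)
    have h8 : Nat.card E * Nat.card (fixA W E) = 4 * Nat.card Z := le_antisymm (h1.trans hWle) h6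
    have h9 : Nat.card E = 4 := by nlinarith
    refine ⟨h7, h9, (AddSubgroup.eq_of_le_of_card_ge hZfix ?_).symm⟩
    rw [h9] at h8
    omega
  have hEroot : IsRoot W p E := by
    refine ⟨hEel, fun e => ?_, hmeet.1, fun B hB hB0 hB1 => ?_⟩
    · rw [e, card_bot] at hge
      omega
    · obtain ⟨b, hb, hb1⟩ := (bot_or_exists_ne_one B).resolve_left hB0
      have hXs : ∀ x ∈ E, ∃ a, X a = x := by
        intro x hx
        have hXb : Function.Bijective fun a => (⟨X a, hX a⟩ : E) :=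
          (Nat.bijective_iff_injective_and_card _).mpr ⟨fun a b e => by
            have e' := congrArg (fun x : E => dlt W (x : H) v₀) e
            simp only [hXe] at e'
            refine mul_right_cancel₀ hy0 (sub_eq_zero.mp (hinj _ ?_))
            rw [sub_eq_add_neg, s.θ_add_right, s.θ_neg_right, e', add_neg_cancel],
            by rw [Nat.card_eq_fintype_card, c.cardF, h4, hmeet.2.1]⟩
        obtain ⟨a, ha⟩ := hXb.2 ⟨x, hx⟩
        exact ⟨a, congrArg Subtype.val ha⟩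
      obtain ⟨a, rfl⟩ := hXs b (hB hb)
      have ha : a ≠ 0 := fun e => hb1 (hd.ext_dlt fun v => by
        rw [hXe, e, zero_mul, s.θ_zero_right, dlt_one])
      have hfB : fixA W B ≤ Z := fun v hv => by
        have h1 := dlt_eq_zero_iff.mpr (hv _ hb)
        rw [hXe] at h1
        show dlt W m v = 0
        rw [hy', (mul_eq_zero.mp (hinj _ h1)).resolve_left ha, s.θ_zero_right]
      have hB4 : Nat.card B < 4 := hmeet.2.1 ▸ lt_of_le_of_ne (card_le_of_le hB)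
        fun e => hB1 (eq_of_le_of_card_ge hB e.ge)
      have h3 := AddSubgroup.card_le_of_le hfB
      have h5 : 0 < Nat.card Z := Nat.card_pos
      rw [← hmeet.1, hmeet.2.1, hmeet.2.2]
      nlinarith
  have hcomm : ∀ a ∈ D, ∀ b ∈ E, a * b = b * a := fun a ha b hb => mul_comm_of_dlt hd fun v => by
    obtain ⟨t, rfl⟩ := c.exists_u ha
    obtain ⟨q, hq⟩ := hb.2 v
    rw [← hq, show dlt W (c.u t) (θh q) = 0 from dlt_eq_zero_iff.mpr (c.u_smul_L (s.θ_mem 1 q) t), eq_comm,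
      dlt_eq_zero_iff]
    obtain ⟨a', b', e⟩ := s.img_decomp hD hd hp (dlt_mem_img (c.u_mem t) v)
    rw [e, smul_add, hb.1 _ (show dlt W m (s.sy a') = 0 from hmy a'),
      hb.1 _ (show dlt W m (s.θ 1 b') = 0 from hmt b')]
  have hED : E ≠ D := fun e => by
    obtain ⟨t, ht⟩ : ∃ t, c.u t ∈ E ∧ t ≠ 0 := ⟨1, e.ge (c.u_mem 1), one_ne_zero⟩
    obtain ⟨q, hq⟩ := ht.1.2 (s.sx 1)
    have h1 := congrFun (congrArg c.ψ hq) 0
    rw [show θh q = s.θ 1 q from rfl, (c.ker _).mpr (s.θ_mem 1 q), s.dlt_u hD, map_add, s.psi_sy,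
      s.psi_sx, (c.ker _).mpr (s.θ_mem _ _)] at h1
    exact ht.2 (by simpa using h1.symm)
  -- the opposite root group of `E` is forbidden
  obtain ⟨c₀⟩ := hd.coord E hEroot
  obtain ⟨s₀⟩ := c₀.nonempty_split (by rw [hmeet.2.1]; norm_num)
  have hL₀ := s₀.centralizes hd hEroot hD hED.symm fun a ha b hb => (hcomm b hb a ha).symm
  have hopp : IsRoot W p c₀.opp := isRoot_cj hEroot _
  have hne : c₀.opp ≠ D := fun e => by
    refine hED (eq_of_le_of_card_ge (fun x hx => ?_) ?_)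
    · have h1 : c₀.wy * x * c₀.wy⁻¹ ∈ D := e ▸ conj_mem_cj hx
      have h2 := hL₀ _ c₀.wy_mem_L _ h1
      have h3 : c₀.wy * x * c₀.wy⁻¹ = x := by
        calc c₀.wy * x * c₀.wy⁻¹ = c₀.wy⁻¹ * (c₀.wy * (c₀.wy * x * c₀.wy⁻¹)) := by group
          _ = c₀.wy⁻¹ * (c₀.wy * x * c₀.wy⁻¹ * c₀.wy) := by rw [h2]
          _ = x := by group
      rwa [h3] at h1
    · rw [hmeet.2.1, h4]
  obtain ⟨-, hθ, -⟩ := s.fix_of_commute hd hD hopp hne
    fun a ha b hb => (hL₀ b (c₀.opp_le hb) a ha).symm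
  obtain ⟨v, hv⟩ := c₀.surj ![0, 1]
  obtain ⟨q, hq⟩ := (c₀.u_mem 1 : c₀.u 1 ∈ E).2 v
  have h1 : dlt W (c₀.u 1) v ∈ fixA W c₀.L := by
    rw [c₀.L_eq, fixA_sup]
    exact ⟨hEroot.dlt_mem hd (c₀.u_mem 1) v, hq ▸ hθ 1 q⟩
  have h2' := congrFun ((c₀.ker _).mpr h1) 0
  rw [dlt_apply, map_sub, c₀.psi_u, hv] at h2'
  simp at h2'

/-- The adjusted contradiction. -/
theorem false_aux {g : H} (hg : g ∈ normalizer (D : Set H)) (hgz : g • z = z)
    (hA : ∀ a, c.ψ (g • s.sy a) 0 = 0) (hB : ∀ u, u ≠ 0 → c.ψ (g • s.θ 1 u) 0 ≠ 0)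
    (hR : c.ψ (g⁻¹ • s.sx 1) 0 = 0) : False := by
  obtain ⟨h2, hpow, hμ, hμi⟩ := s.four_facts hd hp h4
  obtain ⟨τ, φ, ξ, φ₁, ξ₁, hφ₁, hξ₁, hφ, hξ, hφb, hφr, hξx, hβ⟩ := s.typeTwo_facts hD hg hA hB
  have hτs : Function.Surjective τ := Finite.surjective_of_injective τ.injective
  have hinj : ∀ y, s.θ 1 y = 0 → y = 0 := fun y hy => by
    by_contra hy0
    exact hB y hy0 (by rw [hy, smul_zero, map_zero]; rfl)
  set ν : c.Fˣ := Units.map τ.toMonoidHom s.μ₀ with hν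
  have hνv : (ν : c.F) = τ s.μ₀ := rfl
  have hν1 : (ν : c.F) ≠ 1 := fun e => s.ne (Units.ext (τ.injective (by rw [← hνv, e, Units.val_one, map_one])))
  have hν3 : (ν : c.F) * ν * ν = 1 := by
    rw [hνv, ← map_mul, ← map_mul, ← map_one τ]
    congr 1
    linear_combination (s.μ₀ : c.F) * hμ + hμ + (s.μ₀ : c.F) * h2
  -- a scalar element
  set k := g * c.tor s.μ₀ * g⁻¹ with hk
  have hgi := inv_mem hg
  have hpre : Pre c (ν : c.F) (c.tor ν * k) := by
    refine ⟨fun d hd' => ?_, fun v => ?_, fun v hv => ?_⟩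
    · obtain ⟨t, rfl⟩ := c.exists_u hd'
      obtain ⟨t', rfl⟩ := hφb.2 t
      obtain ⟨r, hr⟩ : ∃ r, r * r = t' := ⟨t' * t', by linear_combination hpow t'⟩
      have e : k * c.u (φ t') * k⁻¹ = c.u ((ν : c.F) * φ t') := by
        have e0 : φ ((s.μ₀ : c.F) * s.μ₀ * t') = (ν : c.F) * φ t' := by
          rw [← hr, show (s.μ₀ : c.F) * s.μ₀ * (r * r) = (s.μ₀ : c.F) * r * ((s.μ₀ : c.F) * r) by ring,
            hφr, hφr, map_mul, hνv]
          ring
        rw [← e0, ← hφ, ← hφ, ← c.tor_conj_u, hk]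
        group
      have e2 : c.tor ν * k * c.u (φ t') * (c.tor ν * k)⁻¹ = c.u (φ t') := by
        rw [show c.tor ν * k * c.u (φ t') * (c.tor ν * k)⁻¹ =
          c.tor ν * (k * c.u (φ t') * k⁻¹) * (c.tor ν)⁻¹ by group, e, c.tor_conj_u]
        congr 1
        linear_combination φ t' * hν3
      rw [mul_inv_eq_iff_eq_mul] at e2
      exact e2.symm
    · rw [mul_smul, c.psi_tor]
      simp only [Matrix.cons_val_one, Matrix.cons_val_zero]
      conv_rhs => rw [← smul_inv_smul g v, hξ]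
      rw [hk, mul_smul, mul_smul, hξ, c.psi_tor]
      simp only [Matrix.cons_val_one, Matrix.cons_val_zero]
      rw [hξx, hξx, map_mul, show τ ((s.μ₀⁻¹ : c.Fˣ) : c.F) = ((ν⁻¹ : c.Fˣ) : c.F) by rw [hν, ← map_inv]; rfl]
      have e : ((ν⁻¹ : c.Fˣ) : c.F) = (ν : c.F) * ν := by
        refine mul_left_cancel₀ (Units.ne_zero ν) ?_
        rw [← Units.val_mul, mul_inv_cancel, Units.val_one, ← mul_assoc, hν3]
      rw [e]
      linear_combination (ν : c.F) * (ξ₁ * τ (c.ψ (g⁻¹ • v) 1)) * hν3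
    · have h1 : dlt W k v ∈ img W D := conj_tor_sub_mem hD hg s s.μ₀ hv
      have h2' : dlt W (c.tor ν) v ∈ img W D := by
        have := conj_tor_sub_mem hD (g := 1) (one_mem _) s ν hv
        simpa using this
      rw [dlt_mul, dlt_apply (c.tor ν) (dlt W k v)]
      exact add_mem (add_mem h2' h1) (sub_mem (smul_mem_img (tor_mem_normalizer hD ν) h1) h1)
  obtain ⟨r₀, hS₀, hP₀⟩ := s.exists_scal hD hd hp h4 w (Units.ne_zero ν) hpre
  set ζ := c.u r₀ * (c.tor ν * k)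
  have hinner : inner W D ≤ D := s.inner_le hD hd hp h4 w hinj (Units.ne_zero ν) hν1 hS₀
  have hcube : ∀ {ω : c.F} {x : H}, ω * ω * ω = 1 → s.Scal ω x → Pre c ω x → x * x * x = 1 := by
    intro ω x hω hS hP
    have h1 := (hP.mul hP).mul hP
    rw [hω] at h1
    obtain ⟨t, ht⟩ := c.exists_u (hinner (inner_of_pre hD h1))
    have h3 : c.u t • s.sx 1 = s.sx 1 := by
      rw [ht, mul_smul, mul_smul, hS.sx, hS.sx, hS.sx, mul_one, ← mul_assoc, hω]
    rw [smul_eq, s.dlt_u hD, s.psi_sx, add_eq_left] at h3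
    simp only [Matrix.cons_val_one, Matrix.cons_val_zero, mul_one] at h3
    have h5 := (s.sy_ext (s.θ_mem t 1) (zero_mem _) (a' := 0) (by rw [h3, map_zero, add_zero])).1
    rw [← ht, h5, c.u_zero]
  have hζ3 : ζ * ζ * ζ = 1 := hcube hν3 hS₀ hP₀
  -- its conjugate by `g`
  set ζ' := g⁻¹ * ζ * g with hζ'
  have hP' : Pre c (s.μ₀ : c.F) ζ' := by
    refine ⟨fun d hd' => ?_, fun v => ?_, fun v hv => ?_⟩
    · have := hP₀.cent _ ((mem_normalizer_iff.mp hg d).mp hd')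
      calc d * ζ' = g⁻¹ * (g * d * g⁻¹ * ζ) * g := by rw [hζ']; group
        _ = g⁻¹ * (ζ * (g * d * g⁻¹)) * g := by rw [this]
        _ = ζ' * d := by rw [hζ']; group
    · have h1 := hξ (ζ' • v)
      rw [hζ', ← mul_smul, show g * (g⁻¹ * ζ * g) = ζ * g by group, mul_smul, hP₀.scale, hξ, hξx, hξx,
        mul_left_comm, hνv, ← map_mul] at h1
      exact (τ.injective (mul_left_cancel₀ hξ₁ h1)).symm
    · rw [show ζ' = g⁻¹ * ζ * g⁻¹⁻¹ by rw [hζ', inv_inv], dlt_conj]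
      refine smul_mem_img hgi (hP₀.trivial _ ?_)
      rw [inv_inv]
      exact smul_mem_fixA_of_normalizer W hg hv
  have hμ3 : (s.μ₀ : c.F) * s.μ₀ * s.μ₀ = 1 := τ.injective (by rw [map_mul, map_mul, ← hνv, hν3, map_one])
  have hS' : s.Scal (s.μ₀ : c.F) ζ' := by
    obtain ⟨r, hS, hP⟩ := s.exists_scal hD hd hp h4 w (Units.ne_zero s.μ₀) hP'
    suffices hr : r = 0 by rwa [hr, c.u_zero, one_mul] at hS
    have h3 : ζ' * ζ' * ζ' = 1 := by
      rw [hζ', show g⁻¹ * ζ * g * (g⁻¹ * ζ * g) * (g⁻¹ * ζ * g) = g⁻¹ * (ζ * ζ * ζ) * g by group, hζ3]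
      group
    have hc : Commute (c.u r) ζ' := hP'.cent _ (c.u_mem r)
    have h6 : (c.u r * ζ') * (c.u r * ζ') * (c.u r * ζ') = c.u r * c.u r * c.u r * (ζ' * ζ' * ζ') := by
      have e : (c.u r * ζ') ^ 3 = c.u r ^ 3 * ζ' ^ 3 := hc.mul_pow 3
      simpa [pow_succ] using e
    rw [hcube hμ3 hS hP, h3, mul_one, ← c.u_add, ← c.u_add, ← c.u_zero] at h6
    linear_combination -(c.u_injective h6) - r * h2
  -- the inverse element
  have hdec : ∀ {x : H}, x ∈ normalizer (D : Set H) → ∀ v ∈ img W D, c.ψ (x • v) 0 = 0 →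
      ∃ y, x • v = s.θ 1 y := fun {x} hx v hv h0 => by
    obtain ⟨a, y, e⟩ := s.img_decomp hD hd hp (smul_mem_img hx hv)
    rw [e, s.psi_axes] at h0
    exact ⟨y, by rw [e, show a = 0 from h0, map_zero, zero_add]⟩
  obtain ⟨hA', hB'⟩ : (∀ a, c.ψ (g⁻¹ • s.sy a) 0 = 0) ∧ ∀ u, u ≠ 0 → c.ψ (g⁻¹ • s.θ 1 u) 0 ≠ 0 := by
    rcases s.dich hD hd hgi with h | ⟨-, h⟩
    · exfalso
      choose f hf using fun y => hdec hgi _ (s.θ_mem_img hD 1 y) (h 1 y)
      have hfi : Function.Injective f := fun a b e => by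
        refine sub_eq_zero.mp (hinj _ ?_)
        have e' : g⁻¹ • s.θ 1 a = g⁻¹ • s.θ 1 b := by rw [hf, hf, e]
        rw [sub_eq_add_neg, s.θ_add_right, s.θ_neg_right, smul_left_cancel _ e', add_neg_cancel]
      obtain ⟨y, hy⟩ := Finite.surjective_of_injective hfi 1
      have h1 := hf y
      rw [hy] at h1
      refine hB 1 one_ne_zero ?_
      rw [← h1, smul_inv_smul, (c.ker _).mpr (s.θ_mem 1 y)]
      rfl
    · exact h
  let Φ : W →+ c.F := (Pi.evalAddMonoidHom (fun _ : Fin 2 => c.F) 0).comp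
    (c.ψ.comp (DistribSMul.toAddMonoidHom W g⁻¹))
  have hΦdef : ∀ v, Φ v = c.ψ (g⁻¹ • v) 0 := fun _ => rfl
  have hshift : ∀ v, Φ (ζ • v) = (s.μ₀ : c.F) * Φ v := fun v => by
    rw [hΦdef, hΦdef, ← hS'.psi_zero, ← mul_smul, ← mul_smul,
      show g⁻¹ * ζ = ζ' * g⁻¹ by rw [hζ']; group]
  let R : c.F →+ c.F := Φ.comp s.sx
  let B' : c.F →+ c.F := Φ.comp (AddMonoidHom.mk' (s.θ 1) (s.θ_add_right 1))
  obtain ⟨β', hβ'0, hB''⟩ : ∃ β', β' ≠ 0 ∧ ∀ x, B' (τ x) = β' * x := by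
    refine ⟨B' 1, hB' 1 one_ne_zero, fun x => ?_⟩
    have h1 : B' (ν : c.F) = (s.μ₀ : c.F) * B' 1 := by
      show Φ (s.θ 1 (ν : c.F)) = _ * Φ (s.θ 1 1)
      rw [← hshift, hS₀.th, mul_one]
    have := s.semilinear_four hd hp h4 (B'.comp τ.toAddMonoidHom) (RingHom.id c.F)
      (by show B' (τ s.μ₀) = _ * B' (τ 1); rw [map_one, ← hνv, h1]; rfl) x
    simpa using this
  have hR0 : ∀ x, R x = 0 := fun x => by
    obtain ⟨x, rfl⟩ := hτs x
    have h1 : R (ν : c.F) = (s.μ₀ : c.F) * R 1 := by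
      show Φ (s.sx (ν : c.F)) = _ * Φ (s.sx 1)
      rw [← hshift, hS₀.sx, mul_one]
    have := s.semilinear_four hd hp h4 (R.comp τ.toAddMonoidHom) (RingHom.id c.F)
      (by show R (τ s.μ₀) = _ * R (τ 1); rw [map_one, ← hνv, h1]; rfl) x
    simp only [AddMonoidHom.coe_comp, RingHom.toAddMonoidHom_eq_coe, AddMonoidHom.coe_coe, Function.comp_apply,
      map_one, RingHom.id_apply] at this
    rw [this, show R 1 = 0 from hR, zero_mul]
  have hΦy : ∀ a, Φ (s.sy a) = 0 := hA'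
  have hΦθ : ∀ a, Φ (s.θ 1 a) = B' a := fun _ => rfl
  have hΦx : ∀ a, Φ (s.sx a) = 0 := hR0
  have hτB : ∀ q, τ (B' q) = τ β' * q := fun q => by
    obtain ⟨x, rfl⟩ := hτs q
    rw [hB'', map_mul]
  -- the element `g` on the axes
  let S : c.F →+ c.F := AddMonoidHom.mk' (fun a => c.ψ (g • s.sx a) 0) fun a b => by
    rw [map_add, smul_add, map_add, Pi.add_apply]
  have hS1 : ∀ x, S x = S 1 * τ x := s.semilinear_four hd hp h4 S τ (by
    show c.ψ (g • s.sx (s.μ₀ : c.F)) 0 = τ s.μ₀ * c.ψ (g • s.sx 1) 0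
    rw [← hνv, ← hS₀.psi_zero, ← mul_smul, show ζ * g = g * ζ' by rw [hζ']; group, mul_smul, hS'.sx,
      mul_one])
  have hsq : ∀ t : c.F, s.θ t = fun x => s.θ 1 (t * t * x) := fun t => funext fun x =>
    s.θ_eq_one hD (by linear_combination hpow t) x
  let κ : c.F →+ c.F := AddMonoidHom.mk' (fun t => S 1 * τ t + φ₁ * ξ₁ * (τ t * τ t)) fun a b => by
    simp only [map_add]
    linear_combination φ₁ * ξ₁ * τ a * τ b * h2
  have helt : ∀ t v, c.ψ (dlt W (g * c.l t * g⁻¹) v) 0 = κ t * τ (Φ v) := by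
    intro t v
    rw [dlt_conj, s.dlt_l hD, hsq, smul_add, map_add, Pi.add_apply, hβ,
      show c.ψ (g • s.sx (t * c.ψ (g⁻¹ • v) 0)) 0 = S (t * c.ψ (g⁻¹ • v) 0) from rfl, hS1, ← hΦdef]
    show _ = (S 1 * τ t + φ₁ * ξ₁ * (τ t * τ t)) * τ (Φ v)
    simp only [map_mul]
    ring
  set E := cj g c.opp with hEdef
  have hE : IsRoot W p E := isRoot_cj (isRoot_cj hD _) _
  have hfix : ∀ v, v ∈ fixA W E ↔ Φ v = 0 := fun v => by
    rw [hΦdef]
    conv_lhs => rw [← smul_inv_smul g v, hEdef, smul_mem_fixA_cj, c.mem_fixA_opp_iff hD]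
  have hκi : Function.Injective κ := by
    rw [injective_iff_map_eq_zero]
    intro t ht
    by_contra ht0
    set x := g * c.l t * g⁻¹ with hx
    have hxE : x ∈ E := conj_mem_cj (c.l_mem_opp t)
    have hx1 : x ≠ 1 := fun e => ht0 (by
      have h1 : c.l t = c.l 0 := by rw [c.l_zero]; simpa [hx] using e
      have h5 := c.ρ.symm.injective (Subtype.ext h1 : c.ρ.symm (c.lowMat t) = c.ρ.symm (c.lowMat 0))
      simpa [Coord.lowMat] using congrFun (congrFun (congrArg Subtype.val h5) 1) 0)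
    have hx0 : ∀ v, c.ψ (dlt W x v) 0 = 0 := fun v => by rw [helt, ht, zero_mul]
    have hxopp : cj x c.opp = c.opp := by
      refine (isRoot_cj (isRoot_cj hD _) x).eq_of_fixA_le hd (isRoot_cj hD c.wy) (card_cj _ _) fun v hv => ?_
      rw [← smul_inv_smul x v] at hv
      have hv' := (smul_mem_fixA_cj x).mp hv
      change x⁻¹ • v ∈ fixA W c.opp at hv'
      rw [c.mem_fixA_opp_iff hD] at hv'
      rw [c.mem_fixA_opp_iff hD, ← smul_inv_smul x v, smul_eq x, map_add, Pi.add_apply, hx0, add_zero, hv']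
    obtain ⟨t₁, ht₁⟩ := c.mem_opp_iff.mp (hxopp.le (conj_mem_cj (c.l_mem_opp 1)))
    have hv0 : c.ψ (x⁻¹ • s.sy 1) 0 = 1 := by
      have h1 := hx0 (x⁻¹ • s.sy 1)
      rw [dlt_apply, smul_inv_smul, map_sub, Pi.sub_apply, sub_eq_zero, s.psi_sy] at h1
      exact h1.symm
    have e1 : dlt W (c.l t₁) (s.sy 1) = x • dlt W (c.l 1) (x⁻¹ • s.sy 1) := by rw [ht₁, dlt_conj]
    rw [s.dlt_l hD, s.dlt_l hD, hv0, hsq t₁, hsq 1, s.psi_sy] at e1
    simp only [Matrix.cons_val_zero, mul_one] at e1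
    rw [smul_eq x] at e1
    have him : Φ (dlt W x (s.sx 1 + s.θ 1 1)) = 0 := (hfix _).mp (hE.dlt_mem hd hxE _)
    have e2 := congrArg Φ e1
    rw [map_add, map_add, map_add, hΦx, hΦx, hΦθ, hΦθ, him, add_zero, zero_add, zero_add] at e2
    have hB'i : ∀ a b, B' a = B' b → a = b := fun a b e => by
      by_contra hab
      exact hB' (a - b) (sub_ne_zero.mpr hab) (by
        show B' (a - b) = 0
        rw [map_sub, e, sub_self])
    have ht1 : t₁ = 1 := by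
      have h := hB'i _ _ e2
      have h1 := hpow t₁
      linear_combination -h1 + (t₁ * t₁ + 1) * h
    subst ht1
    simp only [mul_one, left_eq_add] at e1
    have h5 := hE.mem_fixA_of_single hd hxE hx1 (dlt_eq_zero_iff.mp e1)
    rw [hfix, map_add, hΦx, zero_add, hΦθ] at h5
    exact one_ne_zero (hB'i 1 0 (h5.trans (map_zero B').symm))
  have hκs := Finite.surjective_of_injective hκi
  have hy0 := w.move
  have hΦz : Φ z = c.ψ z 0 := by
    rw [hΦdef, show g⁻¹ • z = z by rw [inv_smul_eq_iff, hgz]]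
  obtain ⟨q, hq⟩ : ∃ q, q = τ (c.ψ z 0 / β') / c.ψ z 0 := ⟨_, rfl⟩
  have hq0 : q ≠ 0 := hq ▸ div_ne_zero ((map_ne_zero τ).mpr (div_ne_zero hy0 hβ'0)) hy0
  set r := q * q with hr
  have hrr : r * r = q := by rw [hr]; linear_combination hpow q
  have hlθ : ∀ x, s.θ r x = s.θ 1 (q * x) := fun x => by rw [hsq]; simp only [hrr]
  obtain ⟨t, ht⟩ := hκs (((s.μ₀ : c.F) + 1) / (τ β' * s.μ₀ * q))
  have hneg : ∀ a : c.F, -a = a := fun a => by linear_combination -a * h2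
  refine w.false_of_root hd hD hE (by rw [hEdef, card_cj, Coord.opp, card_cj]) (r := r) ?_
    (g := g * c.l t * g⁻¹) (conj_mem_cj (c.l_mem_opp t)) (μ := s.μ₀) fun v hv => ?_
  · rw [hfix, ← c.l_neg, hneg, smul_eq, map_add, hΦz, s.dlt_l hD, hlθ, map_add, hΦx, zero_add, hΦθ,
      show q * c.ψ z 0 = τ (c.ψ z 0 / β') by rw [hq]; field_simp, hB'']
    field_simp
    linear_combination c.ψ z 0 * h2
  · obtain ⟨z', hz', ev⟩ := s.exists_eq v
    have hΦz' : Φ z' = 0 := by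
      have h1 := (hfix v).mp hv
      rwa [ev, map_add, map_add, hΦy, hΦx, zero_add, zero_add] at h1
    rw [← c.l_neg, hneg, ← c.tor_inv]
    set Y := c.ψ v 0 with hY
    set X := c.ψ v 1 with hX
    have e1 : c.l r • v = s.sy Y + s.sx (X + r * Y) + (z' + s.θ 1 (q * Y)) := by
      rw [smul_eq, s.dlt_l hD, hlθ, ← hY, map_add]
      nth_rw 1 [ev]
      abel
    have e2 : c.tor s.μ₀⁻¹ • (c.l r • v) = s.sy (((s.μ₀ : c.F) + 1) * Y) + s.sx ((s.μ₀ : c.F) * (X + r * Y)) +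
        (z' + s.θ 1 (q * Y)) := by
      rw [e1, smul_add, smul_add, s.tor_sy, s.tor_sx, inv_inv, hμi,
        (add_mem hz' (s.θ_mem 1 _) : z' + s.θ 1 (q * Y) ∈ fixA W c.L) _ (c.tor_mem_L _)]
    have e3 : c.ψ (c.tor s.μ₀⁻¹ • (c.l r • v)) 0 = ((s.μ₀ : c.F) + 1) * Y := by
      rw [c.psi_tor, c.psi_l, hμi]
      rfl
    rw [smul_eq (g * c.l t * g⁻¹), map_add, Pi.add_apply, helt, smul_eq (c.l r) (c.tor s.μ₀⁻¹ • (c.l r • v)),
      s.dlt_l hD, hlθ, e3]
    simp only [map_add, Pi.add_apply, e3, s.psi_sx, hΦx, hΦθ, (c.ker _).mpr (s.θ_mem 1 _),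
      Matrix.cons_val_zero, add_zero, zero_add]
    simp only [e2, map_add, hΦy, hΦx, hΦθ, hΦz', zero_add, hτB, ht]
    have hτβ : τ β' ≠ 0 := (map_ne_zero τ).mpr hβ'0
    field_simp
    linear_combination ((s.μ₀ : c.F) + 1) ^ 2 * Y * h2

omit [Finite H] [Finite W] [Fact p.Prime] hd hD hp h4 w in
theorem psi_u_zero (r : c.F) (v : W) : c.ψ (c.u r • v) 0 = c.ψ v 0 + r * c.ψ v 1 := by
  rw [c.psi_u]
  rfl

/-- The second type is impossible. -/
theorem false_of_typeTwo' {g : H} (hg : g ∈ normalizer (D : Set H)) (hgz : g • z = z)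
    (hA : ∀ a, c.ψ (g • s.sy a) 0 = 0) (hB : ∀ u, u ≠ 0 → c.ψ (g • s.θ 1 u) 0 ≠ 0) : False := by
  obtain ⟨h2, -⟩ := s.four_facts hd hp h4
  set e := c.ψ (g⁻¹ • s.sx 1) 1 with he
  have he0 : e ≠ 0 := fun e0 => by
    have h1 : g⁻¹ • s.sx 1 ∈ fixA W D := (c.mem_fixA_iff hD _).mpr e0
    have h3 := smul_mem_fixA_of_normalizer W hg h1
    rw [smul_inv_smul, c.mem_fixA_iff hD, s.psi_sx] at h3
    exact one_ne_zero h3
  set r := c.ψ (g⁻¹ • s.sx 1) 0 / e
  have hun : c.u r ∈ normalizer (D : Set H) := le_normalizer (c.u_mem r)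
  refine s.false_aux hD hd hp h4 w (g := g * c.u r) (mul_mem hg hun) ?_ (fun a => ?_) (fun u hu => ?_) ?_
  · rw [mul_smul, w.fix _ (c.u_mem r), hgz]
  · rw [mul_smul, s.sy_mem_fixA hD a _ (c.u_mem r)]; exact hA a
  · rw [mul_smul, c.u_smul_L (s.θ_mem 1 u)]; exact hB u hu
  · rw [mul_inv_rev, ← c.u_neg, show -r = r by linear_combination -r * h2, mul_smul, psi_u_zero, ← he,
      div_mul_cancel₀ _ he0]
    linear_combination c.ψ (g⁻¹ • s.sx 1) 0 * h2

end Split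

end Cfsg.Agent.PMinFF
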